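import Cfsg.Agent.Lib.Spor.CoThreeCent.Fast

/-!
The checks of a certificate from checks of single rows.
-/

set_option autoImplicit false

namespace Cfsg.Agent.Spor.CoThreeCent

open DCoset

variable (mu : ℕ → ℕ → ℕ) (c : Cert)

theorem getD_cgv {j : ℕ} (hj : j < c.cg.length) :
    ((List.range c.cg.length).map fun j => c.ev mu (c.cg.getD j ([], [])).1).getD j 0 =
      c.ev mu (c.cg.getD j ([], [])).1 := by
  rw [List.getD_eq_getElem _ _ (by simpa using hj), List.getElem_map, List.getElem_range]

theorem sizeOK_of (N : ℕ) (h1 : Nat.beq c.hLists.length (c.tree.length + 1) = true) (hlen : c.hLists.length = 7)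
    (hh : ∀ i < 7, i ≠ 0 → c.hOK mu i (c.hLists.getD i (0, [])).2 = true ∧
      (Cert.vals (c.hLists.getD i (0, [])).2).Nodup ∧
      (c.hLists.getD i (0, [])).1 * (c.hLists.getD i (0, [])).2.length = N)
    (h0 : Nat.beq (c.hLists.getD 0 (0, [])).1 1 = true) (hd : (Cert.vals c.dList).Nodup)
    (hp : Nat.beq (c.pts.length * c.dList.length) N = true) : c.sizeOK mu N = true := by
  simp only [Cert.sizeOK, Bool.and_eq_true, Bool.or_eq_true, List.all_eq_true, List.mem_range, beq_iff_eq]
  refine ⟨⟨⟨⟨h1, fun i hi => ?_⟩, h0⟩, ?_⟩, hp⟩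
  · rcases Nat.eq_zero_or_pos i with rfl | hpos
    · exact Or.inl rfl
    · obtain ⟨a, b, e⟩ := hh i (hlen ▸ hi) hpos.ne'
      refine Or.inr ⟨⟨a, ?_⟩, ?_⟩
      · rw [List.dedup_eq_self.2 b, Cert.vals, List.length_map]
      · rw [e]; exact Nat.beq_refl N
  · rw [List.dedup_eq_self.2 hd, Cert.vals, List.length_map]

theorem ptsOK_of (uC : ℕ) (hu : c.ev mu c.u = uC) (hlen : c.pts.length = 630)
    (hA : ∀ k < 630, Nat.beq (c.pts.getD k 0) (c.ev mu (c.pw.getD k [])) = true)
    (hB : ∀ k < 630, Nat.beq (mu (c.pts.getD k 0) (c.ev mu (c.reps.getD k [])))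
      (mu (c.ev mu (c.reps.getD k [])) uC) = true)
    (hC : ∀ k < 630, ((List.range c.gens.length).all fun g =>
      Nat.blt ((c.moves.getD k []).getD g c.pts.length) c.pts.length &&
        Nat.beq (mu (c.gens.getD g c.one) (c.pts.getD k 0))
          (mu (c.pts.getD ((c.moves.getD k []).getD g c.pts.length) 0) (c.gens.getD g c.one))) = true)
    (hm : c.pts.elem uC = true) : c.ptsOK mu = true := by
  simp only [Cert.ptsOK, Bool.and_eq_true, hu]
  refine ⟨⟨⟨?_, ?_⟩, ?_⟩, hm⟩ <;> rw [List.all_eq_true] <;> intro k hk <;> rw [List.mem_range, hlen] at hk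
  exacts [hA k hk, hB k hk, hC k hk]

theorem covAll_of (uC : ℕ) (hu : c.ev mu c.u = uC) (h1 : c.cov.length = c.tree.length + 1) (hlen : c.cov.length = 7)
    (h : ∀ i < 7, ((List.range c.pts.length).all fun k => ((c.cov.getD i []).map Prod.fst).elem k) = true ∧
      ∀ n < (c.cov.getD i []).length, (match (c.cov.getD i []).getD n (0, Src.par n 0) with
      | (k, Src.edge e) =>
        match c.look mu c.facts.length e with
        | some (i', a, j, _) => Nat.beq i' i && Nat.ble j c.tree.length && Nat.beq (mu a uC) (mu (c.pts.getD k 0) a)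
        | none => false
      | (k, Src.par p f) =>
        Nat.blt p n && Nat.blt f c.facts.length && Nat.blt ((c.cov.getD i []).getD p (0, Src.par p 0)).1 c.pts.length &&
          match c.fact f with
          | Fact.H i' h => Nat.beq i' i &&
              Nat.beq (mu h (c.pts.getD ((c.cov.getD i []).getD p (0, Src.par p 0)).1 0)) (mu (c.pts.getD k 0) h)
          | _ => false) = true) : c.covAll mu = true := by
  simp only [Cert.covAll, Cert.covOK, Bool.and_eq_true, List.all_eq_true, List.mem_range]
  refine ⟨by rw [h1]; exact Nat.beq_refl _, fun i hi => ⟨?_, fun n hn => ?_⟩⟩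
  · exact fun k hk => (List.all_eq_true.1 (h i (hlen ▸ hi)).1) k (List.mem_range.2 hk)
  · have := (h i (hlen ▸ hi)).2 n hn
    simp only [Cert.covOne, hu]
    exact this

theorem nodup_of_chain {l q : List ℕ} (hlen : q.length = l.length) (hq : ∀ x ∈ q, x ∈ l)
    (hinc : ∀ x ∈ q.zip q.tail, x.1 < x.2) : l.Nodup := by
  have hc : ∀ q : List ℕ, (∀ x ∈ q.zip q.tail, x.1 < x.2) → q.Pairwise (· < ·) := by
    intro q
    induction q with
    | nil => simp
    | cons a q ih =>
      intro h
      rw [List.pairwise_cons]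
      have hp : q.Pairwise (· < ·) := ih fun x hx => h x (by
        cases q with
        | nil => simp at hx
        | cons b q => exact List.mem_cons_of_mem _ hx)
      refine ⟨fun y hy => ?_, hp⟩
      cases q with
      | nil => simp at hy
      | cons b q =>
        have hab : a < b := h (a, b) (List.mem_cons_self ..)
        rcases List.mem_cons.1 hy with rfl | hy
        · exact hab
        · exact hab.trans ((List.pairwise_cons.1 hp).1 y hy)
  have hn : q.Nodup := (hc q hinc).nodup
  exact ((List.subperm_of_subset hn hq).perm_of_length_le hlen.ge).nodup_iff.1 hn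

theorem zip_map_tail {α β : Type} (f : α → β) (p : List α) :
    (p.map f).zip (p.map f).tail = (p.zip p.tail).map (Prod.map f f) := by
  rw [← List.map_tail, List.zip_map]

end Cfsg.Agent.Spor.CoThreeCent
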