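import Cfsg.Agent.Lib.Spor.CoThreeCent.CheckDefs

/-!
The coverings check.
-/

set_option autoImplicit false
set_option maxRecDepth 100000
set_option maxHeartbeats 0
set_option Elab.async false

namespace Cfsg.Agent.Spor.CoThreeCent

open DCoset

theorem covMem0 : ((List.range cert.pts.length).all fun k => ((cert.cov.getD 0 []).map Prod.fst).elem k) = true := by decide +kernel

theorem covRow0x0 : (List.range' 0 315).all (fun k => covRow 0 (cert.cov.getD 0 []) k) = true := by decide +kernel

theorem covRow0x1 : (List.range' 315 315).all (fun k => covRow 0 (cert.cov.getD 0 []) k) = true := by decide +kernel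

theorem covRow0x_all : ∀ k < 630, (covRow 0 (cert.cov.getD 0 []) k) = true := by
  intro k hk
  rcases (by omega : (0 ≤ k ∧ k < 315) ∨ (315 ≤ k ∧ k < 630)) with h | h
  · exact List.all_eq_true.1 covRow0x0 k (List.mem_range'_1.2 h)
  · exact List.all_eq_true.1 covRow0x1 k (List.mem_range'_1.2 h)

theorem covMem1 : ((List.range cert.pts.length).all fun k => ((cert.cov.getD 1 []).map Prod.fst).elem k) = true := by decide +kernel

theorem covRow1x0 : (List.range' 0 315).all (fun k => covRow 1 (cert.cov.getD 1 []) k) = true := by decide +kernel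

theorem covRow1x1 : (List.range' 315 315).all (fun k => covRow 1 (cert.cov.getD 1 []) k) = true := by decide +kernel

theorem covRow1x_all : ∀ k < 630, (covRow 1 (cert.cov.getD 1 []) k) = true := by
  intro k hk
  rcases (by omega : (0 ≤ k ∧ k < 315) ∨ (315 ≤ k ∧ k < 630)) with h | h
  · exact List.all_eq_true.1 covRow1x0 k (List.mem_range'_1.2 h)
  · exact List.all_eq_true.1 covRow1x1 k (List.mem_range'_1.2 h)

theorem covMem2 : ((List.range cert.pts.length).all fun k => ((cert.cov.getD 2 []).map Prod.fst).elem k) = true := by decide +kernel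

theorem covRow2x0 : (List.range' 0 315).all (fun k => covRow 2 (cert.cov.getD 2 []) k) = true := by decide +kernel

theorem covRow2x1 : (List.range' 315 315).all (fun k => covRow 2 (cert.cov.getD 2 []) k) = true := by decide +kernel

theorem covRow2x_all : ∀ k < 630, (covRow 2 (cert.cov.getD 2 []) k) = true := by
  intro k hk
  rcases (by omega : (0 ≤ k ∧ k < 315) ∨ (315 ≤ k ∧ k < 630)) with h | h
  · exact List.all_eq_true.1 covRow2x0 k (List.mem_range'_1.2 h)
  · exact List.all_eq_true.1 covRow2x1 k (List.mem_range'_1.2 h)

theorem covMem3 : ((List.range cert.pts.length).all fun k => ((cert.cov.getD 3 []).map Prod.fst).elem k) = true := by decide +kernel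

theorem covRow3x0 : (List.range' 0 315).all (fun k => covRow 3 (cert.cov.getD 3 []) k) = true := by decide +kernel

theorem covRow3x1 : (List.range' 315 315).all (fun k => covRow 3 (cert.cov.getD 3 []) k) = true := by decide +kernel

theorem covRow3x_all : ∀ k < 630, (covRow 3 (cert.cov.getD 3 []) k) = true := by
  intro k hk
  rcases (by omega : (0 ≤ k ∧ k < 315) ∨ (315 ≤ k ∧ k < 630)) with h | h
  · exact List.all_eq_true.1 covRow3x0 k (List.mem_range'_1.2 h)
  · exact List.all_eq_true.1 covRow3x1 k (List.mem_range'_1.2 h)

end Cfsg.Agent.Spor.CoThreeCent
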