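import Cfsg.Agent.Lib.Spor.CoThreeCent.CheckDefs

/-!
The coverings check.
-/

set_option autoImplicit false
set_option maxRecDepth 100000
set_option maxHeartbeats 0
set_option Elab.async false

namespace Cfsg.Agent.Spor.CoThreeCent

open DCoset

theorem covMem4 : ((List.range cert.pts.length).all fun k => ((cert.cov.getD 4 []).map Prod.fst).elem k) = true := by decide +kernel

theorem covRow4x0 : (List.range' 0 315).all (fun k => covRow 4 (cert.cov.getD 4 []) k) = true := by decide +kernel

theorem covRow4x1 : (List.range' 315 315).all (fun k => covRow 4 (cert.cov.getD 4 []) k) = true := by decide +kernel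

theorem covRow4x_all : ∀ k < 630, (covRow 4 (cert.cov.getD 4 []) k) = true := by
  intro k hk
  rcases (by omega : (0 ≤ k ∧ k < 315) ∨ (315 ≤ k ∧ k < 630)) with h | h
  · exact List.all_eq_true.1 covRow4x0 k (List.mem_range'_1.2 h)
  · exact List.all_eq_true.1 covRow4x1 k (List.mem_range'_1.2 h)

theorem covMem5 : ((List.range cert.pts.length).all fun k => ((cert.cov.getD 5 []).map Prod.fst).elem k) = true := by decide +kernel

theorem covRow5x0 : (List.range' 0 315).all (fun k => covRow 5 (cert.cov.getD 5 []) k) = true := by decide +kernel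

theorem covRow5x1 : (List.range' 315 315).all (fun k => covRow 5 (cert.cov.getD 5 []) k) = true := by decide +kernel

theorem covRow5x_all : ∀ k < 630, (covRow 5 (cert.cov.getD 5 []) k) = true := by
  intro k hk
  rcases (by omega : (0 ≤ k ∧ k < 315) ∨ (315 ≤ k ∧ k < 630)) with h | h
  · exact List.all_eq_true.1 covRow5x0 k (List.mem_range'_1.2 h)
  · exact List.all_eq_true.1 covRow5x1 k (List.mem_range'_1.2 h)

theorem covMem6 : ((List.range cert.pts.length).all fun k => ((cert.cov.getD 6 []).map Prod.fst).elem k) = true := by decide +kernel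

theorem covRow6x0 : (List.range' 0 315).all (fun k => covRow 6 (cert.cov.getD 6 []) k) = true := by decide +kernel

theorem covRow6x1 : (List.range' 315 315).all (fun k => covRow 6 (cert.cov.getD 6 []) k) = true := by decide +kernel

theorem covRow6x_all : ∀ k < 630, (covRow 6 (cert.cov.getD 6 []) k) = true := by
  intro k hk
  rcases (by omega : (0 ≤ k ∧ k < 315) ∨ (315 ≤ k ∧ k < 630)) with h | h
  · exact List.all_eq_true.1 covRow6x0 k (List.mem_range'_1.2 h)
  · exact List.all_eq_true.1 covRow6x1 k (List.mem_range'_1.2 h)


end Cfsg.Agent.Spor.CoThreeCent
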