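import Cfsg.Agent.Lib.Spor.CoThreeCent.CheckDefs

/-!
The facts of the certificate check.
-/

set_option autoImplicit false
set_option maxRecDepth 100000
set_option maxHeartbeats 0
set_option Elab.async false

namespace Cfsg.Agent.Spor.CoThreeCent

open DCoset

theorem factOK0 : (List.range' 0 140).all (fun k => cert.factOK mu k) = true := by decide +kernel

theorem factOK1 : (List.range' 140 140).all (fun k => cert.factOK mu k) = true := by decide +kernel

theorem factOK2 : (List.range' 280 140).all (fun k => cert.factOK mu k) = true := by decide +kernel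

theorem factOK3 : (List.range' 420 127).all (fun k => cert.factOK mu k) = true := by decide +kernel

theorem factOK_all : ∀ k < 547, (cert.factOK mu k) = true := by
  intro k hk
  rcases (by omega : (0 ≤ k ∧ k < 140) ∨ (140 ≤ k ∧ k < 280) ∨ (280 ≤ k ∧ k < 420) ∨ (420 ≤ k ∧ k < 547)) with h | h | h | h
  · exact List.all_eq_true.1 factOK0 k (List.mem_range'_1.2 h)
  · exact List.all_eq_true.1 factOK1 k (List.mem_range'_1.2 h)
  · exact List.all_eq_true.1 factOK2 k (List.mem_range'_1.2 h)
  · exact List.all_eq_true.1 factOK3 k (List.mem_range'_1.2 h)

theorem cert_inv : cert.invOK mu = true := by decide +kernel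

theorem cert_cg : cert.cgOK mu = true := by decide +kernel

end Cfsg.Agent.Spor.CoThreeCent
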