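import Cfsg.Agent.Lib.Spor.CoThreeCent.CheckDefs

/-!
The listed stabilizers check.
-/

set_option autoImplicit false
set_option maxRecDepth 100000
set_option maxHeartbeats 0
set_option Elab.async false

namespace Cfsg.Agent.Spor.CoThreeCent

open DCoset

theorem hRow1x0 : (List.range' 0 768).all (fun k => hRow mu cert hL1Cs 1 k) = true := by decide +kernel

theorem hRow1x1 : (List.range' 768 768).all (fun k => hRow mu cert hL1Cs 1 k) = true := by decide +kernel

theorem hRow1x2 : (List.range' 1536 768).all (fun k => hRow mu cert hL1Cs 1 k) = true := by decide +kernel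

theorem hRow1x3 : (List.range' 2304 768).all (fun k => hRow mu cert hL1Cs 1 k) = true := by decide +kernel

theorem hRow1x4 : (List.range' 3072 768).all (fun k => hRow mu cert hL1Cs 1 k) = true := by decide +kernel

theorem hRow1x5 : (List.range' 3840 768).all (fun k => hRow mu cert hL1Cs 1 k) = true := by decide +kernel

theorem hRow1x_all : ∀ k < 4608, (hRow mu cert hL1Cs 1 k) = true := by
  intro k hk
  rcases (by omega : (0 ≤ k ∧ k < 768) ∨ (768 ≤ k ∧ k < 1536) ∨ (1536 ≤ k ∧ k < 2304) ∨ (2304 ≤ k ∧ k < 3072) ∨ (3072 ≤ k ∧ k < 3840) ∨ (3840 ≤ k ∧ k < 4608)) with h | h | h | h | h | h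
  · exact List.all_eq_true.1 hRow1x0 k (List.mem_range'_1.2 h)
  · exact List.all_eq_true.1 hRow1x1 k (List.mem_range'_1.2 h)
  · exact List.all_eq_true.1 hRow1x2 k (List.mem_range'_1.2 h)
  · exact List.all_eq_true.1 hRow1x3 k (List.mem_range'_1.2 h)
  · exact List.all_eq_true.1 hRow1x4 k (List.mem_range'_1.2 h)
  · exact List.all_eq_true.1 hRow1x5 k (List.mem_range'_1.2 h)

theorem hRow2x0 : (List.range' 0 96).all (fun k => hRow mu cert hL2Cs 2 k) = true := by decide +kernel

theorem hRow2x_all : ∀ k < 96, (hRow mu cert hL2Cs 2 k) = true := by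
  intro k hk
  rcases (by omega : (0 ≤ k ∧ k < 96)) with h
  · exact List.all_eq_true.1 hRow2x0 k (List.mem_range'_1.2 h)

theorem hRow3x0 : (List.range' 0 324).all (fun k => hRow mu cert hL3Cs 3 k) = true := by decide +kernel

theorem hRow3x_all : ∀ k < 324, (hRow mu cert hL3Cs 3 k) = true := by
  intro k hk
  rcases (by omega : (0 ≤ k ∧ k < 324)) with h
  · exact List.all_eq_true.1 hRow3x0 k (List.mem_range'_1.2 h)

theorem hRow4x0 : (List.range' 0 36).all (fun k => hRow mu cert hL4Cs 4 k) = true := by decide +kernel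

theorem hRow4x_all : ∀ k < 36, (hRow mu cert hL4Cs 4 k) = true := by
  intro k hk
  rcases (by omega : (0 ≤ k ∧ k < 36)) with h
  · exact List.all_eq_true.1 hRow4x0 k (List.mem_range'_1.2 h)

theorem hRow5x0 : (List.range' 0 60).all (fun k => hRow mu cert hL5Cs 5 k) = true := by decide +kernel

theorem hRow5x_all : ∀ k < 60, (hRow mu cert hL5Cs 5 k) = true := by
  intro k hk
  rcases (by omega : (0 ≤ k ∧ k < 60)) with h
  · exact List.all_eq_true.1 hRow5x0 k (List.mem_range'_1.2 h)

theorem hRow6x0 : (List.range' 0 768).all (fun k => hRow mu cert hL6Cs 6 k) = true := by decide +kernel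

theorem hRow6x1 : (List.range' 768 744).all (fun k => hRow mu cert hL6Cs 6 k) = true := by decide +kernel

theorem hRow6x_all : ∀ k < 1512, (hRow mu cert hL6Cs 6 k) = true := by
  intro k hk
  rcases (by omega : (0 ≤ k ∧ k < 768) ∨ (768 ≤ k ∧ k < 1512)) with h | h
  · exact List.all_eq_true.1 hRow6x0 k (List.mem_range'_1.2 h)
  · exact List.all_eq_true.1 hRow6x1 k (List.mem_range'_1.2 h)


end Cfsg.Agent.Spor.CoThreeCent
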