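import Cfsg.Agent.Lib.Spor.CoThreeCent.CheckDefs

/-!
The points check.
-/

set_option autoImplicit false
set_option maxRecDepth 100000
set_option maxHeartbeats 0
set_option Elab.async false

namespace Cfsg.Agent.Spor.CoThreeCent

open DCoset

theorem ptA0 : (List.range' 0 70).all (fun k => ptA k) = true := by decide +kernel

theorem ptA1 : (List.range' 70 70).all (fun k => ptA k) = true := by decide +kernel

theorem ptA2 : (List.range' 140 70).all (fun k => ptA k) = true := by decide +kernel

theorem ptA3 : (List.range' 210 70).all (fun k => ptA k) = true := by decide +kernel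

theorem ptA4 : (List.range' 280 70).all (fun k => ptA k) = true := by decide +kernel

theorem ptA5 : (List.range' 350 70).all (fun k => ptA k) = true := by decide +kernel

theorem ptA6 : (List.range' 420 70).all (fun k => ptA k) = true := by decide +kernel

theorem ptA7 : (List.range' 490 70).all (fun k => ptA k) = true := by decide +kernel

theorem ptA8 : (List.range' 560 70).all (fun k => ptA k) = true := by decide +kernel

theorem ptA_all : ∀ k < 630, (ptA k) = true := by
  intro k hk
  rcases (by omega : (0 ≤ k ∧ k < 70) ∨ (70 ≤ k ∧ k < 140) ∨ (140 ≤ k ∧ k < 210) ∨ (210 ≤ k ∧ k < 280) ∨ (280 ≤ k ∧ k < 350) ∨ (350 ≤ k ∧ k < 420) ∨ (420 ≤ k ∧ k < 490) ∨ (490 ≤ k ∧ k < 560) ∨ (560 ≤ k ∧ k < 630)) with h | h | h | h | h | h | h | h | h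
  · exact List.all_eq_true.1 ptA0 k (List.mem_range'_1.2 h)
  · exact List.all_eq_true.1 ptA1 k (List.mem_range'_1.2 h)
  · exact List.all_eq_true.1 ptA2 k (List.mem_range'_1.2 h)
  · exact List.all_eq_true.1 ptA3 k (List.mem_range'_1.2 h)
  · exact List.all_eq_true.1 ptA4 k (List.mem_range'_1.2 h)
  · exact List.all_eq_true.1 ptA5 k (List.mem_range'_1.2 h)
  · exact List.all_eq_true.1 ptA6 k (List.mem_range'_1.2 h)
  · exact List.all_eq_true.1 ptA7 k (List.mem_range'_1.2 h)
  · exact List.all_eq_true.1 ptA8 k (List.mem_range'_1.2 h)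

end Cfsg.Agent.Spor.CoThreeCent
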