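import Cfsg.Agent.Lib.Spor.CoThreeCent.CheckDefs

/-!
The points check.
-/

set_option autoImplicit false
set_option maxRecDepth 100000
set_option maxHeartbeats 0
set_option Elab.async false

namespace Cfsg.Agent.Spor.CoThreeCent

open DCoset

theorem ptB0 : (List.range' 0 210).all (fun k => ptB k) = true := by decide +kernel

theorem ptB1 : (List.range' 210 210).all (fun k => ptB k) = true := by decide +kernel

theorem ptB2 : (List.range' 420 210).all (fun k => ptB k) = true := by decide +kernel

theorem ptB_all : ∀ k < 630, (ptB k) = true := by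
  intro k hk
  rcases (by omega : (0 ≤ k ∧ k < 210) ∨ (210 ≤ k ∧ k < 420) ∨ (420 ≤ k ∧ k < 630)) with h | h | h
  · exact List.all_eq_true.1 ptB0 k (List.mem_range'_1.2 h)
  · exact List.all_eq_true.1 ptB1 k (List.mem_range'_1.2 h)
  · exact List.all_eq_true.1 ptB2 k (List.mem_range'_1.2 h)

theorem ptC0 : (List.range' 0 126).all (fun k => ptC k) = true := by decide +kernel

theorem ptC1 : (List.range' 126 126).all (fun k => ptC k) = true := by decide +kernel

theorem ptC2 : (List.range' 252 126).all (fun k => ptC k) = true := by decide +kernel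

theorem ptC3 : (List.range' 378 126).all (fun k => ptC k) = true := by decide +kernel

theorem ptC4 : (List.range' 504 126).all (fun k => ptC k) = true := by decide +kernel

theorem ptC_all : ∀ k < 630, (ptC k) = true := by
  intro k hk
  rcases (by omega : (0 ≤ k ∧ k < 126) ∨ (126 ≤ k ∧ k < 252) ∨ (252 ≤ k ∧ k < 378) ∨ (378 ≤ k ∧ k < 504) ∨ (504 ≤ k ∧ k < 630)) with h | h | h | h | h
  · exact List.all_eq_true.1 ptC0 k (List.mem_range'_1.2 h)
  · exact List.all_eq_true.1 ptC1 k (List.mem_range'_1.2 h)
  · exact List.all_eq_true.1 ptC2 k (List.mem_range'_1.2 h)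
  · exact List.all_eq_true.1 ptC3 k (List.mem_range'_1.2 h)
  · exact List.all_eq_true.1 ptC4 k (List.mem_range'_1.2 h)

theorem pts_u : cert.pts.elem uC = true := by decide +kernel

end Cfsg.Agent.Spor.CoThreeCent
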