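import Cfsg.Agent.Lib.Spor.CoThreeCent.CheckDefs

/-!
The stabilizers of the certificate check.
-/

set_option autoImplicit false
set_option maxRecDepth 100000
set_option maxHeartbeats 0

namespace Cfsg.Agent.Spor.CoThreeCent

open DCoset

/-- the values of a list in blocks increase along a permutation -/
def incOK (cs : List (List (ℕ × ℕ × ℕ))) (p : List ℕ) : Bool :=
  Nat.beq p.length cs.flatten.length && (p.all fun k => Nat.blt k cs.flatten.length) &&
    (p.zip p.tail).all fun x => Nat.blt (look2 cs (0, 0, 0) x.1).2.2 (look2 cs (0, 0, 0) x.2).2.2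

/-- sorting permutation of the points -/
def ptSort : List ℕ := [21, 15, 17, 55, 351, 391, 368, 164, 94, 596, 224, 441, 260, 405, 102, 543, 468, 562, 432, 457, 620, 167, 480, 394, 419, 215, 128, 155, 146, 129, 307, 221, 375, 108, 34, 494, 390, 548, 96, 71, 465, 266, 162, 400, 280, 448, 317, 488, 120, 299, 263, 517, 552, 283, 508, 84, 542, 544, 360, 73, 472, 238, 163, 598, 396, 232, 420, 303, 431, 171, 617, 406, 417, 192, 294, 553, 386, 332, 456, 259, 341, 429, 492, 559, 65, 242, 54, 14, 85, 154, 357, 330, 436, 151, 240, 31, 607, 207, 575, 187, 629, 76, 46, 563, 158, 177, 363, 383, 132, 500, 582, 556, 233, 246, 621, 580, 470, 613, 460, 560, 106, 274, 118, 191, 286, 442, 454, 463, 251, 157, 29, 150, 344, 557, 482, 172, 284, 515, 316, 529, 206, 319, 204, 116, 24, 236, 125, 364, 41, 592, 13, 495, 149, 547, 208, 199, 626, 427, 174, 576, 549, 43, 572, 117, 300, 79, 272, 205, 196, 313, 111, 141, 277, 40, 371, 628, 409, 346, 268, 200, 342, 112, 244, 329, 276, 524, 526, 347, 289, 223, 453, 86, 68, 428, 579,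 458, 402, 308, 90, 178, 311, 44, 144, 343, 72, 338, 293, 534, 481, 169, 627, 354, 611, 590, 107, 275, 622, 256, 509, 356, 413, 586, 558, 103, 334, 302, 426, 53, 430, 45, 195, 227, 379, 387, 153, 545, 181, 337, 466, 180, 134, 262, 58, 235, 603, 514, 48, 245, 60, 410, 156, 412, 486, 305, 520, 624, 83, 320, 261, 225, 69, 278, 478, 291, 241, 398, 59, 306, 399, 348, 92, 439, 198, 136, 421, 197, 567, 365, 565, 295, 372, 243, 279, 414, 408, 247, 447, 203, 253, 62, 325, 39, 625, 589, 566, 75, 568, 166, 450, 443, 38, 525, 322, 422, 218, 126, 573, 388, 318, 93, 380, 469, 501, 95, 89, 385, 8, 26, 50, 6, 115, 229, 569, 403, 623, 538, 377, 461, 250, 254, 133, 114, 190, 483, 564, 270, 584, 358, 541, 609, 440, 476, 258, 339, 604, 484, 540, 578, 327, 314, 487, 211, 519, 498, 475, 352, 160, 533, 231, 474, 415, 602, 376, 1, 531, 597, 503, 269, 104, 353, 257, 595, 530, 290, 587, 23, 27, 220, 88, 184, 349, 159, 99, 28, 189, 123, 395, 12, 265, 147, 513, 74, 282, 226, 2, 585, 462, 42, 392, 201, 301, 100, 336, 22, 479,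 142, 11, 512, 370, 140, 130, 183, 309, 127, 382, 209, 452, 298, 121, 546, 445, 493, 502, 113, 614, 367, 170, 561, 605, 425, 267, 239, 516, 577, 527, 9, 82, 161, 36, 57, 101, 271, 234, 418, 230, 216, 304, 143, 67, 384, 511, 593, 507, 599, 570, 64, 139, 97, 594, 464, 324, 249, 536, 331, 437, 612, 467, 407, 350, 362, 186, 7, 10, 81, 20, 49, 175, 3, 16, 471, 528, 435, 449, 497, 78, 588, 555, 228, 539, 446, 328, 19, 66, 176, 18, 326, 532, 444, 214, 506, 77, 255, 574, 119, 591, 213, 373, 148, 496, 550, 264, 459, 581, 618, 485, 335, 537, 292, 601, 135, 345, 369, 32, 35, 397, 25, 63, 173, 122, 411, 252, 188, 105, 615, 222, 616, 61, 518, 110, 434, 490, 535, 288, 87, 489, 70, 138, 182, 165, 281, 378, 473, 423, 194, 296, 510, 297, 374, 416, 80, 381, 610, 237, 202, 47, 219, 210, 98, 168, 600, 217, 287, 285, 433, 389, 491, 33, 315, 438, 52, 359, 583, 0, 366, 37, 551, 56, 455, 179, 606, 477, 321, 355, 505, 212, 248, 521, 393, 193, 451, 312, 310, 522, 273, 361, 404, 5, 571, 51, 401, 124, 185, 523, 131, 340, 554,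 499, 424, 323, 145, 608, 109, 4, 333, 619, 137, 504, 91, 30, 152]

/-- the points increase along a permutation -/
def incPts : Bool :=
  Nat.beq ptSort.length cert.pts.length && (ptSort.all fun k => Nat.blt k cert.pts.length) &&
    (ptSort.zip ptSort.tail).all fun x => Nat.blt (cert.pts.getD x.1 0) (cert.pts.getD x.2 0)

theorem pts_inc : incPts = true := by decide +kernel

theorem inc0 : incOK dLCs (sortL.getD 0 []) = true := by decide +kernel

theorem inc1 : incOK hL1Cs (sortL.getD 1 []) = true := by decide +kernel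

theorem inc2 : incOK hL2Cs (sortL.getD 2 []) = true := by decide +kernel

theorem inc3 : incOK hL3Cs (sortL.getD 3 []) = true := by decide +kernel

theorem inc4 : incOK hL4Cs (sortL.getD 4 []) = true := by decide +kernel

theorem inc5 : incOK hL5Cs (sortL.getD 5 []) = true := by decide +kernel

theorem inc6 : incOK hL6Cs (sortL.getD 6 []) = true := by decide +kernel

theorem shapes : shapeOK dLCs = true ∧ shapeOK hL1Cs = true ∧ shapeOK hL2Cs = true ∧ shapeOK hL3Cs = true ∧ shapeOK hL4Cs = true ∧ shapeOK hL5Cs = true ∧ shapeOK hL6Cs = true := by decide +kernel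

theorem lengths : dLCs.flatten.length = 4608 ∧ hL1Cs.flatten.length = 4608 ∧ hL2Cs.flatten.length = 96 ∧ hL3Cs.flatten.length = 324 ∧ hL4Cs.flatten.length = 36 ∧ hL5Cs.flatten.length = 60 ∧ hL6Cs.flatten.length = 1512 ∧ cert.pts.length = 630 := by decide +kernel

theorem size_misc : Nat.beq cert.hLists.length (cert.tree.length + 1) = true ∧
    Nat.beq (cert.hLists.getD 0 (0, [])).1 1 = true ∧ Nat.beq (cert.pts.length * dLCs.flatten.length) 2903040 = true := by
  decide +kernel

theorem size_total : cert.total = 170775 := by decide +kernel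

end Cfsg.Agent.Spor.CoThreeCent
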