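import Cfsg.Agent.Lib.Spor.CoThreeCent.CheckD
import Cfsg.Agent.Lib.Spor.CoThreeCent.CheckH
import Cfsg.Agent.Lib.Spor.CoThreeCent.CheckFacts
import Cfsg.Agent.Lib.Spor.CoThreeCent.CheckSizes
import Cfsg.Agent.Lib.Spor.CoThreeCent.CheckPtsA
import Cfsg.Agent.Lib.Spor.CoThreeCent.CheckPtsB
import Cfsg.Agent.Lib.Spor.CoThreeCent.CheckCovA
import Cfsg.Agent.Lib.Spor.CoThreeCent.CheckCovB
import Cfsg.Agent.Lib.Spor.CoThreeCent.CertLemmas

/-!
The certificate for the double cosets of the centralizer of a 2A-involution in the third Conway group checks.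
-/

set_option autoImplicit false
set_option maxRecDepth 100000
set_option maxHeartbeats 1000000

namespace Cfsg.Agent.Spor.CoThreeCent

open DCoset

attribute [local irreducible] mu

theorem nodup_of_inc {cs : List (List (ℕ × ℕ × ℕ))} {p : List ℕ} (h : incOK cs p = true) (hs : shapeOK cs = true) :
    (Cert.vals cs.flatten).Nodup := by
  simp only [incOK, Bool.and_eq_true, Nat.beq_eq, List.all_eq_true, Nat.blt_eq] at h
  obtain ⟨⟨hlen, hlt⟩, hinc⟩ := h
  refine nodup_of_chain (q := p.map fun k => (look2 cs (0, 0, 0) k).2.2) ?_ (fun x hx => ?_) fun x hx => ?_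
  · rw [List.length_map, Cert.vals, List.length_map, hlen]
  · obtain ⟨k, hk, rfl⟩ := List.mem_map.1 hx
    rw [← getD_flatten _ cs hs k (hlt k hk), List.getD_eq_getElem _ _ (hlt k hk)]
    exact List.mem_map.2 ⟨_, List.getElem_mem _, rfl⟩
  · rw [zip_map_tail] at hx
    obtain ⟨y, hy, rfl⟩ := List.mem_map.1 hx
    exact hinc y hy

theorem nodup_of_incPts (h : incPts = true) : cert.pts.Nodup := by
  simp only [incPts, Bool.and_eq_true, Nat.beq_eq, List.all_eq_true, Nat.blt_eq] at h
  obtain ⟨⟨hlen, hlt⟩, hinc⟩ := h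
  refine nodup_of_chain (q := ptSort.map fun k => cert.pts.getD k 0) ?_ (fun x hx => ?_) fun x hx => ?_
  · rw [List.length_map, hlen]
  · obtain ⟨k, hk, rfl⟩ := List.mem_map.1 hx
    rw [List.getD_eq_getElem _ _ (hlt k hk)]
    exact List.getElem_mem _
  · rw [zip_map_tail] at hx
    obtain ⟨y, hy, rfl⟩ := List.mem_map.1 hx
    exact hinc y hy

theorem cert_shape : cert.dList = dLCs.flatten ∧ cert.hLists = [(1, []), (630, hL1Cs.flatten), (30240, hL2Cs.flatten),
    (8960, hL3Cs.flatten), (80640, hL4Cs.flatten), (48384, hL5Cs.flatten), (1920, hL6Cs.flatten)] ∧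
    cert.u = cert.u := ⟨rfl, rfl, rfl⟩

theorem cgv_spec : ∀ j < cert.cg.length, cgv.getD j 0 = cert.ev mu (cert.cg.getD j ([], [])).1 :=
  fun _ hj => getD_cgv _ cert hj

theorem cert_d : cert.dOK mu = true :=
  dOK_of_rows mu cert dLCs cgv cert_shape.1 shapes.1 cgv_spec fun k hk => dRow_all k (lengths.1 ▸ hk)

theorem dList_nodup : (Cert.vals cert.dList).Nodup := cert_shape.1 ▸ nodup_of_inc inc0 shapes.1

theorem cert_h : ∀ i < 7, i ≠ 0 → cert.hOK mu i (cert.hLists.getD i (0, [])).2 = true ∧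
    (Cert.vals (cert.hLists.getD i (0, [])).2).Nodup ∧
    (cert.hLists.getD i (0, [])).1 * (cert.hLists.getD i (0, [])).2.length = 2903040 := by
  obtain ⟨-, s1, s2, s3, s4, s5, s6⟩ := shapes
  obtain ⟨-, l1, l2, l3, l4, l5, l6, -⟩ := lengths
  intro i hi h0
  rw [cert_shape.2.1]
  interval_cases i
  · exact absurd rfl h0
  · exact ⟨hOK_of_rows mu cert hL1Cs 1 s1 fun k hk => hRow1x_all k (l1 ▸ hk), nodup_of_inc inc1 s1,
      show 630 * hL1Cs.flatten.length = _ by rw [l1]⟩
  · exact ⟨hOK_of_rows mu cert hL2Cs 2 s2 fun k hk => hRow2x_all k (l2 ▸ hk), nodup_of_inc inc2 s2,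
      show 30240 * hL2Cs.flatten.length = _ by rw [l2]⟩
  · exact ⟨hOK_of_rows mu cert hL3Cs 3 s3 fun k hk => hRow3x_all k (l3 ▸ hk), nodup_of_inc inc3 s3,
      show 8960 * hL3Cs.flatten.length = _ by rw [l3]⟩
  · exact ⟨hOK_of_rows mu cert hL4Cs 4 s4 fun k hk => hRow4x_all k (l4 ▸ hk), nodup_of_inc inc4 s4,
      show 80640 * hL4Cs.flatten.length = _ by rw [l4]⟩
  · exact ⟨hOK_of_rows mu cert hL5Cs 5 s5 fun k hk => hRow5x_all k (l5 ▸ hk), nodup_of_inc inc5 s5,
      show 48384 * hL5Cs.flatten.length = _ by rw [l5]⟩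
  · exact ⟨hOK_of_rows mu cert hL6Cs 6 s6 fun k hk => hRow6x_all k (l6 ▸ hk), nodup_of_inc inc6 s6,
      show 1920 * hL6Cs.flatten.length = _ by rw [l6]⟩

theorem hLists_length : cert.hLists.length = 7 := by rw [cert_shape.2.1]; rfl

theorem cert_size : cert.sizeOK mu 2903040 = true :=
  sizeOK_of mu cert 2903040 size_misc.1 hLists_length cert_h size_misc.2.1 dList_nodup
    (by rw [cert_shape.1]; exact size_misc.2.2)

theorem pts_nodup : cert.pts.Nodup := nodup_of_incPts pts_inc

theorem cert_pts : cert.ptsOK mu = true :=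
  ptsOK_of mu cert uC ev_u lengths.2.2.2.2.2.2.2 ptA_all ptB_all ptC_all pts_u

theorem cov_length : cert.cov.length = 7 := by rfl

theorem cov_lens : ∀ i < 7, (cert.cov.getD i []).length = 630 := by decide +kernel

theorem cert_cov : cert.covAll mu = true := by
  refine covAll_of mu cert uC ev_u (by rw [cov_length]; rfl) cov_length fun i hi => ⟨?_, ?_⟩
  · interval_cases i
    exacts [covMem0, covMem1, covMem2, covMem3, covMem4, covMem5, covMem6]
  · intro n hn
    rw [cov_lens i hi] at hn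
    interval_cases i
    exacts [covRow0x_all n hn, covRow1x_all n hn, covRow2x_all n hn, covRow3x_all n hn, covRow4x_all n hn,
      covRow5x_all n hn, covRow6x_all n hn]

theorem cert_ok : cert.OK mu 2903040 where
  inv := cert_inv
  facts k hk := factOK_all k hk
  pts := cert_pts
  dl := cert_d
  cg := cert_cg
  cov := cert_cov
  size := cert_size

theorem cert_total : cert.total = 170775 := size_total

end Cfsg.Agent.Spor.CoThreeCent
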