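import Cfsg.Agent.Lib.Spor.CoThreeCent.CheckDefs

/-!
The listed centralizer checks.
-/

set_option autoImplicit false
set_option maxRecDepth 100000
set_option maxHeartbeats 0
set_option Elab.async false

namespace Cfsg.Agent.Spor.CoThreeCent

open DCoset

theorem dRow0 : (List.range' 0 768).all (fun k => dRow mu cert dLCs cgv k) = true := by decide +kernel

theorem dRow1 : (List.range' 768 768).all (fun k => dRow mu cert dLCs cgv k) = true := by decide +kernel

theorem dRow2 : (List.range' 1536 768).all (fun k => dRow mu cert dLCs cgv k) = true := by decide +kernel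

theorem dRow3 : (List.range' 2304 768).all (fun k => dRow mu cert dLCs cgv k) = true := by decide +kernel

theorem dRow4 : (List.range' 3072 768).all (fun k => dRow mu cert dLCs cgv k) = true := by decide +kernel

theorem dRow5 : (List.range' 3840 768).all (fun k => dRow mu cert dLCs cgv k) = true := by decide +kernel

theorem dRow_all : ∀ k < 4608, (dRow mu cert dLCs cgv k) = true := by
  intro k hk
  rcases (by omega : (0 ≤ k ∧ k < 768) ∨ (768 ≤ k ∧ k < 1536) ∨ (1536 ≤ k ∧ k < 2304) ∨ (2304 ≤ k ∧ k < 3072) ∨ (3072 ≤ k ∧ k < 3840) ∨ (3840 ≤ k ∧ k < 4608)) with h | h | h | h | h | h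
  · exact List.all_eq_true.1 dRow0 k (List.mem_range'_1.2 h)
  · exact List.all_eq_true.1 dRow1 k (List.mem_range'_1.2 h)
  · exact List.all_eq_true.1 dRow2 k (List.mem_range'_1.2 h)
  · exact List.all_eq_true.1 dRow3 k (List.mem_range'_1.2 h)
  · exact List.all_eq_true.1 dRow4 k (List.mem_range'_1.2 h)
  · exact List.all_eq_true.1 dRow5 k (List.mem_range'_1.2 h)

end Cfsg.Agent.Spor.CoThreeCent
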