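import Cfsg.Agent.Lib.Spor.MclCent.Bound

/-!
Checks of long lists of codes in blocks.
-/

set_option autoImplicit false

namespace Cfsg.Agent.Spor.CoThreeCent

open DCoset

/-- entry of a list stored in blocks of 128 -/
def look2 {α : Type} (cs : List (List α)) (d : α) (k : ℕ) : α := (cs.getD (k / 128) []).getD (k % 128) d

/-- all blocks but the last are full -/
def shapeOK {α : Type} : List (List α) → Bool
  | [] => true
  | [c] => Nat.ble c.length 128
  | c :: cs => Nat.beq c.length 128 && shapeOK cs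

theorem getD_flatten {α : Type} (d : α) : ∀ (cs : List (List α)), shapeOK cs = true → ∀ k, k < cs.flatten.length →
    cs.flatten.getD k d = look2 cs d k
  | [], _, k, hk => absurd hk (by simp)
  | [c], hc, k, hk => by
    by_cases h : k < 128
    · simp [look2, Nat.div_eq_of_lt h, Nat.mod_eq_of_lt h]
    · exfalso
      simp only [shapeOK, Nat.ble_eq] at *
      simp only [List.flatten_cons, List.flatten_nil, List.append_nil] at hk
      omega
  | c :: c' :: cs, h, k, hk => by
    simp only [shapeOK, Bool.and_eq_true, Nat.beq_eq] at h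
    rw [List.flatten_cons] at hk ⊢
    by_cases hc : k < 128
    · rw [List.getD_append _ _ _ _ (h.1.symm ▸ hc)]
      simp [look2, Nat.div_eq_of_lt hc, Nat.mod_eq_of_lt hc]
    · rw [List.getD_append_right _ _ _ _ (by omega), h.1,
        getD_flatten d (c' :: cs) h.2 _ (by rw [List.length_append] at hk; omega)]
      obtain ⟨j, rfl⟩ : ∃ j, k = j + 128 := ⟨k - 128, by omega⟩
      simp [look2]

variable (mu : ℕ → ℕ → ℕ)

/-- the listed centralizer, one row -/
def dRow (c : Cert) (cs : List (List (ℕ × ℕ × ℕ))) (cgv : List ℕ) (k : ℕ) : Bool :=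
  bif Nat.beq k 0 then Nat.beq (look2 cs (0, 0, 0) k).2.2 c.one
  else Nat.blt (look2 cs (0, 0, 0) k).1 k && Nat.blt (look2 cs (0, 0, 0) k).2.1 c.cg.length &&
    Nat.beq (look2 cs (0, 0, 0) k).2.2
      (mu (look2 cs (0, 0, 0) (look2 cs (0, 0, 0) k).1).2.2 (cgv.getD (look2 cs (0, 0, 0) k).2.1 0))

/-- a listed stabilizer, one row -/
def hRow (c : Cert) (cs : List (List (ℕ × ℕ × ℕ))) (i k : ℕ) : Bool :=
  bif Nat.beq k 0 then Nat.beq (look2 cs (0, 0, 0) k).2.2 c.one
  else Nat.blt (look2 cs (0, 0, 0) k).1 k && Nat.blt (look2 cs (0, 0, 0) k).2.1 c.facts.length &&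
    match c.fact (look2 cs (0, 0, 0) k).2.1 with
    | Fact.H i' h => Nat.beq i' i &&
        Nat.beq (look2 cs (0, 0, 0) k).2.2 (mu (look2 cs (0, 0, 0) (look2 cs (0, 0, 0) k).1).2.2 h)
    | _ => false

theorem dOK_of_rows (c : Cert) (cs : List (List (ℕ × ℕ × ℕ))) (cgv : List ℕ) (he : c.dList = cs.flatten)
    (hs : shapeOK cs = true) (hcg : ∀ j < c.cg.length, cgv.getD j 0 = c.ev mu (c.cg.getD j ([], [])).1)
    (hr : ∀ k < cs.flatten.length, dRow mu c cs cgv k = true) : c.dOK mu = true := by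
  simp only [Cert.dOK, List.all_eq_true, List.mem_range]
  intro k hk
  rw [he] at hk ⊢
  have h := hr k hk
  simp only [dRow] at h
  rw [getD_flatten _ cs hs k hk]
  cases hk0 : Nat.beq k 0
  · rw [hk0] at h
    simp only [cond_false, Bool.and_eq_true, Nat.blt_eq] at h ⊢
    obtain ⟨⟨h1, h2⟩, h3⟩ := h
    refine ⟨⟨h1, h2⟩, ?_⟩
    rw [getD_flatten _ cs hs _ (h1.trans hk), ← hcg _ h2]
    exact h3
  · rw [hk0] at h
    exact h

theorem hOK_of_rows (c : Cert) (cs : List (List (ℕ × ℕ × ℕ))) (i : ℕ) (hs : shapeOK cs = true)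
    (hr : ∀ k < cs.flatten.length, hRow mu c cs i k = true) : c.hOK mu i cs.flatten = true := by
  simp only [Cert.hOK, List.all_eq_true, List.mem_range]
  intro k hk
  have h := hr k hk
  simp only [hRow] at h
  rw [getD_flatten _ cs hs k hk]
  cases hk0 : Nat.beq k 0
  · rw [hk0] at h
    simp only [cond_false, Bool.and_eq_true, Nat.blt_eq] at h ⊢
    obtain ⟨⟨h1, h2⟩, h3⟩ := h
    refine ⟨⟨h1, h2⟩, ?_⟩
    rw [getD_flatten _ cs hs _ (h1.trans hk)]
    exact h3
  · rw [hk0] at h
    exact h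

end Cfsg.Agent.Spor.CoThreeCent
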