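import Cfsg.Agent.Lib.Spor.CoThreeCent.Code
import Cfsg.Agent.Lib.Spor.CoThreeCent.Data
import Cfsg.Agent.Lib.Spor.CoThreeCent.Fast

/-!
Values used by the checks of the certificate, and row checks for the points.
-/

set_option autoImplicit false
set_option maxRecDepth 100000
set_option maxHeartbeats 0
set_option Elab.async false

namespace Cfsg.Agent.Spor.CoThreeCent

open DCoset

/-- code of the second involution -/
def uC : ℕ := ptL.getD 0 0

theorem ev_u : cert.ev mu cert.u = uC := by decide +kernel

/-- values of the twisted words -/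
def cgv : List ℕ := (List.range cert.cg.length).map fun j => cert.ev mu (cert.cg.getD j ([], [])).1

/-- the blocks of `dL` -/
def dLCs : List (List (ℕ × ℕ × ℕ)) := [dL0, dL1, dL2, dL3, dL4, dL5, dL6, dL7, dL8, dL9, dL10, dL11, dL12, dL13, dL14, dL15, dL16, dL17, dL18, dL19, dL20, dL21, dL22, dL23, dL24, dL25, dL26, dL27, dL28, dL29, dL30, dL31, dL32, dL33, dL34, dL35]

/-- the blocks of `hL1` -/
def hL1Cs : List (List (ℕ × ℕ × ℕ)) := [hL10, hL11, hL12, hL13, hL14, hL15, hL16, hL17, hL18, hL19, hL110, hL111, hL112, hL113, hL114, hL115, hL116, hL117, hL118, hL119, hL120, hL121, hL122, hL123, hL124, hL125, hL126, hL127, hL128, hL129, hL130, hL131, hL132, hL133, hL134, hL135]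

/-- the blocks of `hL2` -/
def hL2Cs : List (List (ℕ × ℕ × ℕ)) := [hL20]

/-- the blocks of `hL3` -/
def hL3Cs : List (List (ℕ × ℕ × ℕ)) := [hL30, hL31, hL32]

/-- the blocks of `hL4` -/
def hL4Cs : List (List (ℕ × ℕ × ℕ)) := [hL40]

/-- the blocks of `hL5` -/
def hL5Cs : List (List (ℕ × ℕ × ℕ)) := [hL50]

/-- the blocks of `hL6` -/
def hL6Cs : List (List (ℕ × ℕ × ℕ)) := [hL60, hL61, hL62, hL63, hL64, hL65, hL66, hL67, hL68, hL69, hL610, hL611]

/-- a point, first check -/
def ptA (k : ℕ) : Bool := Nat.beq (cert.pts.getD k 0) (cert.ev mu (cert.pw.getD k []))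

/-- a point, second check -/
def ptB (k : ℕ) : Bool :=
  Nat.beq (mu (cert.pts.getD k 0) (cert.ev mu (cert.reps.getD k []))) (mu (cert.ev mu (cert.reps.getD k [])) uC)

/-- a point, third check -/
def ptC (k : ℕ) : Bool :=
  (List.range cert.gens.length).all fun g =>
    Nat.blt ((cert.moves.getD k []).getD g cert.pts.length) cert.pts.length &&
      Nat.beq (mu (cert.gens.getD g cert.one) (cert.pts.getD k 0))
        (mu (cert.pts.getD ((cert.moves.getD k []).getD g cert.pts.length) 0) (cert.gens.getD g cert.one))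

/-- a covered point, with the value of the involution -/
def covRow (i : ℕ) (l : List (ℕ × Src)) (n : ℕ) : Bool :=
  match l.getD n (0, Src.par n 0) with
  | (k, Src.edge e) =>
    match cert.look mu cert.facts.length e with
    | some (i', a, j, _) =>
      Nat.beq i' i && Nat.ble j cert.tree.length && Nat.beq (mu a uC) (mu (cert.pts.getD k 0) a)
    | none => false
  | (k, Src.par p f) =>
    Nat.blt p n && Nat.blt f cert.facts.length && Nat.blt (l.getD p (0, Src.par p 0)).1 cert.pts.length &&
      match cert.fact f with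
      | Fact.H i' h => Nat.beq i' i &&
          Nat.beq (mu h (cert.pts.getD (l.getD p (0, Src.par p 0)).1 0)) (mu (cert.pts.getD k 0) h)
      | _ => false

end Cfsg.Agent.Spor.CoThreeCent
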