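import Cfsg.Agent.Lib.Spor.MclCent.Engine

/-!
Data for the second class of involutions: words with increasing keys.
-/

set_option autoImplicit false
set_option maxRecDepth 100000
set_option maxHeartbeats 0

namespace Cfsg.Agent.Spor.CoThreeCent

/-- part 0 of the class -/
def vOrb0 : List (List ℕ) := [
  [4, 3, 2, 1, 1, 5, 0],
  [2, 4, 2, 0, 1, 0],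
  [0, 0, 1, 0, 5, 1],
  [2, 4, 0, 2, 1, 0, 2],
  [0, 2, 3, 2, 4, 0],
  [2, 2, 1, 2, 4],
  [0, 1, 2, 3, 2, 3, 2],
  [3, 5, 0, 2, 1, 1],
  [5, 1, 1, 5, 5, 3],
  [2, 0, 0, 5, 5],
  [2, 0, 0, 2, 1],
  [2, 2, 0, 1, 3, 2, 0],
  [1, 5, 0, 1, 2, 0],
  [0, 4, 0, 4, 5, 1, 1],
  [5, 0, 2, 2, 2, 3],
  [3, 5, 3, 2, 2],
  [1, 5, 1, 0, 4, 5],
  [5, 1, 5, 1, 0, 1, 0],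
  [1, 2, 1, 2, 3],
  [1, 2, 2, 3, 1, 1, 0],
  [2, 2, 0, 2, 1, 0],
  [0, 2, 4, 3],
  [2, 3, 2, 1, 2, 1],
  [3, 1, 0, 2, 0, 0, 1],
  [3, 4, 0, 4, 5, 3],
  [3, 5, 0, 4, 3, 2, 1],
  [2, 2, 1, 3, 4, 5],
  [5, 5, 5, 0, 2, 2, 0],
  [3, 2, 0, 5, 5, 5],
  [2, 4, 2, 3, 1, 1],
  [4, 3, 2, 2, 0, 2],
  [5, 0, 2, 3, 4, 0],
  [1, 3, 2, 2, 0, 2],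
  [2, 2, 2, 0, 5, 0, 0],
  [0, 0, 2, 0, 4, 0],
  [3, 2, 1, 0, 2, 4],
  [2, 3, 1, 5, 4],
  [0, 4, 0, 0, 5, 5, 3],
  [1, 3, 1, 3, 2],
  [5, 1, 5, 3],
  [0, 5, 4, 5, 0, 2],
  [5, 0, 5, 3, 1, 0, 1],
  [1, 2, 4, 0, 5, 1],
  [2, 3, 2, 3, 2, 0],
  [0, 0, 4, 2],
  [5, 3, 1, 2, 0, 1, 0],
  [2, 3, 4, 0, 0],
  [3, 2, 2, 2, 1],
  [4, 3, 1, 3, 2],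
  [5, 5, 4, 0, 5],
  [5, 5, 4, 5, 4],
  [3, 4, 3, 1, 2, 0, 1],
  [5, 5, 5, 0, 1],
  [2, 1, 5, 5, 4, 2],
  [3, 5, 5, 5, 0, 0, 1],
  [3, 5, 5, 1, 5],
  [4, 2, 4, 0, 5, 1],
  [0, 2, 3, 2, 1, 0, 0],
  [3, 5, 5, 4],
  [0, 2, 4, 2, 1, 5],
  [4, 5, 5, 3, 1, 0, 1],
  [2, 3, 4, 5, 4, 0, 0],
  [5, 0, 1, 5, 3, 5, 0],
  [0, 4, 5, 5, 0, 2, 0],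
  [3, 1, 1, 5, 3, 2, 1],
  [1, 0, 2, 3, 4, 0],
  [0, 1, 3, 4, 5, 4, 0],
  [0, 4, 5, 0],
  [5, 1, 0, 2, 4, 2],
  [4, 5, 0, 1, 5, 3],
  [0, 4, 2, 4, 5],
  [1, 5, 1, 5, 4, 0],
  [1, 2, 0, 2, 1, 0],
  [4, 3, 1, 2, 4, 0],
  [5, 4, 3, 5, 0, 4],
  [2, 1, 5, 0, 5, 1],
  [3, 1, 0, 5, 5, 1],
  [1, 0, 2, 1, 2, 2, 0],
  [2, 4, 0, 2, 0, 2, 2],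
  [3, 1, 0, 2, 3, 1],
  [4, 5, 0, 1, 5, 4],
  [5, 1, 0, 2, 2, 3],
  [4, 5, 5, 1],
  [5, 4, 5, 5, 1, 2],
  [1, 1, 0, 5, 0, 2],
  [1, 0, 0, 5, 0],
  [5, 5, 5, 4, 5, 0],
  [3, 1, 3, 5, 5],
  [0, 2, 3, 2, 2],
  [5, 5, 1, 1, 0, 1, 0],
  [4, 0, 4, 2, 4],
  [3, 2, 1, 2, 0, 1],
  [3, 2, 1, 0, 2],
  [5, 0, 2, 2, 1, 5],
  [2, 2, 1, 5, 5, 4, 0],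
  [3, 1, 3, 1, 5, 1, 1],
  [2, 0, 4, 5, 0, 5],
  [4, 0, 1, 3, 5, 3],
  [0, 4, 2, 0, 2, 3, 2],
  [2, 3, 1, 0, 2, 0, 0],
  [1, 2, 2, 1],
  [2, 2, 0],
  [4, 2, 2, 1, 1, 0, 5],
  [0, 0, 4, 0],
  [5, 5, 4, 0, 4],
  [3, 1, 3, 4, 2, 1],
  [4, 0, 1, 1],
  [5, 3, 2, 0, 1, 1],
  [1, 5, 1, 0, 1, 5, 0],
  [1, 1, 3, 1, 5, 4],
  [2, 3, 4, 0, 2, 2],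
  [5, 0, 1, 3],
  [4, 3, 5, 0, 5],
  [5, 3, 2, 1, 0, 4],
  [5, 3, 1, 2, 2, 2],
  [0, 5, 5, 0, 4, 2],
  [0, 2, 2, 0, 1],
  [4, 0, 4, 5, 4],
  [4, 0, 4, 2, 1],
  [2, 4, 5, 3, 2, 0],
  [0, 0, 5, 4, 3],
  [1, 5, 0, 2, 0, 2],
  [4, 0, 1, 0, 5, 5, 3],
  [0, 5, 0, 4, 5, 3],
  [0, 2, 3, 1, 5, 4, 0],
  [3, 5, 4, 0, 5, 3],
  [0, 4, 3, 4, 5, 1],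
  [1, 0, 5, 5, 1, 1],
  [1, 5, 0, 1],
  [1, 0, 5, 5, 1, 5, 5],
  [0, 5, 4, 0, 5],
  [0, 4, 5, 3, 4],
  [1, 3, 5, 4, 3],
  [4, 3, 5, 5, 1],
  [5, 0, 5, 1],
  [5, 3, 1, 2, 1, 1],
  [3, 5, 5, 0, 2],
  [0, 2, 0, 2, 1, 0],
  [5, 4, 3, 4, 0, 0],
  [3, 2, 1, 3, 5, 1],
  [1, 3, 1, 0, 5, 1],
  [5, 1, 1, 0, 4, 3],
  [4, 0, 4, 5, 0, 4],
  [0, 4, 5, 4, 5, 1, 2],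
  [1, 5, 1, 3, 5, 1],
  [4, 3, 4, 3, 4, 2, 2],
  [1, 5, 1, 5, 1, 3, 1],
  [3, 2, 3, 1, 2, 0],
  [0, 2, 3, 2, 0],
  [2, 2, 2, 4, 2, 0, 2],
  [5, 5],
  [5, 5, 4, 5, 5],
  [1, 0, 4, 2, 0, 2],
  [5, 0, 5, 5, 4],
  [0, 5, 0, 1],
  [5, 3, 2, 4, 0, 2, 1],
  [4, 0, 4, 0],
  [3, 5, 0, 1, 5],
  [1, 5, 1, 3, 5, 5, 0],
  [2, 1, 2, 0, 2, 1, 1],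
  [4, 0, 0, 2, 2, 2],
  [2, 1, 1, 3, 2, 2],
  [3, 5, 5, 3, 5, 0],
  [1, 5, 1, 3, 4, 5],
  [4, 0, 0, 2, 0, 2, 2],
  [1, 1, 3, 2, 4, 5, 1],
  [2, 4, 2, 2, 2, 4, 0],
  [5, 1, 0, 4, 5, 5, 1],
  [5, 4, 5, 3, 2, 1],
  [4, 5, 3, 5, 4, 0, 2],
  [1, 3, 1, 1, 0],
  [1, 5, 4, 3, 4, 2, 1],
  [2, 2, 0, 2, 1, 1, 0],
  [0, 2, 2, 1, 5, 1, 1],
  [4, 5, 5, 4, 0, 0],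
  [1, 2, 1, 2, 2, 3, 1],
  [0, 5, 4, 5, 3, 2, 1],
  [2, 1, 2, 3, 2, 2],
  [1, 1, 5, 5, 0, 1, 1],
  [5, 5, 1, 3, 5, 0],
  [3, 2, 4, 3, 5, 4],
  [1, 5, 3, 5, 5, 1],
  [1, 3, 5, 5, 0, 2, 2],
  [0, 1, 3, 1, 5, 0],
  [2, 3, 2, 2, 1, 0],
  [5, 5, 5, 3, 1, 3],
  [0, 1, 3, 2, 0, 0, 1],
  [2, 4, 0, 1, 2, 0, 0],
  [3, 4, 2, 3, 2, 1, 2],
  [4, 2, 2, 4, 2],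
  [5, 0, 5, 3, 2, 2],
  [1, 1, 5, 1, 0, 0],
  [4, 5, 3, 2, 4, 2],
  [2, 4, 5, 1, 3],
  [5, 0, 5, 0, 2, 2],
  [0, 1, 1, 3, 2, 0],
  [2, 4, 0, 2, 0, 0],
  [3, 4, 2, 4, 5, 3],
  [5, 4, 5, 0, 1, 5, 0],
  [4, 0, 2, 4, 0, 5],
  [4, 5, 4, 5, 4, 0, 0],
  [4, 2, 1, 5, 5, 3],
  [2, 4, 5, 5, 1, 1, 0],
  [3, 1, 0, 2, 3, 1, 0, 0],
  [5, 1, 5, 0, 5, 4, 0],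
  [4, 0, 2, 2, 1, 2],
  [0, 0, 5, 5, 5, 4, 3],
  [4, 0, 1, 0, 1, 5],
  [0, 1, 3, 1, 0, 2, 2],
  [1, 2, 4, 5, 5, 0],
  [0, 1, 5, 4, 0, 0],
  [0, 2, 2, 0, 1, 2],
  [1, 1, 0, 2, 2, 2],
  [1, 5],
  [1, 0, 5, 5, 0, 1],
  [1, 5, 1, 1, 5, 3],
  [5, 0, 2, 3, 1, 0, 0],
  [2, 1, 0, 5, 1, 0],
  [5, 4, 3, 1, 2, 0],
  [0, 1, 0, 1, 0],
  [5, 0, 2, 1, 0, 4],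
  [1, 5, 3, 5, 4, 0],
  [0, 5, 1, 3, 5, 3],
  [3, 5, 3, 1, 0, 5, 0],
  [5, 5, 1, 2, 1],
  [5, 0, 2, 1, 0],
  [3, 5, 3, 2, 0, 0],
  [5, 0, 0, 1],
  [5, 3, 2, 4, 0, 4, 0],
  [5, 3, 4, 0, 1],
  [0, 5, 5, 0, 1, 1],
  [0, 4, 2, 2, 2],
  [1, 0, 2, 3, 1, 2, 1],
  [2, 2, 2],
  [5, 0, 2, 4],
  [1, 0, 4, 5, 5],
  [5, 3, 1, 0, 1],
  [2, 4, 5, 1, 1, 3],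
  [2, 2, 1, 2, 3],
  [5, 0, 1, 2, 3],
  [3, 4, 5, 3, 4],
  [3, 4, 5, 5, 3, 1],
  [1, 0, 1, 5, 4],
  [3, 2, 0, 0],
  [1, 0, 1, 3, 5, 1],
  [0, 1, 2, 2, 3, 4, 0],
  [0, 5, 3, 2, 0],
  [3, 4, 5, 1, 0],
  [0, 2, 4, 2, 2, 1, 0],
  [0, 0, 4, 3, 2, 4, 0],
  [0, 5, 0, 2, 0],
  [3, 4, 5, 0, 0]]

/-- part 1 of the class -/
def vOrb1 : List (List ℕ) := [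
  [4, 3, 2, 1, 2, 4, 0],
  [1, 5, 5, 3, 2, 1, 0],
  [5, 5, 4, 0, 0, 5, 1],
  [2, 4, 0, 2, 4, 5, 4],
  [3, 1, 0, 0, 2, 0],
  [1, 0, 1, 1, 5, 5, 0],
  [4, 0, 1, 5, 0, 0],
  [1, 1, 3, 4, 5],
  [1, 0, 1, 5, 1, 0],
  [2, 0, 1, 1, 0, 2, 0],
  [4, 3, 1, 0, 2],
  [0, 4, 5, 1, 5, 1, 0],
  [0, 0, 5, 0, 1, 5],
  [1, 2, 4, 0, 2, 0],
  [1, 5, 3, 5, 0, 0],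
  [3, 4, 0, 5, 0, 0],
  [2, 2, 2, 3],
  [1, 0, 2, 0],
  [3, 5, 4, 2, 2],
  [4, 5, 3, 2, 1, 5],
  [1, 2, 2, 0, 0, 2],
  [1, 0, 5, 4, 0, 4],
  [5, 4, 5, 1, 1, 5, 0],
  [5, 5, 0, 1, 5, 1, 0],
  [3, 5, 3, 1, 2, 1],
  [4, 3, 2, 2, 2],
  [5, 1, 5, 0, 1],
  [3, 1, 0, 2, 2],
  [0, 1, 3, 2, 1],
  [0, 1, 5, 5],
  [5, 1, 5, 5, 3],
  [0, 0, 5, 3, 5, 0],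
  [5, 4, 0, 0],
  [2, 4, 5, 3, 1, 3],
  [2, 3, 2, 4, 3, 2],
  [5, 5, 3, 2, 0, 0],
  [4, 2, 2, 0, 1, 2, 0],
  [3, 2, 0, 2, 0, 4],
  [1, 3, 1, 1, 5, 3],
  [3, 2, 0],
  [0, 5, 3, 5, 4, 5],
  [1, 2, 4, 3, 5, 3],
  [5, 5, 0, 4, 5, 1],
  [3, 2, 3, 2, 1, 1],
  [5, 5, 1, 5, 5, 1],
  [2, 1, 0, 5, 0, 5],
  [0, 2, 3, 1, 0, 0],
  [0, 5, 1, 5, 1, 0],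
  [3, 4, 5, 5, 3, 5, 1],
  [1, 3, 2, 4, 2, 4],
  [3, 4, 5, 4, 0, 4],
  [2, 0, 1, 2],
  [5, 3, 4, 3, 4, 5],
  [1, 2, 2, 1, 1, 0],
  [2, 2, 0, 1, 3, 1],
  [3, 4, 3, 1, 2, 2],
  [5, 3, 2, 1, 1],
  [1, 3, 4, 5, 0, 5, 1],
  [0, 5, 5, 1],
  [5, 5, 3, 4, 5, 0],
  [1, 0, 0, 1, 5, 3],
  [3, 4, 2, 0, 0],
  [2, 0, 1, 2, 1, 1],
  [2, 3, 2, 1, 0],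
  [4, 3, 2, 1, 5, 0, 0],
  [5, 5, 1, 1, 2],
  [5, 0, 1, 5, 1, 1],
  [5, 4, 3, 5, 4, 5, 0],
  [5, 0, 1, 5],
  [4, 0, 1, 5, 1, 1],
  [4, 0, 5, 3, 2, 0, 1],
  [5, 0, 1, 0, 1, 3],
  [3, 5, 4, 3, 2, 2],
  [2, 4, 5, 4, 0],
  [3, 1, 5, 4, 5],
  [5, 1, 5, 3, 5, 3],
  [1, 5, 4, 3, 1, 1, 0],
  [3, 1, 5, 1, 0],
  [0, 4, 2, 4, 0, 0],
  [5, 4, 0, 2, 4, 5, 4],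
  [3, 5, 1, 5, 4, 5],
  [1, 5, 0, 1, 5, 4, 2],
  [0, 5, 0, 4, 5, 0],
  [1, 3, 5, 0, 0, 1],
  [0, 0, 1, 0, 5, 0, 0],
  [0, 1, 1, 5, 3],
  [0, 4, 5, 3, 4, 0, 1],
  [4, 2, 3, 2, 2, 1],
  [2, 0, 2, 1, 0, 2, 2],
  [3, 1, 1, 5, 3, 1, 0],
  [3, 2, 4, 0, 5],
  [2, 2, 3, 1, 0, 5, 0],
  [5, 4, 5, 5, 0, 0],
  [0, 5, 5, 3, 2],
  [0, 4, 5, 1],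
  [1, 5, 4, 0, 2, 1],
  [2, 2, 2, 3, 1, 1],
  [0, 2, 4, 5, 0, 0],
  [3, 2, 4, 3, 5, 3],
  [1, 0, 1, 1, 3, 5, 3],
  [5, 5, 1, 0, 2, 1],
  [2, 1, 0, 2, 1],
  [1, 5, 5, 5, 4, 3],
  [2, 1, 3, 1, 5, 4],
  [1, 1, 5, 5, 0, 0, 1],
  [5, 0, 5, 3, 2, 0, 1],
  [0, 1, 1, 5, 4],
  [3, 5, 5, 3, 2, 1],
  [0, 4, 5, 0, 0],
  [3, 2, 2, 1, 1, 3],
  [0, 4, 0, 5, 0],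
  [1, 0, 2, 1, 0, 0],
  [4, 5, 3, 2, 2],
  [1, 5, 4, 3, 4, 5, 1],
  [0, 0, 1, 0, 1, 5],
  [2, 2, 0, 1, 2, 1],
  [2, 0, 1, 2, 1, 2, 0],
  [2, 2, 0, 2, 4, 0],
  [5, 1, 2, 4, 5],
  [5, 3, 1, 1, 5, 4],
  [1, 2, 3, 2, 4, 2],
  [4, 2, 4, 3, 2],
  [2, 0, 2, 2, 1, 1],
  [5, 1, 5, 4],
  [5, 5, 3, 4, 0, 0],
  [5, 1, 5, 4, 0, 4],
  [1, 0, 5, 0, 5, 0, 0],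
  [1, 2, 2, 2, 3, 2],
  [1, 1, 3, 1, 0, 5, 0],
  [2, 0, 5, 5, 5, 0],
  [1, 1, 2, 3, 2, 2],
  [1, 2, 0, 2, 1, 5],
  [4, 0, 0, 2],
  [3, 1, 2, 4, 0, 5, 1],
  [2, 1, 1, 5, 4],
  [0, 1, 1, 3, 2],
  [3, 4, 0, 2, 2, 1, 0],
  [1, 0, 1, 3, 5, 4],
  [5, 4, 5, 0, 2],
  [2, 2, 2, 0, 1, 2, 1],
  [1, 3, 4, 3, 5, 0, 0],
  [0, 2, 4, 5, 0],
  [2, 3, 5, 3, 2, 2],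
  [2, 4, 0, 1, 5, 1, 0],
  [5, 1, 0, 4, 2, 1],
  [0, 0, 2, 4, 5, 1],
  [3, 2, 0, 0, 2, 1, 1],
  [5, 3, 5, 5, 1, 0],
  [0, 1, 2, 1, 2, 2, 0],
  [3, 1, 2, 0, 1, 0],
  [1, 2, 2, 2, 4, 2],
  [0, 1, 3, 1, 2, 2],
  [1, 5, 5, 5, 0, 0],
  [1, 2],
  [2, 2, 3, 2, 4, 2],
  [3, 2, 4, 5, 1, 3],
  [3, 1, 5, 1, 5, 4, 0],
  [0, 5, 5, 1, 0, 5],
  [1, 2, 0, 4, 5, 1],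
  [4, 2, 1, 5, 5],
  [0, 4, 5, 5, 4],
  [5, 1, 5, 0, 2, 1],
  [2, 1],
  [2, 1, 5, 0, 4, 0, 2],
  [3, 5, 1, 5, 3],
  [3, 2, 2, 0, 4],
  [4, 2, 1, 5, 0, 1],
  [4, 2, 1, 5, 0, 4],
  [0, 1, 3, 2, 3, 1],
  [1, 3, 5, 0],
  [0, 1, 0, 2, 4, 3],
  [1, 5, 0, 0],
  [1, 5, 0, 4, 0, 1],
  [1, 3, 5, 1, 1],
  [0, 1, 0, 2, 1, 1],
  [5, 5, 1, 0, 5],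
  [1, 0, 5, 1, 0, 4],
  [1, 0, 5, 1],
  [3, 4, 0, 0, 2],
  [0, 5, 3, 2, 2],
  [0, 2],
  [1, 5, 1, 1],
  [0, 4, 5, 3, 2, 0],
  [1, 1, 3, 1, 2, 3],
  [3, 5, 0, 5, 4, 0, 0],
  [3, 5, 5, 4, 0, 2],
  [2, 0, 0, 1, 0, 5],
  [1, 0, 4, 0, 2, 1, 0],
  [1, 3, 2, 0, 1, 0],
  [2, 0, 5, 5, 0, 0],
  [1, 5, 1],
  [1, 3, 5, 0, 4],
  [2, 0, 1, 0, 1, 2],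
  [2, 3, 2, 1, 2],
  [1, 2, 3, 1, 2, 0],
  [0, 1, 1, 5, 0, 1],
  [0, 1, 5, 3, 2, 4, 0],
  [3, 2, 3, 2, 3, 4, 2],
  [5, 5, 3, 4, 5, 3],
  [1, 3, 2, 0, 5],
  [4, 0, 5, 5, 3],
  [2, 0, 1, 2, 3],
  [2, 1, 5, 0, 4, 3],
  [2, 4, 3, 1, 2, 3],
  [2, 2, 3, 2, 0],
  [2, 1, 5, 1, 5, 1, 0],
  [1, 1, 2, 0, 2],
  [4, 5, 1, 5, 0, 1, 0],
  [1, 2, 4, 5, 5, 4, 0],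
  [4, 2, 1, 1, 0, 0],
  [5, 5, 1, 5, 5, 3],
  [4, 2, 2, 2, 0],
  [2, 4, 3, 4, 0, 1, 2],
  [2, 0, 1, 2, 4],
  [5, 0, 5, 5],
  [2, 2, 0, 5, 0, 0],
  [5, 3, 2, 0, 4, 5],
  [0, 4, 3, 5, 1, 0],
  [5, 1, 3, 2],
  [4, 5, 1, 0, 1, 5, 3],
  [1, 1, 5, 3, 1, 0],
  [1, 0, 2, 2],
  [5, 4, 0, 1, 5],
  [0, 5, 0, 2, 1, 0],
  [2, 2, 0, 2, 1, 1, 3],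
  [5, 3, 2, 3, 1, 1, 0],
  [4, 5, 0, 5, 1, 0, 0],
  [4, 5, 3, 4, 0, 2, 2],
  [3, 4, 3, 2, 3, 1],
  [5, 0, 4, 2, 0, 0],
  [0, 0, 2, 3, 2, 1, 1],
  [1, 1, 0, 1, 2, 0, 0],
  [1, 2, 3, 4, 5, 4],
  [5, 4, 3, 1, 5],
  [2, 1, 2],
  [1, 2, 2, 1, 3, 1],
  [0, 0, 5, 3, 1, 5, 0],
  [0, 0, 2, 2, 0, 0],
  [3, 1, 1, 0, 5, 3],
  [1, 3, 5, 0, 0, 5, 1],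
  [2, 1, 2, 0, 2, 0, 1],
  [2, 3, 2, 1, 2, 4],
  [2, 4, 2, 2, 1, 2, 0],
  [5, 1, 2, 4, 3, 2],
  [5, 0, 1, 0, 2, 1, 1],
  [2, 2, 2, 3, 2, 1, 0],
  [5, 5, 0, 5, 4, 2],
  [3, 5, 5, 1, 1],
  [2, 1, 0, 2, 4, 3, 2],
  [4, 0, 5, 1, 1],
  [5, 5, 1, 5, 1],
  [5, 0, 1, 1, 5, 3]]

/-- part 2 of the class -/
def vOrb2 : List (List ℕ) := [
  [3, 1, 0, 1, 0],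
  [5, 1, 3, 1, 0, 0],
  [2, 2, 1, 5, 0, 5, 1],
  [3, 5, 3],
  [5, 1, 0, 1, 1],
  [0, 1, 0, 4, 0, 2],
  [2, 2, 4, 5],
  [2, 0, 2, 1, 1, 0],
  [5, 4, 5, 0, 4, 2],
  [5, 1, 5, 4, 2, 2],
  [1, 3, 1, 2, 0],
  [5, 0, 1, 2, 4],
  [0, 1, 5, 1, 3],
  [1, 0, 2, 2, 1, 1],
  [1, 1, 3, 1, 0, 1],
  [1, 1, 0, 1, 1, 2],
  [5, 1, 1, 5, 0],
  [4, 0, 4],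
  [4, 5, 1, 3, 1, 0, 1],
  [1, 3, 1, 0, 2, 0],
  [4, 3, 4, 3, 4],
  [5, 1, 1, 5, 4, 0],
  [3, 5, 4, 0, 5, 4, 0],
  [1, 5, 5, 1, 0, 0],
  [2, 2, 2, 1, 0, 4, 0],
  [3, 1, 1, 0, 4, 5],
  [2, 2, 1, 0],
  [1, 2, 2, 0, 0],
  [1, 3, 1, 5, 5],
  [5, 1, 2, 4, 5, 3],
  [4, 0, 4, 5, 3, 5, 4],
  [3, 1, 2, 4, 5],
  [0, 5, 1, 0, 2],
  [4, 2, 4, 2, 0, 2],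
  [3, 1, 5, 5, 5, 0, 0],
  [5, 5, 0, 5, 4, 0],
  [2, 2, 0, 0, 2, 0, 0],
  [0, 4, 0, 2, 2, 2],
  [2, 3, 2, 1, 5],
  [5, 0, 4, 5, 5, 0, 0],
  [5, 4, 5, 3, 1, 0, 0],
  [5, 3, 4, 2, 1, 5],
  [2, 2, 1, 2, 1, 2],
  [2, 2, 3, 1, 2, 4],
  [1, 3, 2, 3, 2, 2],
  [0, 0, 4, 3, 5, 0],
  [2, 1, 2, 3, 4, 0],
  [0, 0, 1, 3, 5, 1],
  [4, 0, 1, 1, 5],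
  [2, 3, 1, 3, 5, 0],
  [2, 0, 4, 5, 4, 3],
  [3, 2, 1, 2, 3],
  [5, 1, 5, 0, 5, 0],
  [3, 5, 1, 0, 5, 5],
  [0, 2, 0, 2, 2, 4],
  [3, 2, 4, 0, 2, 0],
  [0, 2, 2, 3, 5, 0],
  [5, 5, 4, 0, 2, 0],
  [3, 2, 2, 4, 2, 4],
  [2, 1, 2, 0, 2, 2],
  [2, 4, 5, 4, 5, 0],
  [3, 2, 1, 5, 0],
  [2, 0, 2, 3, 4, 3],
  [4, 5, 3, 2, 3, 1],
  [4, 0, 2, 4, 2, 1],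
  [0, 0, 1, 5, 1, 1],
  [0, 2, 1, 1],
  [4, 3, 2, 0, 1, 1, 0],
  [1, 0, 4, 0, 0, 5, 0],
  [4, 3, 1, 3, 5, 0],
  [1, 1, 5, 1, 5, 1, 0],
  [5, 3, 4, 0, 5, 1],
  [5, 1, 5, 3, 2],
  [4, 2, 0, 4, 5, 0],
  [5, 3, 2, 3, 1, 2, 0],
  [4, 5, 4, 3, 2, 1],
  [1, 5, 0, 1, 1, 2],
  [3, 1, 0, 2, 1],
  [4, 3, 2, 0, 4, 5, 4],
  [5, 3, 5, 0, 5, 3],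
  [5, 0, 2, 1, 3, 2, 0],
  [2, 4, 5, 5, 0, 5],
  [0, 5, 5, 4, 3],
  [0, 5, 0, 1, 5, 0, 5],
  [0, 4, 3, 4, 5, 4],
  [5, 1, 5, 5, 4, 2, 1],
  [5, 5, 1, 0, 2, 2],
  [5, 3, 5, 5, 4],
  [1, 0, 5, 1, 5, 1],
  [3, 1, 1, 3, 2, 1],
  [1, 0, 2, 1, 5, 1, 1],
  [2, 0, 5, 4, 5, 3],
  [2, 3, 5, 5, 5, 4, 3],
  [2, 0, 4, 0, 0, 5, 0],
  [4, 2, 1, 1, 0, 5],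
  [2, 1, 1, 5, 4, 0],
  [1, 1, 0, 1, 1, 5],
  [2, 2, 0, 5, 5, 3],
  [2, 4, 3, 1, 5, 0],
  [0, 2, 2, 1, 0, 5, 0],
  [5, 5, 5, 4, 2],
  [2, 1, 5, 0, 1, 0],
  [4, 3, 2, 1, 5, 0],
  [2, 1, 0, 5, 1, 1],
  [5, 5, 5, 0, 4, 2],
  [0, 5, 1, 5, 0, 5],
  [2, 0, 2, 1, 5, 0, 0],
  [0, 1, 3, 1, 5, 1, 0],
  [4, 5, 3, 4, 0, 5, 1],
  [3, 2, 0, 4, 5, 4, 0],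
  [4, 3, 2, 4, 0, 2, 0],
  [5, 1, 5, 1, 3, 4],
  [5, 1, 0, 5, 0, 0],
  [0, 4, 0, 0, 5, 0],
  [5, 5, 1, 3, 2, 2],
  [2, 4, 3, 5, 1, 0],
  [1, 5, 1, 5, 1, 0],
  [2, 2, 4, 0, 2, 0],
  [4, 0, 2, 1, 1],
  [2, 4, 0, 4, 5, 4, 0],
  [5, 0, 0, 1, 5, 3],
  [1, 2, 2, 4, 5, 3],
  [1, 3, 4, 2, 4, 5, 0],
  [4, 5, 0, 1, 0, 1, 0],
  [3, 5, 5, 5, 4, 0],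
  [4, 0, 1, 1, 5, 0],
  [4, 3, 4, 5, 1, 1],
  [0, 5, 0, 1, 3, 5, 0],
  [4, 2, 1, 0, 2, 0],
  [1, 1, 0, 0, 2, 2],
  [0, 2, 2, 3, 5, 1],
  [0, 0, 2, 0, 1, 2, 0],
  [1, 0, 2, 1, 5, 4],
  [0, 5, 1, 0, 4, 0],
  [4, 0, 4, 5, 4, 0, 2],
  [2, 2, 2, 1, 5],
  [0, 4, 3, 5, 3],
  [2, 4, 2, 1, 0, 5, 3],
  [5, 4, 0, 2, 3, 1],
  [0, 1, 1, 5, 1, 3],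
  [0, 1, 3, 2, 2],
  [4, 5, 0, 4, 5, 1],
  [4, 0, 5, 5],
  [2, 2, 3, 5, 5, 3],
  [0, 4, 2, 1, 3, 4],
  [4, 5, 5, 5, 3],
  [0, 2, 2, 4, 0, 1],
  [4, 5, 1, 0, 4],
  [3, 1, 1, 5, 1, 1, 0],
  [0, 2, 2, 0, 4, 3],
  [4, 5, 3, 1, 0, 0],
  [1, 1, 5, 4, 5, 4],
  [0, 2, 1, 3, 1],
  [1, 1, 5, 0, 4, 5, 0],
  [1, 2, 3, 4, 2, 2],
  [0, 5, 5, 1, 0, 0],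
  [0, 1, 2, 1, 2, 4, 0],
  [1, 1, 5, 3, 1, 5],
  [5, 1, 2, 1, 0, 0],
  [2, 3, 2, 1, 3, 2, 0],
  [1, 3, 2, 1, 2, 1, 1],
  [2, 1, 2, 1, 2, 1, 1],
  [0, 0, 2, 1, 5],
  [2, 0, 1, 2, 1, 0, 0],
  [1, 5, 5, 0, 0],
  [0, 1, 5, 5, 5, 0],
  [1, 1, 2, 2, 2, 4, 0],
  [2, 3, 2, 1, 1, 2],
  [4, 2, 2, 1, 2, 1],
  [0, 1, 2, 1, 2, 0],
  [1, 1, 0, 4, 0, 0],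
  [0, 2, 2, 1],
  [0, 2, 1, 1, 2, 1],
  [1, 3, 2, 2, 1, 0, 0],
  [0, 4, 2, 1, 2, 0],
  [0, 2, 2, 4, 0],
  [3, 4, 3, 5, 1, 0, 0],
  [0, 2, 2, 1, 3, 4, 0],
  [1, 5, 0, 5, 3],
  [3, 4, 5, 4, 0],
  [2, 1, 2, 2, 2],
  [1, 2, 3, 1, 3, 5, 0],
  [1, 0, 0, 1, 5, 1, 1],
  [1, 3, 2, 1, 5, 0],
  [1, 3, 2, 1, 2, 3],
  [2, 2, 0, 4, 5, 1],
  [0, 1, 2, 2, 2],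
  [2, 1, 3, 5, 3, 2],
  [0, 5, 1, 5, 3, 4],
  [0, 2, 2, 0, 2],
  [2, 1, 1, 5, 0, 5],
  [2, 4, 3, 5, 4, 0],
  [0, 2, 4, 2, 1],
  [0, 1, 1, 5],
  [1, 0, 2, 1, 1],
  [0, 2, 2, 0, 2, 4],
  [4, 2, 4, 5, 1, 5, 0],
  [0, 0, 5, 5, 5, 3],
  [2, 2, 0, 5, 5, 1],
  [3, 1, 3, 5, 0],
  [3, 2, 0, 1, 1, 0],
  [5, 3, 2, 3, 1],
  [5, 5, 1, 5, 4],
  [4, 5, 1, 5, 1, 0],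
  [3, 2, 3, 5, 4, 2],
  [2, 3, 2, 4, 0, 5],
  [3, 4, 0, 0, 5, 1],
  [3, 4, 0, 5, 1, 1],
  [0, 2, 2, 1, 2, 4],
  [4, 0, 1, 5, 1, 0],
  [3, 5, 5, 1, 3, 2],
  [3, 4, 5, 3, 4, 0, 0],
  [2, 0, 2, 3, 2],
  [1, 0, 1, 5, 0, 0],
  [3, 4, 5],
  [0, 2, 1, 2, 2],
  [2, 1, 5, 5, 5, 1],
  [1, 1, 3, 4, 5, 0, 0],
  [3, 2, 2, 2, 0, 0, 2],
  [1, 1, 3, 2, 0, 0],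
  [4, 0, 1, 3, 5, 1],
  [3, 4, 5, 1, 3],
  [0, 1, 0, 0, 2, 0, 0],
  [0, 0, 4, 0, 2, 4, 0],
  [0, 4, 3, 2],
  [1, 0, 1, 5, 0, 1, 1],
  [3, 4, 5, 0, 4],
  [3, 4, 0, 5, 1, 0, 0],
  [3, 2, 2, 2, 0, 0, 1],
  [1, 5, 0, 2, 1, 2, 2],
  [4, 2, 2, 4, 5, 5],
  [1, 5, 0, 5, 4, 0, 0],
  [4, 0, 2, 0, 1, 2, 0],
  [2, 0, 2, 2, 2, 1, 1],
  [2, 1, 1, 0, 1, 5],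
  [4, 2, 3, 1, 0, 2],
  [3, 4, 0, 2, 2, 1],
  [3, 1, 1, 5, 0],
  [5, 0, 0, 5, 1],
  [3, 4, 5, 5, 1, 0],
  [2, 1, 0, 2, 4, 3],
  [5, 5, 5, 4, 0, 5],
  [2, 0, 1, 5, 4, 0, 0],
  [3, 1, 3, 5, 5, 1, 0],
  [0, 5, 5, 0, 1, 0],
  [1, 0, 2, 0, 4, 5],
  [5, 4],
  [5, 1, 3, 5, 5],
  [5, 0, 4, 5, 0, 1],
  [2, 0, 1, 3, 2, 0],
  [5, 5, 4, 5, 1, 2],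
  [1, 2, 0, 0, 2, 2]]

/-- part 3 of the class -/
def vOrb3 : List (List ℕ) := [
  [1, 0, 4, 5, 4, 3],
  [1, 0, 0, 5, 1],
  [3, 1, 5, 4, 0, 5],
  [1, 2, 2, 1, 5, 1],
  [3, 4, 2, 0, 1, 0],
  [0, 2, 0, 4, 0, 0],
  [0, 0, 4, 0, 2],
  [3, 4, 3, 4, 5, 4],
  [5, 5, 1, 1, 0, 1],
  [0, 5, 5, 1, 5, 4],
  [0, 5, 4, 5, 4, 0, 0],
  [1, 1, 3, 4, 2, 3, 2],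
  [2, 2, 0, 2, 4],
  [0, 0, 2, 0, 0],
  [1, 3, 4, 0, 5, 3],
  [2, 1, 2, 4],
  [3, 1, 1],
  [3, 5, 0, 0, 2, 2],
  [0, 2, 3, 5, 3, 2],
  [2, 3, 1, 1, 5, 0],
  [1, 5, 5, 1, 1, 0, 0],
  [3, 4, 3],
  [2, 3, 1, 1, 5, 4, 0],
  [2, 3, 1, 2, 0, 0],
  [5, 5, 4, 5, 5, 0, 2, 0],
  [5, 1, 2, 2, 2, 0],
  [2, 0, 1, 1, 3, 5, 0],
  [1, 2, 3, 2, 0],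
  [2, 1, 1, 0, 2, 0],
  [0, 4, 3, 1, 1, 2],
  [2, 1, 0, 4, 3],
  [0, 5, 5, 5],
  [2, 1, 3, 2, 4],
  [1, 2, 0, 2, 4],
  [3, 5, 5, 1, 1, 0, 2],
  [5, 3, 2, 4, 5],
  [0, 1, 1, 0, 2, 3, 1],
  [0, 4, 2, 1, 5],
  [2, 3, 1, 0, 0, 5, 1],
  [4, 0, 4, 2, 4, 5, 1],
  [3, 4, 5, 4, 0, 5],
  [1, 2, 4, 0, 5, 1, 0],
  [0, 5, 5, 1, 0],
  [4, 2, 1, 5, 0, 1, 3],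
  [1, 5, 5, 4, 5, 1],
  [1, 0, 2, 3, 4, 3],
  [2, 4, 0, 5, 5, 0],
  [1, 5, 0, 2, 4, 0],
  [2, 3, 1, 2, 1, 1],
  [0, 4, 5, 5, 5, 0, 2],
  [4, 5, 1, 5, 0, 2],
  [2, 0, 4, 0, 5],
  [2, 4, 0, 4, 5],
  [2, 0, 2, 1],
  [5, 0, 1, 1, 5],
  [1, 3, 2, 2, 2, 0],
  [5, 0, 2, 3, 2, 1],
  [4, 0, 5, 0, 5],
  [5, 3, 1, 1, 5, 4, 0],
  [2, 1, 0, 0, 2, 2],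
  [2, 0, 2, 1, 5, 0, 5, 1],
  [2, 0, 1, 1, 5, 5, 0],
  [4, 2, 1, 2, 2],
  [1, 3, 2, 4, 2],
  [3, 5, 0, 1, 2, 0],
  [5, 4, 0, 5, 3, 2, 0],
  [4, 5, 4, 3, 5, 0],
  [0, 1, 2, 4, 0, 0],
  [4, 0, 2, 1, 1, 2],
  [0, 5, 4, 3, 1, 2, 0],
  [3, 4, 3, 4, 5, 5],
  [2, 2, 4, 0, 2, 1, 0],
  [3, 5, 4, 5],
  [1, 3, 1, 3, 5, 1, 0],
  [5, 5, 5, 0, 4, 2, 2],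
  [4, 5, 0, 4],
  [1, 0, 5, 5, 4, 0, 0],
  [0, 5, 3, 5, 0],
  [3, 2, 4, 3, 2, 2],
  [0, 1, 2, 3, 2, 1, 5],
  [1, 1, 5, 5, 5, 4, 0],
  [1, 3, 5, 0, 0],
  [4, 5, 4, 5, 1, 0],
  [2, 0, 4, 5, 1, 1],
  [2, 4, 0, 4, 0],
  [1, 3, 1, 2, 1, 2, 0],
  [5, 5, 1, 1, 5, 0, 0],
  [5, 3, 2, 2, 1, 0, 2],
  [2, 4, 2, 4, 5, 1],
  [2, 4, 5, 4, 2],
  [2, 3, 2, 4, 0],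
  [5, 1, 3, 2, 1],
  [2, 2, 3, 5, 1],
  [1, 1, 5, 4, 0, 2],
  [1, 5, 0, 2, 1, 1],
  [2, 3, 1, 5, 5, 1, 0],
  [1, 0, 1, 2, 4, 0],
  [0, 4, 5, 1, 3],
  [5, 3, 1, 2, 1],
  [3, 1, 0, 5, 0, 0],
  [3, 2, 0, 4, 0, 5],
  [5, 0, 2, 0, 0, 1, 0],
  [5, 0, 2, 2, 0, 0],
  [5, 0, 2, 4, 2, 4],
  [4, 0, 5, 5, 4, 0],
  [4, 0, 4, 3, 2, 1],
  [2, 0, 1, 0, 5, 5],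
  [1, 3, 5, 1, 1, 5],
  [2, 3, 2, 0, 0],
  [2, 1, 5, 5, 0, 0],
  [4, 0, 5, 4, 5, 0],
  [5, 0, 5, 1, 2, 2],
  [5, 0, 1, 2, 2],
  [5, 3, 1, 5, 5],
  [0, 1, 5, 3, 2, 1],
  [5, 3, 2, 0, 0, 1],
  [1, 1, 5, 3, 4, 0, 2],
  [5, 3, 4, 2, 0, 2],
  [2, 0, 2, 2, 2],
  [0, 4, 3, 2, 3, 1],
  [0, 2, 2, 3, 1],
  [2, 3, 2, 2, 1, 1],
  [4, 5, 3, 4, 5, 0],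
  [4, 3, 1, 2, 2, 2],
  [0, 1, 1, 3],
  [0, 5, 5, 1, 3, 4],
  [4, 0, 4, 0, 5],
  [0, 2, 1, 5, 3, 2],
  [5, 1, 5, 4, 0, 2, 1],
  [2, 2, 1, 2, 4, 0],
  [1, 2, 2, 3, 4, 0],
  [1, 3, 2, 0, 0, 1],
  [0, 0, 4, 5, 1, 0, 0],
  [3, 1, 0, 5, 1, 0, 0],
  [1, 2, 3, 4, 5],
  [4, 3, 4, 0, 5, 1, 0],
  [5, 1, 0, 1, 3],
  [3, 5, 5, 3, 4, 0, 0],
  [5, 0, 5, 3, 5, 3],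
  [2, 4, 0, 2, 1, 1],
  [5, 3, 2, 3, 2, 0],
  [0, 4, 0, 0, 5, 0, 2],
  [3, 4, 2, 2, 1],
  [0, 0, 5, 5, 1, 5, 0],
  [4, 2, 3, 4, 5, 1],
  [5, 4, 5, 4, 3],
  [5, 3, 5, 0, 4, 5, 0],
  [4, 0, 1, 3],
  [3, 5, 0, 4, 3],
  [0, 5, 1, 0, 1],
  [0, 1, 2, 1, 5, 1, 0],
  [3, 2, 2, 1, 0],
  [5, 5, 3, 2],
  [1, 2, 1, 2, 1],
  [4, 2, 0, 0, 2],
  [4, 5, 0],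
  [3, 4, 3, 5, 5],
  [2, 0, 1, 0, 2, 0],
  [4, 0, 1, 1, 3],
  [2, 3, 4, 5],
  [1, 1, 5, 3, 4, 5, 0],
  [2, 1, 2, 1],
  [3, 1, 3, 1, 2, 1],
  [0, 1, 0, 2, 0, 2],
  [4, 5, 1, 0, 1, 3],
  [3, 2, 2, 2, 4, 0],
  [1, 2, 1, 5, 0, 2],
  [0, 2, 4, 5, 4, 5, 0],
  [4, 0, 2, 2, 3, 1],
  [3, 4, 5, 3],
  [3, 2, 0, 0, 1],
  [5, 5, 5, 1, 1, 0, 1],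
  [3, 5, 4, 2, 2, 1],
  [3, 2, 1, 5, 1, 5, 0],
  [2, 1, 1, 0, 0, 2],
  [3, 4, 5, 4, 5, 4],
  [5, 1, 0, 2, 1, 0],
  [0, 2, 1, 0, 2, 2],
  [1, 1, 0, 1, 3],
  [3, 1, 1, 0, 1, 0],
  [1, 5, 4, 0, 1, 0, 5],
  [2, 2, 1, 0, 5, 0],
  [3, 1, 3, 2, 4],
  [1, 5, 3, 5, 1, 3],
  [2, 2, 3, 4, 0],
  [1, 5, 1, 5, 4, 3],
  [1, 3, 5, 1, 5, 1, 0],
  [2, 4, 2, 4, 5, 3],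
  [1, 1, 5, 0],
  [3, 2, 2, 0, 4, 3],
  [4, 3, 2, 2, 1, 0],
  [2, 4, 3, 1, 5, 0, 2],
  [2, 1, 0, 4, 2],
  [4, 2, 4, 3, 2, 2],
  [3, 2, 1, 1, 5, 0],
  [0, 0, 4, 5, 0, 4],
  [2, 4, 5, 5, 3, 2, 0],
  [5, 0, 2, 2, 4, 2],
  [0, 0, 1, 3, 5, 0],
  [1, 2, 0, 0, 2, 1],
  [5, 1, 0, 5, 0, 2, 0],
  [2, 1, 2, 2, 0, 0],
  [1, 0, 2, 4, 3],
  [0, 4, 3, 2, 0, 1],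
  [2, 2, 1, 3, 2, 3],
  [1, 3, 5, 3, 2, 2],
  [4, 2, 2, 2, 0, 4],
  [4, 3, 2, 3, 1, 1, 0],
  [4, 2, 2, 0, 2],
  [2, 1, 0, 0, 4, 2],
  [5, 1, 5, 1, 5, 3],
  [4, 2, 2, 1, 1, 3],
  [2, 4, 2, 4, 5, 0],
  [1, 3, 5, 0, 2, 1, 1],
  [2, 4, 5, 5, 0, 2, 0],
  [0, 4, 3, 2, 1, 0, 1],
  [1, 5, 1, 0, 5, 3, 2],
  [0, 4, 0, 4, 2, 1],
  [0, 4, 0, 4, 5, 4],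
  [1, 5, 0, 4, 3, 2, 0],
  [3, 2, 0, 2, 3, 2],
  [5, 4, 0, 1, 0, 1],
  [1, 2, 1, 5, 0],
  [5, 1, 1, 0, 1],
  [2, 1, 0, 2],
  [5, 0, 0, 1, 0],
  [1, 3, 5, 5],
  [0, 1, 0, 0, 5, 0],
  [2, 3, 1, 2, 0, 2],
  [3, 4, 0],
  [4, 0, 4, 5, 0, 5],
  [0, 2, 2, 0],
  [5, 4, 3, 5, 3],
  [4, 2, 4, 0, 2, 2],
  [2, 1, 0, 1, 5, 0, 2],
  [5, 1, 5, 4, 5, 5],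
  [1, 3, 4, 2, 1],
  [2, 4, 0, 2, 3, 4, 3],
  [0, 1, 1, 0, 5, 0, 2],
  [2, 2, 1, 0, 5, 3],
  [5, 0, 2, 3, 4, 5],
  [1, 1, 5, 5, 1, 0],
  [4, 0, 0, 5, 1, 1, 0],
  [5, 5, 5, 0, 2],
  [1, 3, 4, 2, 4],
  [0, 1, 2, 2, 1],
  [2, 0, 5, 3, 1, 2, 1],
  [1, 3, 1, 5, 1, 1],
  [0, 0, 2, 2, 0, 1],
  [2, 2, 4, 0, 4, 3],
  [2, 1, 2, 0, 1],
  [0, 5, 5, 4, 0, 4]]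

/-- part 4 of the class -/
def vOrb4 : List (List ℕ) := [
  [0, 1, 1, 3, 5, 4, 0],
  [0, 1, 1, 0, 5],
  [3, 4, 0, 1, 5, 1],
  [5, 1, 0, 1, 5, 1],
  [1, 2, 2, 3, 1, 5],
  [0, 4, 0, 2, 3, 2, 1],
  [4, 2, 4, 5, 1, 5, 1],
  [3, 5, 0, 2, 1, 0],
  [5, 1, 5, 5, 0, 0],
  [4, 5, 5, 0, 1, 0, 1],
  [1, 5, 3, 4, 5],
  [0, 0, 4, 5, 0],
  [5, 1, 5, 3, 5, 0],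
  [0, 4, 5, 5, 1],
  [5, 5, 5, 4, 5, 3],
  [2, 4, 0, 4, 2, 4, 5],
  [3, 1, 5, 5, 4, 2],
  [2, 3, 5, 5, 1, 0],
  [4, 2, 1, 0, 5],
  [5, 5, 3, 1, 0, 0],
  [5, 5, 5, 4, 5, 4],
  [2, 2, 2, 1],
  [1, 5, 0, 5, 0, 2, 0],
  [4, 3, 1, 1, 5, 4, 0],
  [3, 2, 0, 5, 1],
  [1, 0, 5, 5, 0, 2, 1],
  [4, 0, 2, 0, 4, 5, 1],
  [3, 2, 4, 0, 2, 1],
  [2, 4, 5, 1, 5, 3],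
  [3, 5, 4, 5, 5, 1],
  [4, 0, 1, 5],
  [3, 5, 1, 1, 0, 5],
  [3, 1, 5, 5, 4, 3],
  [4, 2, 0, 2, 0],
  [3, 5, 0, 4, 5, 0],
  [0, 1, 1, 5, 3, 2],
  [0, 5, 1, 1, 5, 5, 1],
  [5, 0, 1, 2, 3, 2],
  [3, 4, 5, 3, 1, 3],
  [0, 2, 4, 5, 5, 0, 2],
  [4, 5, 5, 0, 4, 0, 1],
  [3, 4, 5, 5, 1, 3, 1],
  [5, 5, 5, 4, 5, 5],
  [5, 0, 2, 4, 5, 5, 1],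
  [5, 4, 0, 1, 2, 1, 1],
  [5, 4, 0, 2, 1, 0, 0],
  [4, 5, 3, 5, 0],
  [5, 0, 2, 4, 0, 2, 1],
  [1, 1, 3, 1, 1, 2],
  [1, 5, 0, 4, 2, 4],
  [1, 5, 4, 3],
  [3, 5, 5, 0, 1],
  [0, 5, 3, 1, 0, 1],
  [2, 0, 5, 4, 0, 0],
  [0, 5, 4, 2],
  [5, 1, 3, 1, 2, 4],
  [4, 0, 2, 0, 0],
  [1, 5, 0, 2, 0, 4],
  [3, 5, 5, 0],
  [5, 1, 0, 2, 0],
  [1, 0, 0, 4],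
  [0, 5, 0, 1, 3, 1],
  [0, 5, 0, 2, 4],
  [4, 0, 4, 3, 2, 0],
  [3, 5, 3, 1, 3],
  [1, 0],
  [5, 1, 2, 4],
  [2, 3, 2, 1, 1],
  [2, 2, 4, 2, 1, 5],
  [5, 1, 3, 4, 2, 4],
  [3, 5, 5, 1, 0],
  [3, 5, 0, 5, 1, 0],
  [0, 2, 4, 3, 2, 2],
  [1, 0, 1, 0, 0],
  [3, 1, 0, 2, 1, 5, 3],
  [1, 1, 5, 3, 5, 0],
  [1, 0, 2, 4, 2, 2],
  [0, 0, 5, 5, 1, 5, 1],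
  [3, 1, 1, 5, 3, 2],
  [5, 5, 1, 1, 5, 3],
  [0, 5, 5, 0, 2, 1],
  [5, 1, 5, 4, 0, 1, 0],
  [5, 0, 1, 0, 5, 3],
  [5, 0, 5, 1, 1, 0],
  [3, 5, 1, 0, 5, 1],
  [3, 5, 4, 3, 1, 5, 0],
  [3, 4, 3, 1, 0],
  [5, 0, 0, 5, 1, 3],
  [5, 5, 0, 2, 2, 0],
  [5, 3, 2, 4, 5, 0, 0],
  [0, 5, 1, 3, 2, 2],
  [5, 0, 0, 5, 4, 0, 2],
  [1, 1, 0, 1, 5],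
  [2, 3, 4, 5, 1, 5, 1],
  [3, 1, 5, 3, 2, 1],
  [5, 5, 4, 0, 1, 0],
  [4, 0, 4, 3, 5, 0],
  [2, 0, 5, 5, 5, 3],
  [5, 0, 1, 1, 5, 4],
  [4, 2, 1, 5],
  [0, 5, 3, 5, 0, 0],
  [5, 5, 4, 5, 0, 0, 1],
  [4, 3, 2, 2, 1],
  [2, 1, 5, 3, 2, 2],
  [2, 1, 2, 4, 3, 2],
  [1, 1, 3, 4, 2, 0, 2],
  [4, 5, 5, 5, 4, 0, 0],
  [0, 2, 3, 1, 5, 3],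
  [4, 5, 5, 5, 1],
  [2, 0, 2, 0, 4, 3],
  [5, 4, 5, 0, 2, 1],
  [0, 5, 5, 0],
  [5, 0, 1, 3, 5, 1],
  [0, 1, 1, 3, 2, 3, 1],
  [5, 4, 0, 4, 5, 5],
  [1, 3, 1, 5, 0],
  [1, 3, 2, 0, 4, 5],
  [4, 5, 5, 3, 2, 0],
  [4, 2, 1, 5, 1, 3],
  [2, 3, 1, 0, 5, 0],
  [0, 1, 5, 3, 1, 0],
  [1, 0, 1, 1, 5, 0],
  [5, 3, 1, 2, 4, 0, 0],
  [5, 3, 1, 3, 2],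
  [0, 1, 2, 1, 2],
  [5, 4, 0, 2, 1, 2, 2],
  [5, 5, 1, 5, 1, 0, 0],
  [1, 0, 0, 2, 0, 0, 2],
  [5, 0, 4, 5, 0],
  [0, 0, 2, 2],
  [4, 2, 2, 4, 5, 3],
  [1, 0, 5, 5],
  [2, 2, 4, 2, 2, 0, 0],
  [5, 5, 0, 2, 4, 2, 2],
  [2, 1, 0, 1, 3, 2],
  [4, 3, 2, 0, 4, 2],
  [2, 3, 5, 0, 5, 0],
  [1, 5, 3, 1, 0, 0],
  [1, 0, 2, 3, 4, 5],
  [5, 4, 5, 4],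
  [2, 0, 0, 1, 5],
  [2, 0, 5, 4, 3, 5, 0],
  [1, 5, 5, 5, 3],
  [0, 0, 5, 5, 0, 0],
  [0, 1, 1, 3, 5, 0],
  [5, 0, 2, 2, 1],
  [5, 0, 1, 5, 0, 2, 1],
  [4, 2, 3, 4, 2, 2],
  [5, 3, 2, 0, 1, 0],
  [4, 0, 2, 1, 5, 4],
  [4, 5, 1, 5, 5, 1, 1],
  [1, 5, 0, 4, 5, 1],
  [1, 2, 0, 1, 5],
  [4, 3, 4, 2, 4, 5, 0],
  [1, 2, 1, 0, 2, 0],
  [0, 4, 5, 5, 0, 1, 1],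
  [1, 2, 2, 0, 0, 1],
  [2, 4, 5, 0, 2, 0],
  [2, 1, 3, 2],
  [4, 2, 1, 5, 0],
  [2, 0, 5, 5, 0],
  [5, 0, 1, 5, 1, 3],
  [1, 1, 3, 4, 0],
  [1, 5, 3, 5, 0, 2],
  [0, 0, 2, 2, 3, 1],
  [5, 3, 2, 4, 0, 2, 0],
  [5, 0, 1, 5, 5, 0],
  [5, 5, 4, 5, 1, 1],
  [4, 3, 5, 5],
  [1, 0, 1, 2, 2],
  [2, 4, 5, 5, 1, 0, 0],
  [0, 1, 0, 2, 4],
  [3, 4, 0, 5, 5, 4],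
  [0, 5, 0, 4, 5],
  [5, 1, 3, 5, 3],
  [0, 0, 1, 0],
  [5, 0, 1, 3, 2, 0],
  [3, 5, 4, 3, 5, 0, 4],
  [2, 0, 0, 2, 0, 0],
  [5, 1, 5, 5, 5, 1],
  [2, 2, 1, 2, 1, 5],
  [0, 4, 3, 2, 4, 0],
  [5, 3, 4, 5, 4, 0, 0],
  [4, 3, 1, 5, 1, 1],
  [2, 3, 5, 4, 5, 3],
  [5, 5, 1, 0],
  [4, 3, 4, 2, 1],
  [5, 1, 5, 0, 4, 2, 4],
  [5, 5, 3, 2, 0, 4],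
  [0, 1, 1, 5, 4, 5, 0],
  [0, 2, 3, 2, 2, 0],
  [0, 1, 2, 2, 0, 2],
  [4, 5, 0, 5, 1, 0, 2],
  [2, 4, 2, 1, 5, 3],
  [3, 4, 5, 1],
  [1, 2, 2, 2, 4, 3],
  [5, 5, 3, 2, 1],
  [1, 3, 2, 4, 0, 1],
  [4, 5, 0, 2, 2],
  [4, 0, 2, 2, 0, 4],
  [2, 1, 3, 4, 5, 5],
  [1, 0, 1, 5, 1],
  [0, 1, 3, 5, 1, 1],
  [5, 5, 1, 3, 4, 0, 0],
  [2, 4, 0, 1, 0],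
  [1, 1, 5, 1, 0, 2],
  [4, 2, 0, 4, 0],
  [3, 1, 2, 1, 0, 0],
  [5, 4, 5, 0, 4],
  [5, 0, 4, 0, 0, 5, 0],
  [4, 0, 1, 2],
  [0, 5, 5, 5, 3, 1, 1],
  [0, 4, 2, 1, 0, 0],
  [4, 0, 1, 2, 2, 1, 1],
  [4, 5, 1, 5, 1, 3, 2],
  [5, 4, 3, 4, 5, 0],
  [1, 3, 5, 0, 5, 1],
  [0, 1, 3, 1, 0, 2, 0],
  [0, 0, 1, 0, 1, 2],
  [2, 1, 3, 5, 1, 1],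
  [4, 5, 0, 2, 1, 2],
  [5, 3, 4, 5, 4, 5, 4],
  [5, 3, 5, 4, 2, 2, 0],
  [2, 0, 0, 4, 5, 3],
  [0, 0, 5, 4, 0, 2],
  [2, 0, 1, 2, 4, 0],
  [4, 5, 4, 0, 4, 5, 0],
  [3, 5, 3, 1, 5, 1],
  [4, 3, 2, 1, 5, 1, 0],
  [0, 2, 4, 3, 2, 0],
  [1, 3, 5, 1, 0],
  [0, 1, 0, 5, 0, 5],
  [3, 1, 0, 2, 3, 4, 0],
  [3, 1, 2, 2, 1, 0],
  [4, 3, 4, 0, 0],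
  [1, 1, 3, 2, 1],
  [0, 2, 0, 1, 2, 1],
  [4, 5, 3, 5, 5, 0, 5],
  [4, 2, 0, 1, 0, 5, 1],
  [4, 0, 1, 2, 4],
  [2, 1, 2, 4, 5, 1],
  [5, 4, 0, 4, 0, 0],
  [1, 2, 2, 2, 0, 2, 1],
  [3, 2, 0, 0, 2, 0, 1],
  [3, 4, 3, 4, 5, 0],
  [1, 0, 1, 5, 3],
  [5, 5, 4, 5, 4, 0],
  [4, 5, 5, 3, 5, 4],
  [4, 3, 1, 2, 3, 4, 0],
  [2, 0, 5, 4, 5, 1],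
  [0, 2, 0, 2, 1, 5, 0],
  [3, 4, 0, 1, 1, 0]]

/-- part 5 of the class -/
def vOrb5 : List (List ℕ) := [
  [0, 5, 0, 1, 5, 5],
  [1, 2, 0, 2, 0, 0],
  [0, 5, 1, 0],
  [3, 4, 3, 5, 3],
  [1, 5, 3, 4, 5, 1, 0],
  [3, 2, 0, 1, 5, 3],
  [2, 3, 5, 0],
  [2, 4, 2, 1, 5, 1, 0],
  [5, 3, 2, 4, 0, 5, 3],
  [2, 2, 2, 3, 1, 0],
  [0, 2, 0, 2, 3, 4, 0],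
  [0, 4, 5, 4, 0, 0],
  [0, 2, 4, 0, 1, 5, 1],
  [1, 0, 2, 0, 4, 5, 1],
  [1, 5, 0, 1, 5, 5],
  [3, 4, 5, 0, 1, 3],
  [5, 5, 4, 0, 5, 1, 1],
  [5, 0, 4, 5, 4, 0, 0],
  [4, 5, 0, 0, 5, 1, 3],
  [2, 4, 5, 4, 5, 3],
  [0, 2, 4, 2, 2],
  [0, 2, 4, 5, 5, 1],
  [1, 5, 5, 4, 0, 1, 3],
  [2, 1, 5, 0, 1, 2, 2],
  [0, 2, 1, 1, 5, 1],
  [0, 4, 0, 2, 3, 2],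
  [0, 1, 0, 0],
  [1, 0, 1, 5],
  [5, 0, 1, 0, 5, 1, 0],
  [2, 1, 5, 3, 4, 5],
  [0, 2, 0, 1, 5, 1, 0],
  [0, 2, 3, 4, 5, 0],
  [1, 5, 3, 5, 0],
  [3, 2, 0, 4, 5, 3],
  [4, 5, 5, 0, 2, 2, 0],
  [2, 3, 2, 0, 1, 0],
  [1, 2, 4, 3],
  [0, 1, 5, 0, 5],
  [1, 5, 3, 2, 2, 1],
  [0, 1, 1, 5, 0, 0],
  [5, 5, 4, 3],
  [0, 2, 1, 2, 4, 5],
  [3, 5, 0, 5, 3, 2],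
  [1, 0, 5, 5, 0, 0, 1],
  [2, 2, 4, 0, 1],
  [5, 3, 2, 1, 2, 1],
  [4, 5, 3, 2, 2, 1],
  [0, 0, 4, 5, 4, 5, 4],
  [2, 0, 2, 1, 5, 0],
  [5, 1, 5, 5, 3, 1],
  [1, 2, 0, 5],
  [2, 3, 5, 1],
  [2, 3, 1, 3],
  [0, 4, 2, 1, 2, 3],
  [2, 0, 2, 1, 1, 3],
  [1, 3, 2, 4, 0, 1, 0],
  [3, 4, 5, 1, 5, 1],
  [5, 0, 0, 5, 5],
  [2, 1, 2, 0, 4, 3],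
  [0, 2, 4, 5, 1, 1],
  [1, 3, 5, 3, 5, 5],
  [2, 4, 0, 5, 1, 0, 2],
  [0, 5, 4, 0, 2],
  [2, 0, 1, 0, 1],
  [5, 4, 0, 5, 0, 0],
  [3, 5, 1, 5, 0],
  [1, 0, 0, 2, 4],
  [5, 5, 0, 1, 2, 4],
  [0, 2, 1, 5],
  [2, 0, 2, 0, 1, 1, 0],
  [1, 0, 5, 0, 2, 4, 3],
  [1, 3, 5, 5, 3],
  [2, 1, 3, 1, 1, 3],
  [5, 4, 5, 0, 2, 0],
  [4, 5, 3, 2, 1, 1, 0],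
  [4, 0, 2, 3, 2],
  [3, 5, 4, 3, 4, 5],
  [1, 5, 0, 0, 5, 1, 0],
  [2, 0, 1, 5, 1, 0],
  [3, 4, 0, 1, 5],
  [5, 5, 4, 0, 1, 5, 1],
  [2, 1, 5, 4, 2],
  [5, 1, 3, 2, 1, 0],
  [1, 0, 4, 2, 2],
  [3, 2, 1, 0, 4, 5],
  [0, 1, 0, 5, 0, 1],
  [0, 1, 1, 2, 0, 2],
  [2, 2, 4, 5, 4, 3],
  [1, 0, 5, 5, 5, 4],
  [1, 1, 2, 1, 1],
  [4, 3, 1, 0],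
  [4, 0, 0, 5, 4, 5, 0],
  [2, 4, 0, 5, 4, 5],
  [5, 3, 2, 1, 2],
  [3, 2, 2, 0, 4, 2],
  [0, 1, 5, 5, 4, 3],
  [2, 3, 1, 0, 4],
  [1, 2, 2, 3, 2],
  [3, 4, 2, 1, 5, 3],
  [0, 0, 5, 3, 2],
  [5, 0, 5, 5, 4, 0, 0],
  [1, 1, 3, 2, 2, 3, 1],
  [3, 1, 1, 5, 4],
  [3, 2, 1, 2, 2, 0, 0],
  [1, 2, 1, 0, 5, 0, 0],
  [4, 0, 2, 4, 5, 1],
  [3, 1, 1, 0, 5],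
  [2, 2, 2, 0, 4, 5],
  [2, 0, 4, 2, 0, 2, 2],
  [1, 0, 1, 1, 2],
  [3, 1, 2, 0],
  [1, 3, 2, 3, 2, 0],
  [1, 3, 1, 0, 1],
  [4, 2, 2, 4, 5],
  [4, 5, 1, 1, 5, 0],
  [0, 0, 1],
  [0, 4, 0, 0, 2],
  [3, 5, 1, 0, 1, 5],
  [0, 2, 3, 2, 1, 1],
  [5, 5, 1, 0, 0],
  [5, 4, 0, 5, 4, 5, 3],
  [0, 2, 2, 1, 1],
  [4, 3, 5, 3],
  [3, 4, 0, 1, 2],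
  [1, 3, 2, 2, 0],
  [0, 5, 0, 2, 1, 2, 2],
  [1, 0, 1, 0, 5, 0],
  [2, 0, 5, 1],
  [3, 1, 1, 2, 0, 0],
  [3, 1, 0, 2, 0],
  [3, 4, 0, 5, 0],
  [2, 4, 2, 1, 0, 5],
  [5, 3, 4, 5, 1, 0, 0],
  [1, 5, 0, 2, 0, 0, 1],
  [5, 4, 0, 5, 1, 1],
  [4, 5, 0, 4, 0, 2],
  [1, 2, 2, 1, 0, 5],
  [4, 5, 0, 1, 2, 1, 2],
  [4, 0, 0, 1, 0, 1],
  [1, 3, 1, 2, 2, 1],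
  [3, 5, 3, 2],
  [5, 5, 4, 0],
  [5, 3, 4, 0, 2, 0],
  [1, 5, 3, 2],
  [1, 0, 0, 1, 5, 1],
  [4, 0, 0, 1, 5],
  [3, 4, 5, 1, 1, 0],
  [1, 0, 0, 4, 5],
  [0, 2, 4, 0, 5, 1],
  [5, 5, 1, 5],
  [1, 1, 0, 1, 5, 0],
  [4, 0, 0, 4, 5, 1],
  [5, 0, 0, 5, 3],
  [4, 2, 1, 0, 4, 0],
  [1, 5, 3, 5, 0, 5],
  [5, 0, 2, 4, 0, 2, 0],
  [1, 0, 1, 2, 0, 0, 2],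
  [5, 0, 5, 5, 1, 1],
  [5, 5, 0, 5, 1, 1, 0],
  [5, 5, 0, 1, 3],
  [4, 2, 4, 5, 0, 1],
  [1, 0, 1, 0, 5, 1, 0],
  [5, 1, 5, 3, 1, 3],
  [0, 0, 1, 1],
  [1, 1, 0, 5, 3, 2],
  [2, 1, 2, 1, 2, 2],
  [0, 0],
  [0, 2, 2, 4, 2, 1],
  [3, 2, 0, 4, 5, 1],
  [5, 4, 0, 2],
  [4, 3, 2, 4, 2],
  [3, 5, 0, 1, 5, 0, 0],
  [5, 0, 1, 2, 4, 0],
  [3, 4, 0, 2, 4, 5, 0],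
  [0, 2, 3, 5, 5, 4],
  [2, 0, 1, 2, 0, 1],
  [1, 2, 4, 3, 4],
  [2, 1, 1, 5, 0, 0],
  [4, 0, 5, 5, 4, 0, 0],
  [1, 5, 0, 4],
  [2, 1, 3, 5, 0, 2, 2],
  [3, 2, 0, 1, 5],
  [4, 0, 1, 5, 3, 5, 1],
  [3, 5, 5, 5, 3],
  [1, 2, 1, 2, 2],
  [0, 4, 0, 5, 5],
  [4, 3, 5, 0, 0],
  [5, 5, 5, 4, 0],
  [5, 3, 2, 0, 4, 0, 0],
  [1, 5, 4, 5, 1, 0],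
  [1, 0, 2, 1, 1, 2],
  [2, 1, 2, 4, 5],
  [1, 2, 0, 1, 3, 1],
  [4, 5, 3, 1, 1, 0],
  [2, 4, 5, 1, 2],
  [3, 4, 5, 3, 2, 2, 1],
  [1, 3, 5, 3, 5, 3],
  [0, 2, 2, 0, 2, 0],
  [3, 2, 3, 1, 0, 0],
  [2, 0, 0, 2, 2, 0],
  [5, 0, 4, 5, 1, 0],
  [3, 2, 0, 1, 0, 1],
  [0, 2, 0, 4, 2, 4],
  [5, 4, 5, 0, 0, 4],
  [3, 5, 5, 4, 5, 1],
  [4, 2, 1, 2, 1, 5],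
  [2, 2, 2, 0, 4, 0, 1],
  [0, 1, 3, 1, 5, 5, 0],
  [5, 0, 4, 5, 5, 3],
  [1, 0, 2, 2, 1],
  [5, 0, 5, 0, 1, 5],
  [5, 1, 1, 5, 0, 0],
  [0, 5, 0, 5, 0, 5],
  [4, 5, 3, 1, 5],
  [2, 3, 4, 2, 1, 1],
  [2, 2, 1, 2, 1],
  [1, 0, 0, 2, 1, 5],
  [1, 3, 4, 5, 4, 0],
  [1, 1, 5, 0, 5, 3],
  [2, 1, 0, 5, 1],
  [4, 0, 4, 0, 0],
  [5, 1, 3, 5, 5, 0, 0],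
  [4, 2, 1, 5, 5, 5],
  [3, 5, 0, 1, 5, 5],
  [1, 0, 2, 2, 4, 0],
  [5, 4, 2, 0, 0],
  [4, 5, 0, 5, 5, 5, 0],
  [4, 2, 2, 2, 4, 0],
  [2, 0, 5, 0, 0],
  [3, 2, 1, 1, 2],
  [3, 2, 2],
  [3, 2, 2, 3, 4, 0],
  [3, 2, 2, 0, 0, 1],
  [3, 5, 3, 2, 0, 1],
  [0, 1, 3, 5, 1, 0, 0],
  [5, 0, 2, 4, 5],
  [5, 5, 0, 0, 1, 0],
  [3, 1, 5, 0, 2, 0, 1],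
  [2, 0, 0, 5, 5, 5],
  [5, 5, 0, 4],
  [0, 2, 3, 1, 0, 2],
  [4, 2, 0, 1, 2, 1],
  [5, 0, 5, 0],
  [5, 4, 2, 2, 2, 1],
  [3, 2, 2, 0, 0, 1, 1],
  [0, 5, 3, 1, 5, 0],
  [4, 0, 5, 5, 5, 0],
  [3, 5, 1, 5],
  [2, 1, 1, 5, 5, 0],
  [0, 1, 5, 4, 0],
  [0, 2, 0, 0, 1, 5],
  [4, 0, 4, 2, 2, 0]]

/-- part 6 of the class -/
def vOrb6 : List (List ℕ) := [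
  [5, 3, 4, 0, 5, 3],
  [2, 2, 1, 1, 0],
  [2, 0, 0, 2, 1, 0],
  [4, 2, 0, 1, 2],
  [1, 0, 5, 0, 5, 3],
  [2, 3, 4, 5, 0, 4],
  [2, 3, 1, 5, 0],
  [2, 1, 5, 0, 2, 1],
  [0, 0, 1, 5, 3],
  [2, 0, 2, 0, 4, 5],
  [3, 2, 1, 0, 1],
  [5, 4, 3, 1, 1, 0],
  [4, 2, 3, 2, 1, 0],
  [2, 0, 2, 4, 3],
  [1, 0, 2, 4, 0, 2, 0],
  [1, 3, 1, 5, 3, 2, 2],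
  [4, 0, 5, 0, 4, 5, 0],
  [5, 0, 1, 5, 4, 2],
  [5, 5, 1, 5, 3, 2],
  [0, 1, 5, 3, 5, 5, 0],
  [2, 4, 2, 2, 4, 0],
  [5, 1, 5, 4, 0, 0],
  [1, 3, 2, 2, 2, 1, 2],
  [4, 5, 0, 1, 5],
  [4, 3, 4, 2, 0, 0],
  [1, 2, 4, 5, 1, 0],
  [2, 2, 3, 4, 5, 3],
  [0, 2, 4, 5, 0, 1],
  [3, 4, 5, 1, 0, 5],
  [3, 1, 3, 1, 1, 2],
  [3, 5, 0, 0, 1],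
  [1, 3, 4, 5, 3, 1, 0],
  [3, 4, 2, 1, 1],
  [0, 1, 5, 4, 0, 4],
  [3, 4, 5, 0, 5, 1],
  [3, 2, 4, 2, 4],
  [3, 5, 4, 2, 2, 0],
  [2, 1, 3, 1, 2, 0],
  [0, 1, 0, 1, 1],
  [1, 1, 0, 0, 5, 1, 0],
  [5, 0, 0, 1, 2, 4],
  [1, 5, 1, 0, 2, 2],
  [2, 0, 1, 0, 2, 4],
  [0, 2, 4, 0, 0],
  [2, 3, 1, 0],
  [5, 0, 4, 2, 2, 0],
  [4, 5, 3, 5, 0, 4, 0, 0],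
  [3, 5, 3, 4, 0],
  [4, 0, 4, 3],
  [5, 4, 0],
  [4, 2, 3, 1, 1],
  [3, 1, 0, 4, 0],
  [5, 4, 0, 2, 0, 4],
  [2, 0, 4, 2, 4],
  [4, 0, 0, 2, 2, 3],
  [4, 2, 0, 1, 0, 0],
  [2, 3, 4, 0, 2],
  [0, 1, 3, 1],
  [0, 1, 5, 0, 1, 5],
  [1, 5, 5, 3, 1, 0],
  [1, 2, 2, 1, 2, 1],
  [2, 1, 2, 1, 5],
  [1, 5, 4, 2, 0, 0],
  [5, 3, 4, 2, 4, 5, 3],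
  [4, 3, 2, 4, 2, 1, 1],
  [2, 4, 2, 1, 3, 5, 0],
  [2, 0, 4, 0, 2, 2],
  [5, 0, 5, 5, 5, 0],
  [4, 3, 2, 4, 2, 1],
  [2, 2, 2, 4, 0],
  [2, 0, 2, 4, 5, 4, 0],
  [0, 4, 5, 0, 2],
  [3, 4, 5, 1, 1, 3],
  [0, 5, 3, 5, 3, 2],
  [4, 5, 5, 0, 0],
  [5, 0, 5, 4, 5],
  [3, 4, 2, 4, 5, 1],
  [4, 5, 0, 5, 3],
  [2, 0, 1, 5, 4, 5],
  [0, 4, 0, 0],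
  [1, 2, 3, 4, 2, 1, 1],
  [2, 1, 5, 5, 5],
  [5, 3, 1, 5],
  [1, 1, 3, 4, 5, 4, 0],
  [5, 0, 1, 5, 1, 5],
  [5, 1, 3, 4, 0, 5],
  [0, 4, 2, 0, 0],
  [4, 0, 2, 0, 2, 2],
  [5, 3, 5, 4, 0, 0],
  [4, 3, 2, 4, 5, 0, 1],
  [3, 5, 5, 0, 1, 3],
  [3, 1, 2, 4, 0, 0],
  [1, 5, 5, 5, 4],
  [4, 0, 5, 5, 5, 3, 2],
  [4, 2, 3, 1, 5, 3],
  [0, 4, 5, 3, 2, 1],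
  [2, 2, 3, 1, 0],
  [4, 0, 5, 0, 5, 1],
  [2, 3, 2, 0, 1, 0, 1],
  [0, 0, 5, 4, 5, 5],
  [5, 4, 5, 4, 0],
  [2, 1, 0, 2, 2],
  [1, 3, 1, 5, 0, 2],
  [2, 0, 1, 0, 0, 2],
  [5, 3, 1, 5, 0],
  [0, 0, 5, 4, 0, 0],
  [3, 1, 2, 3, 2, 2],
  [5, 5, 3, 2, 2],
  [2, 2, 2, 3, 2, 0],
  [3, 2, 2, 1, 1],
  [5, 5, 5, 3, 2, 1, 0],
  [1, 3, 2, 0, 2, 0, 1],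
  [4, 0, 1, 2, 1, 1],
  [5, 0, 0, 2, 4, 5],
  [3, 1, 5, 0, 2, 0],
  [0, 2, 2, 1, 2, 2],
  [5, 1, 5, 1, 2],
  [0, 4, 5, 1, 0],
  [4, 5, 0, 0, 4],
  [0, 1, 5, 0, 1, 0],
  [2, 0, 0, 4, 3],
  [2, 1, 3, 1, 1, 5, 0],
  [2, 0, 5, 0, 1, 5, 5],
  [1, 5, 1, 0, 4, 5, 0],
  [0, 0, 5, 4, 5, 1, 0],
  [2, 0, 4, 5, 5, 0],
  [1, 2, 0, 2, 0, 1],
  [5, 0, 2, 4, 5, 1],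
  [3, 1, 5, 3, 5, 1],
  [4, 5, 1, 0, 4, 5, 0],
  [2, 3, 5, 1, 1, 5],
  [3, 5, 3, 5, 0, 4],
  [2, 3, 5, 5, 1, 1],
  [2, 3, 5, 4, 5, 5],
  [3, 1, 1, 0, 5, 0, 0],
  [0, 5, 0, 5, 3, 5, 0],
  [1, 5, 3, 4, 3],
  [2, 1, 5, 1, 0, 5, 1],
  [0, 5, 3, 4, 0, 0, 2],
  [2, 1, 2, 1, 2, 1],
  [4, 3, 1, 5, 5, 0],
  [3, 1, 2, 2, 0],
  [3, 1, 5, 0, 4],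
  [1, 0, 5, 1, 5, 3],
  [4, 0, 1, 2, 0, 1],
  [1, 3, 1, 5, 5, 0],
  [0, 2, 3, 1, 2, 3],
  [0, 2, 2, 3, 1, 5],
  [3, 5, 4, 0, 2],
  [0, 0, 2, 3, 1, 0, 0],
  [0, 2, 0, 2, 0, 0],
  [1, 3, 1, 3, 5, 0, 5],
  [1, 2, 1, 3],
  [5, 1, 2],
  [2, 3, 1, 2, 1],
  [2, 2, 1, 2, 2, 4],
  [2, 0, 2, 4, 0],
  [0, 4, 2, 2, 2, 0, 0],
  [5, 0, 2, 1, 0, 2],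
  [4, 5, 0, 2, 3, 2, 1],
  [5, 0, 2, 4, 0],
  [0, 2, 3, 4, 3],
  [2, 1, 2, 4, 3, 2, 0],
  [5, 3, 1, 2, 1, 2, 0],
  [3, 2, 2, 2, 0],
  [1, 1, 0, 5, 0, 5],
  [4, 2, 4, 0, 4, 5],
  [2, 4, 0, 5, 1, 0],
  [2, 1, 5, 1, 3, 4],
  [2, 4, 5, 1, 0, 0],
  [4, 0, 4, 2, 1, 5],
  [1, 5, 3, 4, 5, 1, 1],
  [5, 3, 2, 1, 2, 3],
  [5, 3, 2, 1, 2, 4],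
  [4, 2, 4, 0, 5, 5, 0],
  [4, 0, 5, 5, 1, 0],
  [5, 5, 4, 5, 1],
  [1, 0, 2, 1, 0, 2],
  [1, 5, 1, 5, 5],
  [0, 2, 1, 2, 1],
  [2, 2, 1, 5, 4, 2],
  [1, 2, 2, 0, 1, 0, 0],
  [0, 5, 4, 5, 1],
  [1, 2, 1, 2, 0],
  [4, 2, 1, 2, 0],
  [2, 4, 0, 1, 2],
  [2, 1, 0, 0, 2, 4],
  [2, 2, 0, 0, 1, 0],
  [2, 1, 2, 1, 1],
  [2, 0, 1],
  [2, 3, 2, 4],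
  [1, 2, 4, 2, 1, 1],
  [2, 1, 0, 1, 2],
  [2, 2, 3, 4, 0, 0],
  [3, 5, 4, 5, 5],
  [2, 1, 2, 0],
  [1, 0, 5, 4, 5, 1],
  [1, 1, 2, 1, 2, 0],
  [2, 2, 0, 1, 0, 0],
  [1, 2, 0, 1],
  [1, 2, 1, 2, 1, 1],
  [2, 4, 2, 1, 1],
  [3, 4, 5, 1, 2],
  [0, 4, 2, 1, 5, 1],
  [4, 0, 5, 1, 3, 2],
  [0, 4, 5, 5, 4, 2, 1],
  [5, 5, 5, 1],
  [4, 0, 4, 2, 2, 0, 0],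
  [2, 1, 5, 1, 3],
  [2, 3, 4, 0, 4, 5],
  [5, 5, 3, 5, 4, 3],
  [5, 5, 5, 4, 0, 0],
  [2, 1, 5],
  [5, 5, 0, 5, 1, 0],
  [1, 5, 4, 5, 0, 2, 1],
  [5, 5, 5],
  [3, 1, 1, 5, 1, 3],
  [3, 2, 2, 1],
  [5, 5, 3, 5, 1, 1],
  [5, 4, 3, 1, 3, 2],
  [4, 3, 4, 2, 0, 2],
  [5, 5, 3, 2, 0],
  [3, 2, 1, 2, 0, 2],
  [1, 1, 3, 1, 5, 0],
  [2, 3, 2, 1, 0, 1],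
  [0, 4, 3, 5, 0],
  [3, 2, 4, 5, 5],
  [2, 4, 2, 2, 0, 2],
  [5, 5, 4, 3, 2, 1],
  [2, 1, 1, 5],
  [0, 5, 4, 3, 5, 0],
  [2, 4, 2, 3, 1, 5],
  [0, 2, 0, 2, 4, 3],
  [0, 4, 5, 0, 0, 1, 0],
  [5, 5, 3, 4, 0, 1, 2],
  [2, 0, 4, 3, 2, 4, 3],
  [3, 4, 3, 5, 4, 5],
  [4, 0, 2, 4, 5, 0],
  [3, 5, 0, 2, 0, 0],
  [2, 4, 5, 5],
  [0, 4, 0, 0, 1, 5],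
  [4, 2, 1],
  [3, 4, 3, 5, 0, 0],
  [2],
  [0, 1, 3, 5, 4],
  [0, 0, 1, 2, 1],
  [2, 2, 2, 4, 2],
  [4, 5, 4, 5, 0, 2],
  [2, 4, 0, 2, 1, 1, 0],
  [5, 1, 3, 1, 2, 1],
  [2, 1, 5, 5, 1],
  [0, 2, 1, 5, 0]]

/-- part 7 of the class -/
def vOrb7 : List (List ℕ) := [
  [1, 5, 4, 5, 3, 1, 0],
  [5, 3, 1, 2, 1, 2],
  [5, 1, 0, 5, 1, 0],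
  [5, 5, 3, 2, 0, 1, 0],
  [2, 0, 4, 5, 1],
  [1, 1, 0, 0, 2],
  [5, 1, 0, 1, 0, 1, 2],
  [5, 5, 5, 0, 0],
  [0, 4, 5, 5, 5, 4, 0],
  [5, 4, 2, 0, 2],
  [4, 3, 5, 1, 5, 3],
  [2, 3, 1, 5, 5, 4, 0],
  [3, 2, 3, 4, 2, 1, 2],
  [4, 5, 3, 1, 0, 1],
  [4, 5, 0, 2, 1, 0],
  [0, 1, 2, 0, 2],
  [4, 2, 2, 2],
  [5, 4, 5, 3, 2, 0, 0],
  [4, 5, 0, 2, 4],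
  [4, 5, 0, 0, 1],
  [5, 3, 5, 4, 0],
  [3, 4, 3, 2, 2],
  [5, 5, 0, 1, 2, 0],
  [1, 2, 4, 5, 3],
  [0, 4, 2, 0, 2, 1, 0],
  [4, 5, 3, 4, 0, 1],
  [4, 5, 5, 1, 2, 1],
  [4, 5, 0, 1, 2, 3],
  [1, 0, 5, 4, 5, 5, 1],
  [4, 5, 4, 3, 1, 2, 0],
  [5, 1, 5, 0, 4],
  [5, 4, 5, 3, 1, 2, 0],
  [1, 0, 2, 1, 3],
  [0, 2, 3, 1, 2, 1],
  [0, 2, 3, 4, 2, 1],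
  [0, 4, 5, 5],
  [4, 0, 5, 3, 4, 0],
  [4, 3, 5, 4, 0, 0],
  [4, 5, 5, 1, 2],
  [0, 0, 2, 1, 2],
  [4, 5, 3, 1, 1, 3],
  [3, 5, 4, 0, 5, 0, 0],
  [3, 4, 3, 2, 4, 3],
  [4, 3, 5, 5, 1, 2],
  [4, 5, 4, 0, 0, 4],
  [3, 2, 1, 5, 5, 3],
  [0, 1, 0, 1, 5, 0, 0],
  [4, 0, 0, 5, 1, 3],
  [2, 4, 0, 4, 2, 2],
  [4, 5, 0, 1, 0, 1],
  [4, 0, 5, 1, 1, 0],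
  [4, 5, 4, 5, 1, 2],
  [5, 3, 5, 3, 4, 5],
  [4, 0, 2, 4, 5],
  [5, 5, 0, 1, 1, 2],
  [4, 5, 0, 2, 2, 0],
  [3, 2],
  [4, 0, 5, 1, 0, 0],
  [4, 5, 5, 4, 2],
  [0, 1, 0, 0, 2],
  [1, 5, 0, 2, 3, 2, 0],
  [1, 0, 0, 5, 1, 3],
  [1, 3, 5, 4, 0, 0],
  [0, 0, 1, 2, 2, 3],
  [1, 1, 3, 2],
  [0, 5, 3, 2, 2, 1, 0],
  [1, 5, 5, 4, 2],
  [0, 1, 0, 1, 2],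
  [1, 5, 1, 0, 2, 1, 3],
  [1, 5, 4, 0, 0, 4],
  [0, 1, 0, 4, 2],
  [1, 0, 5, 1, 0, 0],
  [1, 5, 0, 1, 0, 1],
  [0, 1, 0, 4, 2, 1],
  [1, 0, 2, 4, 5],
  [1, 5, 0, 2, 1, 3],
  [1, 5, 0, 2, 2, 0],
  [1, 0, 5, 1, 1, 0],
  [5, 0, 5, 1, 5, 0, 0],
  [0, 1, 0, 1, 2, 1],
  [2, 2, 2, 1, 1, 0],
  [1, 0, 5, 3, 4, 0],
  [3, 5, 5, 3, 1, 1],
  [1, 5, 5, 1, 2],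
  [0, 4, 0, 1, 0],
  [0, 1, 1, 5, 1, 1],
  [4, 0, 5, 4, 0, 2],
  [0, 5, 0, 2, 4, 3],
  [4, 0, 1, 5, 0, 5],
  [3, 1, 3, 1, 2, 2],
  [2, 0, 0, 5, 1],
  [1, 5, 5, 4, 3],
  [3, 1, 0, 5, 4, 5, 1],
  [5, 3, 4, 2, 2, 0],
  [1, 5, 0, 0, 5, 5],
  [4, 3, 5, 1, 5, 0],
  [1, 0, 5, 4, 0, 2],
  [5, 5, 5, 3, 5, 0],
  [2, 3, 4, 0, 1],
  [0, 1, 3, 4, 5, 5],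
  [5, 3, 2, 2, 1],
  [5, 4, 0, 5, 4, 5],
  [5, 1, 5, 0, 4, 2, 1],
  [4, 5, 4, 0, 5, 0, 0],
  [2, 2, 1, 0, 1],
  [2, 0, 5],
  [3, 5, 3, 5, 5],
  [0, 0, 2, 4],
  [1, 3, 4, 5, 1, 5, 1],
  [0, 5, 5, 0, 0, 1],
  [2, 4, 3],
  [0, 4, 2, 0, 2, 2],
  [2, 4, 3, 1, 5, 4],
  [1, 3, 5, 1, 5, 0],
  [0, 0, 2, 1, 5, 0, 0],
  [4, 2, 0, 2, 1, 5, 0],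
  [4, 0, 1, 1, 5, 0, 0],
  [3, 5, 5, 3],
  [2, 2, 0, 4, 0, 1],
  [3, 2, 4, 0, 1, 0],
  [0, 2, 3, 2, 4, 2],
  [2, 4, 5, 4, 0, 5, 0],
  [3, 1, 2, 4, 0],
  [3, 1, 2, 1, 0, 2],
  [5, 5, 1],
  [1, 1, 5, 1, 5, 4, 0],
  [4, 5, 3, 2, 3, 2],
  [5, 5, 3, 1, 0, 1],
  [5, 0, 1, 5, 3],
  [1, 0, 4, 5, 0],
  [0, 2, 3, 4, 2, 1, 2],
  [5, 0, 4, 0, 5, 1, 0],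
  [2, 0, 1, 0, 4, 2],
  [4, 3, 2, 4, 2, 2],
  [5, 0, 1, 5, 4],
  [2, 4, 2, 0, 4, 5, 0],
  [2, 0, 5, 1, 5, 1],
  [3, 4, 2, 3, 2, 1, 0],
  [3, 2, 3, 5, 5, 0, 0],
  [1, 0, 4, 2, 4, 5],
  [0, 2, 1, 0, 4],
  [4, 3, 5, 0, 2, 2],
  [2, 0, 1, 1, 2],
  [5, 4, 0, 1, 2, 1],
  [4, 5, 5, 1, 0],
  [1, 1, 3, 1, 5, 1, 1],
  [3, 5, 4, 3, 2, 3, 2],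
  [2, 2, 4, 2, 2, 0],
  [0, 4, 5, 0, 5],
  [0, 4, 5, 0, 0, 4],
  [5, 0, 0, 2, 2, 1],
  [5, 3, 2, 0, 5],
  [2, 4, 0, 2, 2],
  [4, 5, 1, 3, 5, 3],
  [0, 1, 0, 2, 1, 0, 0],
  [2, 2, 0, 0, 1],
  [0, 1, 2, 2],
  [2, 1, 5, 1, 1, 0],
  [1, 2, 1, 0, 2],
  [4, 2, 1, 3, 2],
  [1, 3, 4, 0],
  [5, 1, 0, 1, 5, 1, 0],
  [0, 0, 5, 1, 1, 0],
  [2, 1, 3, 4, 2, 0, 2],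
  [5, 3, 5, 0, 2],
  [2, 0, 2, 2, 0, 1],
  [5, 5, 3, 5, 1, 0, 0],
  [1, 5, 0, 0, 1, 0],
  [2, 1, 3, 2, 2, 1, 0],
  [2, 3, 4, 3, 2, 2, 1],
  [3, 1, 5, 1, 5, 4],
  [2, 2, 1, 1, 5],
  [3, 1, 3],
  [2, 4, 3, 4, 5, 1],
  [4, 5, 0, 1, 5, 5, 0],
  [0, 2, 2, 3, 1, 0, 5, 0],
  [5, 1, 3, 5, 4, 2],
  [1, 0, 1, 0, 0, 5, 0],
  [1, 0, 1, 2, 2, 1],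
  [3, 5, 5, 5, 3, 2],
  [5, 1, 2, 1, 0],
  [2, 0, 1, 0, 5, 1],
  [5, 1, 5, 3, 2, 2],
  [5, 1, 5, 1, 3, 2, 1],
  [5, 4, 0, 0, 1, 5, 0],
  [1, 1, 2, 0, 2, 0, 0],
  [1, 5, 4, 0, 4, 0, 0],
  [2, 4, 2, 2, 3],
  [3, 1, 0, 1, 2, 2, 2],
  [0, 5, 3, 4, 3, 5, 0],
  [3, 2, 1, 5, 1, 0],
  [5, 1, 5, 0, 1, 5, 0],
  [2, 2, 1, 1, 2, 0, 0],
  [4, 3, 2, 1],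
  [1, 1, 3, 5, 1, 0],
  [0, 1, 1, 3, 5, 3, 2],
  [5, 0, 1, 2, 1],
  [1, 0, 5, 1, 0],
  [2, 3, 1, 0, 4, 2],
  [0, 1, 2, 4],
  [4, 0, 4, 3, 4, 5],
  [3, 1, 2, 1, 2, 2],
  [5, 3, 5, 5, 0, 5],
  [5, 3, 4, 0, 1, 2],
  [3, 1, 2, 3, 4, 0],
  [4, 5, 0, 1, 5, 0, 5],
  [3, 4, 0, 0],
  [1, 2, 1, 2, 4, 5, 1],
  [3, 5, 5, 4, 5, 5],
  [4, 5, 3, 2, 3],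
  [2, 0, 0, 1, 5, 0, 0],
  [1, 3, 2, 0, 1, 5, 3],
  [0, 1, 1, 2, 1],
  [5, 5, 3, 5, 4],
  [1, 3, 4, 3, 5, 3],
  [4, 3, 1, 2, 0, 1],
  [1, 1, 0, 5, 1, 1, 0],
  [5, 5, 4, 3, 5, 0],
  [1, 0, 1, 0, 1, 2],
  [2, 4, 3, 4, 5],
  [5, 5, 1, 5, 4, 3],
  [0, 4, 5, 5, 3, 5, 0],
  [1, 1, 5, 5, 1, 2],
  [4, 0, 1, 0, 0, 2],
  [1, 1, 0, 2, 4, 5],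
  [2, 3, 1, 2, 1, 2, 1],
  [3, 1, 0, 1, 1, 5],
  [0, 5, 4, 0, 2, 2, 2],
  [1, 1, 5, 5, 4, 2],
  [2, 1, 3, 2, 0, 0],
  [2, 3, 5, 5, 5, 0],
  [2, 4, 0, 2, 2, 2],
  [0, 2, 1, 3, 2, 0, 0],
  [5, 5, 4, 0, 4, 5, 0],
  [1, 0, 1, 0, 1, 2, 1],
  [5, 5, 1, 5, 1, 1],
  [5, 1, 0, 2, 1, 5, 4],
  [1, 0, 1, 0, 4, 2],
  [5, 5, 1, 3, 1, 5, 1],
  [4, 3, 2],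
  [0, 2, 4, 5, 4, 0, 0],
  [3, 5, 0, 1, 5, 1, 0],
  [2, 2, 4, 3, 5, 1],
  [4, 0, 4, 5, 1, 0, 0],
  [5, 3, 2, 2, 3, 1],
  [5, 3, 4, 5, 4, 0],
  [0, 1, 3, 5, 1, 0],
  [4, 5, 5, 1, 3, 4],
  [4, 5, 1, 0, 1],
  [0, 4, 0, 2, 1],
  [4, 0, 4, 2, 0, 0, 2],
  [2, 1, 3, 4, 5]]

/-- part 8 of the class -/
def vOrb8 : List (List ℕ) := [
  [4, 5, 0, 5, 0, 5, 1],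
  [5, 1, 1, 0],
  [2, 4, 0, 2, 4, 2],
  [3, 1, 2, 4, 3, 2],
  [4, 5, 3, 1, 3],
  [1, 5, 1, 2, 1, 5, 1],
  [0, 1, 0, 1, 2, 2],
  [3, 4, 2, 1, 0, 2],
  [5, 3, 4, 0, 5, 0],
  [1, 3],
  [4, 3, 4, 5, 0],
  [3, 2, 2, 1, 3, 1],
  [0, 2, 0, 1, 1, 5, 0],
  [1, 0, 5, 4, 5, 3],
  [0, 2, 4, 2, 1, 2, 0],
  [1, 3, 2, 1, 1, 0],
  [4, 2, 2, 3, 1],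
  [2, 4, 0, 0, 2],
  [4, 0, 1, 1, 0],
  [1, 2, 1, 2, 4, 0],
  [2, 1, 5, 1, 0],
  [5, 1, 0, 4, 2, 2, 2],
  [3, 5, 0, 4, 0, 0],
  [1, 1, 0, 0, 5, 0, 2],
  [2, 1, 2, 1, 1, 3],
  [4, 0, 4, 5, 1, 0],
  [0, 2, 4, 0, 5, 5],
  [4, 2, 1, 0, 2, 2],
  [4, 3, 2, 2, 1, 1],
  [4, 0, 0, 5, 4, 0, 0],
  [3, 2, 2, 1, 3, 4, 0],
  [1, 0, 1, 0, 2, 0],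
  [5, 5, 3, 2, 4, 5],
  [2, 3, 2, 1, 0, 4],
  [0, 4, 5, 1, 1, 3],
  [2, 1, 0, 2, 1, 1],
  [4, 5, 3, 1, 5, 0],
  [3, 2, 3, 4, 2],
  [0, 0, 4, 5, 3],
  [2, 0, 0, 4, 2],
  [5, 5, 5, 4],
  [3, 2, 3, 2, 0, 0],
  [1, 2, 0, 2, 2, 1, 5],
  [0, 1, 3, 2, 1, 5],
  [1, 3, 1, 3, 5, 4, 0],
  [2, 1, 0, 5, 0, 2, 0],
  [4, 0, 4, 2, 0, 0],
  [1, 2, 4, 0, 0, 5, 0],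
  [3, 1, 5, 0, 2],
  [2, 2, 1, 3, 2, 4, 0],
  [5, 0, 1, 0, 2, 0],
  [5, 4, 3, 4, 5, 5, 0],
  [0, 5, 5, 0, 1, 3, 1],
  [3, 4, 5, 4, 0, 0],
  [5, 3, 2, 2, 2],
  [3, 2, 0, 2, 0, 1],
  [4, 5, 1, 5, 1, 2],
  [1, 1, 5, 0, 0, 4],
  [0, 5, 3, 5, 1, 0],
  [3, 1, 0, 2, 2, 0, 0],
  [0, 0, 1, 5, 4, 0],
  [1, 0, 0, 2, 1],
  [5, 4, 0, 2, 4, 5],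
  [0, 1, 2, 4, 5, 1],
  [1, 1, 5, 4, 0, 5],
  [4, 5, 3, 4],
  [1, 5, 4, 5, 0],
  [2, 4, 0, 5],
  [5, 4, 2, 2],
  [3, 2, 1, 2, 0, 0, 2],
  [4, 3, 2, 2, 3],
  [5, 1, 1, 5, 0, 4],
  [5, 1, 0, 1, 5, 0, 0],
  [2, 4, 0, 0, 5, 1],
  [4, 5, 3, 4, 2, 2, 1],
  [0, 1, 2, 1, 5, 1],
  [3, 2, 1, 0],
  [2, 2, 1, 1],
  [5, 4, 0, 5],
  [0, 5, 4, 5, 5, 3, 1],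
  [5, 3, 2, 2, 0, 1],
  [5, 1, 3, 4, 5, 5],
  [5, 0, 2, 4, 2],
  [2, 3, 1, 1, 5, 3],
  [1, 5, 3, 4],
  [4, 5, 4, 5, 0],
  [0, 2, 1, 0, 2, 4],
  [2, 4, 3, 4, 2, 1],
  [5, 3, 1, 5, 3, 2],
  [2, 2, 0, 0, 5, 3],
  [5, 0, 4, 5, 3],
  [3, 2, 1, 2, 1, 2, 0],
  [0, 0, 5, 5, 0, 2],
  [2, 2, 3, 1, 0, 4],
  [3, 1, 1, 3, 4, 5, 0],
  [0, 4, 2],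
  [5, 0, 2, 2, 2, 1],
  [2, 2, 3, 1, 2, 1, 1],
  [5, 4, 3, 4, 0, 5, 0],
  [5, 5, 0, 1, 0, 1],
  [2, 1, 0, 5],
  [1, 0, 0, 4, 5, 0],
  [3, 1, 1, 5, 4, 0],
  [4, 5, 5, 0, 5],
  [5, 1, 0, 2, 2, 2],
  [5, 1, 2, 1, 5, 0],
  [5, 0, 4, 3, 5, 0],
  [2, 4, 5, 1, 5, 1],
  [4, 3, 1, 1, 5, 1, 0],
  [0, 2, 2, 3, 2, 1],
  [0, 1, 1, 0, 5, 3],
  [4, 5, 0, 1, 5, 1],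
  [2, 2, 0, 2, 1],
  [5, 0, 5, 5, 4, 0, 5],
  [2, 0, 5, 4, 5, 1, 0],
  [0, 0, 1, 3, 5, 0, 0],
  [5, 5, 5, 4, 2, 1],
  [3, 4, 0, 2, 2, 2],
  [1, 0, 4, 5, 5, 1],
  [2, 1, 0, 4, 2, 2, 2],
  [2, 2, 3, 1, 2, 0, 0],
  [5, 4, 2, 1, 2],
  [2, 0, 4, 0, 1, 0],
  [2, 1, 1, 0],
  [2, 2, 0, 2, 0],
  [2, 2, 2, 4],
  [1, 0, 0, 1, 2, 0],
  [1, 0, 0, 2, 1, 1, 0],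
  [2, 1, 0],
  [2, 0, 4, 0, 0],
  [2, 2, 3, 5, 0],
  [2, 2, 0, 5, 0, 1],
  [2, 3, 4, 0],
  [1, 2, 4, 2, 2, 0],
  [3, 5, 5, 5],
  [2, 1, 0, 4, 0, 0],
  [2, 3, 1],
  [2, 1, 0, 1],
  [5, 5, 4, 5],
  [0, 0, 2, 0, 1],
  [3, 4, 3, 1, 5],
  [1, 2, 1, 3, 4, 3],
  [3, 1, 0, 2, 0, 0],
  [5, 1, 2, 1, 2],
  [0, 5, 0, 1, 1, 0],
  [2, 4, 5, 4, 3],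
  [5, 4, 0, 5, 4, 0],
  [3, 5, 3, 2, 2, 1, 0],
  [0, 2, 0, 1, 2, 4],
  [3, 5, 5, 1, 3],
  [1, 3, 2, 1, 5, 3, 2],
  [0, 2, 3, 4, 0, 0],
  [2, 2, 3, 4, 5, 1],
  [0, 4, 3, 5, 5, 0],
  [0, 5, 3, 4, 5, 1, 1],
  [0, 4, 0, 1, 0, 5],
  [3, 2, 0, 1, 1],
  [0, 2, 2, 2],
  [1, 5, 3, 2, 4, 2],
  [4, 0, 5, 5, 0, 1],
  [5, 1, 5, 5, 5],
  [4, 5, 1, 1, 5, 3],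
  [4, 5],
  [0, 1, 1, 5, 5, 4, 0],
  [4, 3, 5, 0, 1, 1, 0],
  [5, 5, 0, 1, 5, 1],
  [5, 1, 0, 0],
  [2, 2, 0, 4, 2],
  [5, 4, 0, 0, 5, 0],
  [0, 1, 3, 5, 0, 0],
  [5, 5, 3, 4, 0, 5, 1],
  [0, 4, 5, 5, 4, 0, 0],
  [2, 2, 1, 3, 1, 5, 1],
  [0, 5, 4, 3, 5, 1],
  [3, 2, 0, 1, 5, 5],
  [2, 2, 3, 1, 5, 4, 0],
  [5, 1, 5, 4, 2],
  [4, 2, 4, 5, 5, 0],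
  [2, 1, 1, 0, 5, 0],
  [5, 3, 5, 1, 0, 0],
  [1, 5, 3, 5, 4, 2],
  [5, 1, 3, 5, 5, 0],
  [1, 1, 0, 4, 0],
  [1, 3, 1, 5, 0, 5],
  [1, 3, 5, 1, 1, 0],
  [5, 1, 3, 4, 5],
  [0, 1, 3, 5, 5, 1, 1],
  [5, 4, 5, 3, 5, 4],
  [3, 1, 1, 0],
  [0, 5, 4, 5, 1, 1],
  [1, 3, 2, 4, 5, 1],
  [2, 2, 4, 3, 2, 2],
  [5, 4, 3, 4, 2, 1],
  [1, 5, 5, 0, 1, 1],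
  [5, 3, 1, 2, 2, 1, 0],
  [2, 2, 2, 1, 3, 4],
  [1, 3, 2, 4, 5],
  [1, 5, 4, 0, 2, 0, 0],
  [4, 3, 5, 0, 1, 5],
  [5, 4, 0, 4, 2, 2],
  [2, 1, 2, 2, 3, 1],
  [1, 5, 4, 3, 1, 0],
  [5, 0, 4, 5, 4, 3],
  [0, 5, 5, 1, 1, 5, 0],
  [5, 4, 2, 3, 4, 5, 0],
  [2, 4, 5, 4],
  [3, 5, 5, 4, 5, 0],
  [1, 1, 5, 0, 2],
  [2, 1, 1, 0, 5, 0, 0],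
  [0, 5, 5, 4, 5, 4],
  [3, 1, 5, 5, 4, 0],
  [3, 1, 1, 0, 2, 1],
  [1, 5, 1, 5, 1, 1],
  [5, 5, 4, 5, 0],
  [1, 1, 3, 2, 0, 2, 2],
  [4, 0, 4, 5, 3],
  [1, 3, 2, 3, 4, 5],
  [5, 1, 1, 0, 2, 1],
  [4, 3, 2, 1, 0, 4],
  [0, 0, 4, 5, 4],
  [1, 5, 1, 5, 0, 0, 1],
  [5, 5, 4, 3, 5, 0, 0],
  [2, 1, 0, 1, 0, 2, 1],
  [4, 3, 1, 1, 5, 1, 1],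
  [0, 1, 3, 5, 5, 4, 0],
  [2, 1, 1, 0, 0, 5, 0],
  [4, 2, 4, 0, 5, 3],
  [1, 1, 3, 1, 5, 1],
  [2, 1, 0, 2, 2, 0, 2],
  [0, 1, 3, 5, 4, 3],
  [5, 5, 4, 0, 1, 3],
  [3, 1, 5, 0, 2, 1],
  [5, 5, 0, 4, 0, 1],
  [2, 1, 5, 0, 1, 5],
  [5, 5, 5, 1, 2, 1],
  [2, 0, 1, 2, 0, 0],
  [0, 2, 0, 4, 5, 1],
  [5, 3, 5, 0],
  [0, 2, 3, 5, 5, 5, 1],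
  [0, 1, 5],
  [2, 4, 0, 5, 0, 5],
  [5, 1, 0, 1, 5, 5],
  [3, 5, 3, 2, 4, 3],
  [3, 1, 0, 4, 2, 2],
  [4, 0, 2, 3, 4, 5, 0],
  [4, 0, 2, 4, 2, 2],
  [2, 3, 4, 5, 5, 3],
  [5, 0, 1, 5, 5],
  [5, 5, 4, 3, 1, 0],
  [2, 0, 2, 0],
  [5, 5, 0, 2, 1, 2],
  [5, 1, 3, 5, 4, 5]]

/-- part 9 of the class -/
def vOrb9 : List (List ℕ) := [
  [1, 1, 0, 4, 3],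
  [5, 1, 0, 2, 2],
  [1, 3, 2, 3, 1, 3],
  [0, 1, 2, 0, 5],
  [4, 5, 4, 0],
  [1, 2, 1, 2, 2, 0],
  [5, 5, 3, 1, 0],
  [4, 5, 0, 4, 2, 2, 0],
  [2, 3, 1, 3, 2, 4],
  [1, 0, 0, 5, 1, 0],
  [2, 0, 0, 1, 0, 5, 3],
  [1, 2, 4, 0, 0],
  [4, 0, 1, 3, 1],
  [4, 0, 1, 0, 1, 1],
  [4, 3, 1, 0, 4, 0],
  [1, 1, 2, 0, 1, 0, 0],
  [0, 0, 2, 2, 0, 4],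
  [0, 0, 2, 3, 2, 3],
  [1, 5, 3, 1, 1],
  [2, 2, 2, 0, 1, 2, 0],
  [4, 0, 2, 4, 0, 0],
  [1, 5, 0, 1, 0, 0],
  [2, 4, 2, 1, 2, 2],
  [4, 3, 5, 3, 4, 0],
  [2, 1, 3, 1],
  [3, 5, 3, 1, 5, 0],
  [2, 1, 0, 0],
  [1, 2, 3, 2, 3, 2],
  [0, 5, 0, 2, 1, 1, 0],
  [3, 4, 2, 1, 2, 3],
  [0, 2, 3, 2, 3],
  [4, 5, 3, 2, 1],
  [5, 3, 2, 4, 3],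
  [2, 3, 5, 4, 2],
  [3, 5, 1, 1, 0, 2, 1],
  [1, 2, 2, 1, 2, 2],
  [1, 0, 2, 4, 5, 4],
  [0, 2, 1, 5, 3],
  [0, 2, 0, 0, 2, 1, 1],
  [3, 4, 5, 5, 4],
  [3, 2, 4, 5, 0],
  [1, 5, 3, 2, 4, 3],
  [2, 3, 4, 0, 4, 0],
  [2, 2, 3, 1, 0, 0],
  [1, 2, 2, 0, 1, 1],
  [3, 5, 0, 1, 0, 5, 1],
  [5, 3, 5, 5, 1, 1],
  [3, 2, 1, 2, 0, 1, 0],
  [5, 4, 0, 2, 2],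
  [0, 2, 2, 4, 5, 0],
  [0, 4, 2, 0, 2, 0, 0],
  [5, 1, 0],
  [3, 2, 2, 0, 2, 1],
  [1, 0, 1, 5, 5, 0],
  [2, 0, 4, 2, 1, 0, 2],
  [2, 0, 4, 2, 2, 0],
  [3, 2, 1, 5, 1, 1, 0],
  [1, 3, 4, 2, 1, 2, 3],
  [2, 0, 2, 1, 5, 4, 0],
  [1, 1, 2, 1, 0, 0],
  [0, 1, 0, 0, 5, 1],
  [5, 3, 1, 5, 5, 5],
  [3, 5, 0, 4, 2, 2],
  [1, 2, 4, 0],
  [0, 1, 3, 5, 0],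
  [1, 3, 5, 5, 0, 0],
  [2, 0, 1, 5, 1],
  [2, 1, 3, 5, 4, 2],
  [1, 0, 2, 4, 2],
  [4, 2, 4, 5, 5, 3],
  [0, 2, 0, 0, 4, 5, 0],
  [3, 2, 1, 5, 0, 4],
  [2, 2, 4, 2, 2],
  [5, 0, 1, 1, 0],
  [1, 1, 2, 2, 4, 2, 2],
  [0, 1, 5, 3, 1, 3],
  [5, 5, 3, 2, 2, 3],
  [0, 2, 2, 0, 4, 0],
  [3, 1, 5, 0, 1, 5],
  [0, 1, 5, 1, 5, 0, 0],
  [5, 3, 1, 0, 2, 4],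
  [0, 1, 0, 2, 1],
  [1, 0, 2, 1, 5, 3],
  [0, 2, 3, 2, 1],
  [5, 5, 5, 1, 3, 5, 0],
  [2, 0, 1, 0, 0, 5, 1],
  [1, 3, 1, 5, 1, 0, 2],
  [0, 4, 5, 1, 0, 2],
  [5, 0, 2, 1, 5, 0],
  [4, 0, 4, 5, 1, 5, 1],
  [5, 1, 0, 1, 0, 1],
  [2, 3, 2, 3, 2, 0, 1],
  [3, 1, 3, 5, 3, 2],
  [3, 1, 5, 1, 0, 2],
  [5, 3, 1, 2, 4],
  [4, 0, 2, 3, 2, 1],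
  [5, 3, 2, 1],
  [3, 1, 2, 2, 3],
  [5, 1, 2, 2, 1, 0],
  [0, 1, 1, 5, 0, 2],
  [5, 3, 2, 0, 4, 3],
  [4, 2, 2, 1, 2, 2],
  [2, 1, 2, 0, 4, 0],
  [0, 0, 1, 2, 0, 0],
  [4, 3, 4, 0, 2],
  [2, 2, 0, 4, 5, 4],
  [0, 1, 5, 0, 5, 0],
  [2, 4, 0, 4, 0, 0],
  [3, 2, 2, 2, 0, 2, 0],
  [3, 2, 1, 0, 2, 2],
  [4, 5, 1, 0, 1, 0, 1],
  [2, 0, 5, 3, 5, 5],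
  [2, 2, 4, 0],
  [4, 2, 2, 4, 0],
  [1, 5, 4, 5],
  [2, 0, 5, 5, 3],
  [3, 2, 3, 1, 2, 3],
  [1, 2, 0, 4, 3],
  [1, 5, 4, 3, 4],
  [5, 5, 5, 0],
  [4, 5, 4, 3, 4],
  [2, 0, 4, 5, 1, 2],
  [0, 4, 5, 1, 5, 1],
  [2, 1, 2, 1, 0, 0],
  [1, 5, 5, 5, 0],
  [0, 2, 4, 0, 4, 5],
  [3, 5, 5, 1, 1, 0],
  [4, 5, 5, 5, 0, 0, 1],
  [3, 1, 5, 1, 5],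
  [1, 1, 0, 1, 5, 5, 0],
  [0, 5, 1, 0, 5],
  [1, 0, 1, 3, 2],
  [3, 2, 0, 1, 1, 2],
  [0, 2, 1, 5, 1],
  [1, 0, 2, 1, 5, 1],
  [3, 2, 2, 0, 0, 1, 0],
  [5, 3, 5, 1, 5],
  [1, 0, 2, 2, 0, 4, 0],
  [0, 0, 2, 2, 1, 1],
  [4, 2, 1, 2, 4, 5, 0],
  [1, 1, 5, 3, 2, 1],
  [4, 2, 3, 4, 5, 0],
  [5, 4, 5, 1, 0, 1],
  [2, 2, 4, 0, 4, 5, 3],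
  [0, 2, 3, 4, 2],
  [4, 3, 2, 4, 5, 0],
  [3, 5, 5, 0, 0],
  [2, 0, 1, 3, 2, 2],
  [0, 2, 2, 2, 3, 2],
  [3, 5, 4, 0, 5, 0],
  [2, 2, 1, 5, 1, 1],
  [3, 4, 5, 0, 5],
  [3, 4, 3, 2, 4, 5],
  [1, 5, 3, 1, 2, 4],
  [0, 1, 5, 1, 1, 0, 0],
  [0, 2, 4, 5, 4],
  [4, 0, 1, 5, 5, 0],
  [3, 4, 2, 0, 4, 5, 0],
  [1, 0, 1, 3, 5, 0],
  [1, 5, 3, 5, 1, 5],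
  [3, 5, 1, 0, 0],
  [4, 3, 5, 1, 0, 0],
  [2, 2, 1, 3, 5, 1],
  [2, 1, 0, 1, 1, 5],
  [4, 3, 2, 0, 1, 1, 2],
  [3, 4, 2, 0, 1, 2],
  [2, 2, 4, 0, 5, 5, 0],
  [1, 2, 0, 5, 5, 1],
  [1, 1, 2, 2, 1, 2, 2],
  [4, 5, 1, 0],
  [3, 2, 1, 0, 5, 0, 0],
  [0, 0, 2, 3, 4, 5],
  [0, 0, 5, 5, 4, 3],
  [3, 5, 0, 0, 5, 1, 0],
  [4, 0, 2, 4, 5, 4],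
  [0, 5, 0, 2, 2, 2],
  [2, 3, 4, 0, 1, 5],
  [1, 2, 1, 0, 0],
  [3, 5, 0, 1, 2, 2],
  [4, 0, 1, 0, 2, 1],
  [0, 4, 2, 2, 1, 1, 0],
  [5, 4, 0, 4],
  [2, 2, 1, 0, 5, 1],
  [5, 0, 2, 0, 4, 5, 0],
  [3, 2, 1, 5, 5],
  [0, 2, 4, 2],
  [2, 4, 2, 0, 4, 0],
  [0, 1, 5, 5, 0],
  [1, 1, 0, 2, 4, 2],
  [0, 1, 0, 2, 0, 0],
  [0, 5, 0, 5, 4, 2],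
  [0, 1, 3, 2],
  [0, 0, 4, 2, 0, 0],
  [5, 5, 1, 2, 0, 2, 1],
  [0, 0, 2, 1, 0],
  [5, 4, 0, 5, 1, 3],
  [4, 0, 1, 2, 2, 1, 0],
  [0, 5, 0, 1, 1],
  [2, 2, 0, 1, 1],
  [1, 2, 2, 3, 1, 0, 0],
  [2, 0, 1, 3, 1, 1, 0],
  [2, 4, 2, 1, 0, 4, 0],
  [4, 3, 4, 5, 0, 5],
  [5, 0, 4, 0, 0],
  [2, 2, 0, 4, 2, 2],
  [3, 4, 5, 4, 3, 1, 0],
  [2, 4, 0, 1, 5, 1],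
  [1, 2, 3, 4, 5, 0],
  [1, 2, 2, 4, 2, 2],
  [5, 3, 5, 4, 5],
  [2, 1, 5, 5, 3, 5, 1],
  [2, 0, 4, 3],
  [1, 5, 4, 0, 4],
  [5, 4, 3, 2, 2],
  [2, 4, 0, 1, 0, 1, 1],
  [4, 5, 4, 0, 4],
  [0, 1, 2, 2, 1, 0],
  [0, 5, 0, 0, 4, 5],
  [5, 4, 5],
  [3, 1, 2, 1, 5, 0, 2],
  [1, 2, 1, 2, 1, 0, 0],
  [3, 5, 4, 5, 0],
  [3, 5, 5, 3, 1],
  [5, 0, 1, 2, 1, 3],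
  [2, 1, 5, 5, 0, 2, 0],
  [2, 3, 4, 5, 0],
  [4, 0, 0, 2, 2, 1, 1],
  [2, 0, 1, 2, 2, 1, 0],
  [3, 5, 0, 0, 1, 1],
  [1, 2, 2, 0, 4, 2, 2],
  [1, 2, 2, 1, 5, 1, 1],
  [5, 4, 2, 2, 1, 0],
  [5, 5, 5, 0, 0, 1],
  [5, 0, 0, 1, 5, 0],
  [5, 0, 2, 1, 3, 5, 0],
  [1, 3, 4, 5, 0, 5],
  [2, 3, 2, 3, 2],
  [2, 4, 5, 5, 3],
  [1, 0, 1, 0, 2, 1],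
  [4, 2, 1, 0, 0],
  [1, 5, 1, 0],
  [2, 2, 1, 2, 2],
  [2, 1, 2, 4, 5, 0],
  [1, 3, 5, 1, 0, 0],
  [0, 2, 0, 1, 2, 3],
  [4, 3, 2, 1, 0, 2, 2],
  [5, 4, 3, 4],
  [3, 1, 5, 5, 5, 4],
  [1, 2, 0, 5, 5, 3],
  [5, 3, 4, 2, 4],
  [1, 1, 5, 1, 0],
  [3, 4, 0, 5, 1, 1, 0]]

/-- part 10 of the class -/
def vOrb10 : List (List ℕ) := [
  [4, 0, 5, 1, 0, 5],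
  [3, 4, 0, 2],
  [2, 2, 4, 5, 0, 5],
  [4, 5, 3, 4, 2, 4],
  [0, 0, 5, 4, 5, 5, 1],
  [2, 0, 2, 0, 0, 2],
  [0, 0, 5, 0, 2, 2],
  [5, 1, 1, 5, 1, 0],
  [2, 0, 0, 2, 0, 4],
  [2, 0, 5, 5, 1],
  [4, 3, 5, 4, 5, 0],
  [4, 2, 2, 4, 2, 2],
  [1, 5, 3, 2, 1],
  [5, 4, 0, 5, 0, 1],
  [2, 1, 0, 2, 2, 1, 0],
  [5, 0, 5, 3, 2, 0, 0],
  [2, 4, 0],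
  [5, 0, 4, 5, 3, 2],
  [1, 2, 4, 0, 1, 5, 1],
  [4, 0, 2, 4, 2],
  [0, 0, 5, 1, 5, 0, 0],
  [3, 2, 3, 4, 2, 1],
  [0, 2, 4, 5, 0, 5],
  [2, 2, 2, 1, 2, 1],
  [0, 2, 4, 5, 3, 2],
  [0, 2, 0, 1, 5, 0],
  [2, 4, 2, 0, 1, 1],
  [1, 0, 2, 1, 0],
  [5, 4, 5, 0, 2, 2],
  [1, 3, 5, 5, 1, 0, 4],
  [3, 5, 0, 5, 5, 3],
  [4, 3, 5, 5, 1, 0, 4],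
  [5, 5, 3, 4, 0, 2, 0],
  [1, 2, 3],
  [4, 5, 4, 5, 3, 2],
  [4, 0, 2, 1, 0],
  [3, 5, 5, 0, 0, 5, 0],
  [0, 5, 3, 2, 0, 0, 2],
  [5, 3, 4, 0],
  [1, 5, 3, 5, 5, 4, 0],
  [2, 3, 1, 3, 5, 0, 0],
  [0, 0, 1, 2, 2, 2],
  [0, 0, 1, 1, 2, 1],
  [0, 5, 1, 5, 4, 0],
  [1, 2, 0, 4, 5],
  [1, 2, 0, 5, 5],
  [2, 0, 2, 2, 0],
  [4, 2, 0, 4, 5],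
  [2, 2, 1, 2, 2, 0],
  [2, 4, 0, 2, 1],
  [5, 4, 3, 2, 3, 1],
  [2, 1, 5, 1],
  [0, 2, 2, 2, 4, 0],
  [0, 1, 2, 3, 2, 2, 1],
  [0, 2, 2, 1, 3, 1],
  [0, 0, 5, 1, 1],
  [4, 3, 1, 2, 1, 1],
  [5, 0, 4, 5, 5, 1, 2],
  [2, 1, 5, 4],
  [5, 1, 5, 0, 0],
  [4, 5, 5, 0, 5, 4, 0],
  [5, 5, 5, 0, 1, 5, 1],
  [3, 2, 3, 2, 2],
  [4, 2, 2, 1, 0],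
  [1, 3, 1, 5, 5, 5],
  [3, 2, 0, 2, 4, 3],
  [3, 1, 5, 5],
  [3, 5, 5, 1, 5, 3],
  [3, 4, 5, 0, 1, 5, 0],
  [4, 2, 3, 2, 1, 5],
  [2, 2, 2, 3, 5, 0],
  [0, 0, 1, 3, 1, 5, 0],
  [2, 2, 0, 0],
  [0, 0, 1, 5, 0, 0],
  [3, 2, 4, 5, 4, 2],
  [0, 0, 1, 0, 5, 0],
  [2, 4, 2, 4, 3, 2],
  [0, 4, 2, 4, 5, 0, 1],
  [1, 5, 0, 0, 1, 3, 2],
  [4, 2, 2, 1, 2, 1, 2],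
  [0, 5, 5, 3, 5, 1, 1],
  [4, 0, 5, 1, 0, 2],
  [2, 2, 0, 2, 1, 2],
  [1, 3, 1, 3, 5, 0, 0],
  [2, 0, 1, 2, 2, 1, 1],
  [2, 2, 4, 0, 1, 5, 0],
  [4, 2, 4, 5, 1, 0],
  [0, 2, 1, 0, 1, 2],
  [2, 2, 0, 0, 2, 1],
  [0, 2, 2, 4, 0, 0],
  [1, 5, 3, 2, 1, 1],
  [1, 0, 5, 0, 4, 5, 0],
  [3, 1, 3, 1, 1, 5],
  [0, 1, 0, 5, 4, 5, 0],
  [4, 0, 2, 4, 0, 2, 0],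
  [0, 2, 0, 4, 5, 0],
  [1, 5, 1, 5, 3, 5, 3],
  [3, 4, 3, 5, 1, 5],
  [0, 1, 3, 4, 5, 0],
  [3, 2, 2, 1, 5],
  [4, 3, 4, 3, 2, 0],
  [4, 3, 5, 5, 0, 4],
  [0, 5, 3, 4, 0, 2],
  [1, 3, 1, 5, 1, 0],
  [1, 5, 0, 1, 5],
  [1, 2, 3, 2, 1, 0],
  [5, 1, 2, 2, 3, 2],
  [0, 5, 0, 5, 0],
  [4, 0, 5, 0, 5, 3],
  [2, 1, 2, 1, 0],
  [0, 1, 5, 1, 1],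
  [3, 2, 1, 5, 0, 0],
  [0, 2, 2, 2, 3, 2, 0],
  [1, 3, 4, 2, 0, 0],
  [4, 3, 4, 0, 2, 4, 0],
  [2, 1, 5, 4, 5, 5],
  [1, 0, 5, 5, 1],
  [5, 4, 0, 2, 4, 2],
  [0, 5, 3, 2, 0, 1],
  [0, 0, 1, 3, 2, 1],
  [5, 4, 2, 4, 0, 2, 2],
  [0, 5, 5, 4, 5, 3],
  [1, 2, 1, 3, 5, 0],
  [1, 2, 1, 2, 0, 1, 5],
  [2, 1, 0, 2, 3, 4, 0],
  [1, 5, 5, 0, 2, 1],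
  [3, 2, 3, 4, 5, 3],
  [4, 3, 2, 1, 1, 5, 1],
  [4, 3, 5, 4],
  [2, 3, 5, 5, 3, 1],
  [1, 5, 1, 0, 5, 1],
  [2, 0, 4, 5, 3],
  [4, 5, 5, 0, 1, 3, 1],
  [5, 1, 3, 5, 3, 5, 3],
  [4, 5, 3],
  [2, 1, 3, 5, 5, 4, 0],
  [4, 3, 5, 0, 0, 4],
  [1, 5, 0, 4, 2, 2],
  [0, 1, 0],
  [4, 5, 5, 3, 2, 3],
  [4, 5, 5, 0, 2, 0],
  [3, 2, 3, 2, 2, 1, 0],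
  [3, 5, 3, 2, 2, 3, 1],
  [4, 2, 4, 5, 0, 0],
  [3, 1, 3, 4, 5, 0],
  [1, 0, 4, 2, 2, 2],
  [1, 5, 0, 0, 1],
  [0, 4, 5, 3, 1],
  [1, 2, 2, 2],
  [1, 5, 0, 1, 2, 3],
  [1, 2, 1, 0, 5, 1, 0],
  [2, 1, 1, 5, 0, 2, 1],
  [2, 2, 0, 1, 2, 3],
  [1, 5, 3, 4, 0, 1],
  [1, 5, 0, 2, 1, 0],
  [5, 0, 1, 2, 2, 2],
  [1, 5, 5, 1, 2, 1],
  [0, 5, 3, 4, 2],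
  [5, 1, 0, 5, 0, 2],
  [2, 0, 4, 5, 0, 2],
  [1, 0, 5, 1, 3, 5, 3],
  [0, 0, 1, 5, 0, 2],
  [5, 5, 3, 2, 0, 1, 1],
  [5, 5, 0, 1, 2, 1],
  [4, 2, 4, 5, 3],
  [3, 5, 0, 5, 0, 2],
  [2, 4, 3, 2, 3, 1],
  [1, 3, 5, 3, 2, 0, 0],
  [3, 4, 5, 1, 0, 1],
  [0, 4, 5, 1, 0, 1, 0],
  [4, 5, 3, 4, 5, 1],
  [1, 5, 5, 0, 2, 1, 1],
  [5, 0, 2, 4, 3],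
  [5, 0, 4, 3],
  [2, 3, 2, 2, 1, 2, 1],
  [2, 0, 2, 4, 2, 2],
  [2, 1, 5, 1, 5, 0],
  [0, 0, 5, 5, 3],
  [1, 2, 3, 2, 1, 0, 0],
  [4, 5, 3, 2, 4, 0],
  [5, 5, 1, 3, 1],
  [4, 5, 3, 1, 2, 0],
  [0, 1, 5, 5, 1, 1],
  [1, 5, 3, 4, 0, 0],
  [0, 5, 1, 0, 5, 5],
  [5, 4, 0, 4, 5],
  [5, 0, 1, 3, 1, 5, 1],
  [4, 0, 1, 3, 5, 1, 3],
  [5, 4, 0, 1],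
  [3, 2, 0, 5, 1, 0],
  [3, 4, 0, 4, 5, 5],
  [5, 4, 0, 5, 5],
  [4, 5, 3, 1, 5, 1],
  [5, 1, 3, 2, 2],
  [5, 5, 4, 0, 0, 4],
  [5, 1, 1, 5, 1, 3],
  [5, 3, 5, 5, 1, 5],
  [0, 5, 3],
  [2, 4, 3, 2, 1, 5],
  [2, 3, 5, 5, 5, 4],
  [4, 5, 0, 2, 1, 1, 0],
  [5, 3, 1, 1, 3, 5, 4],
  [1, 2, 0, 4, 3, 2],
  [2, 0, 0, 4, 5, 1, 1],
  [3, 1, 3, 1, 5, 1],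
  [3, 4, 0, 2, 2],
  [4, 5, 4, 5, 0, 0, 1],
  [2, 0, 5, 1, 1],
  [4, 5, 4, 2],
  [1, 1, 3, 2, 3, 1],
  [2, 1, 0, 5, 0, 1],
  [3, 5, 1, 3, 1, 5, 0],
  [0, 2, 3, 1],
  [2, 0, 4, 5, 0, 4],
  [3, 2, 1, 1, 3],
  [1, 0, 1, 5, 5, 1],
  [1, 1, 0, 1],
  [5, 1, 0, 5],
  [0, 2, 2, 2, 1],
  [2, 4],
  [2, 1, 2, 1, 0, 2, 0],
  [3, 1, 2, 4, 5, 1],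
  [5, 0, 5, 4, 2],
  [3, 2, 1, 3, 5, 0],
  [5, 4, 5, 3, 1, 3],
  [3, 2, 2, 1, 0, 2],
  [0, 5, 1, 3],
  [1, 2, 0, 2, 2],
  [3, 5, 0, 0, 5, 3],
  [0, 5, 5, 4],
  [1, 1, 5, 5, 3, 1],
  [4, 5, 5, 0, 5, 1],
  [1, 3, 1, 2, 0, 0, 2],
  [2, 0, 4, 5, 0, 1],
  [1, 1, 5, 0, 5],
  [1, 3, 2, 2, 0, 1],
  [0, 0, 5, 4, 5],
  [3, 5, 3, 5, 5, 4],
  [4, 2, 0, 1, 5, 4, 0],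
  [3, 1, 5, 0, 2, 2, 1],
  [0, 1, 1, 5, 0],
  [3, 2, 1, 3, 1],
  [3, 2, 2, 3, 5, 1],
  [3, 4, 5, 1, 1],
  [5, 1, 0, 4],
  [3, 1, 2, 2, 4, 3],
  [0, 0, 4, 0, 5, 1, 0],
  [0, 0, 2, 1, 1, 2],
  [4, 5, 3, 1, 3, 2],
  [0, 5, 5],
  [5, 0, 5, 0, 4, 5, 3],
  [0, 4, 0, 2, 3, 2, 1, 1]]

/-- part 11 of the class -/
def vOrb11 : List (List ℕ) := [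
  [5, 4, 0, 4, 0, 5],
  [5, 3, 1, 0, 0],
  [0, 2, 3, 4, 5],
  [2, 3, 5, 3, 5, 0],
  [5, 3, 4, 5, 4, 3],
  [5, 0, 1, 0, 1, 0],
  [1, 0, 1, 1, 5, 1, 3],
  [2, 0, 1, 5],
  [4, 0, 0, 2, 2],
  [0, 0, 2, 0, 0, 2],
  [3, 4, 5, 3, 5, 0],
  [4, 5, 4, 5, 4],
  [5, 0, 5, 1, 0, 1],
  [0, 0, 2, 1, 2, 1],
  [3, 2, 2, 4, 2, 1],
  [4, 5, 0, 4, 5, 0],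
  [5, 0, 4, 5, 1],
  [2, 1, 0, 2, 0],
  [5, 5, 5, 3],
  [5, 3, 5, 5, 0, 2],
  [3, 5, 1, 5, 0, 5],
  [0, 4, 5, 4, 0, 2],
  [4, 0, 1, 1, 3, 5, 0],
  [5, 5, 4, 5, 3, 2],
  [1, 2, 1, 5],
  [0, 4, 2, 0, 1, 1],
  [4, 2, 4, 0, 4, 5, 0],
  [2, 3, 5, 0, 5],
  [0, 5, 1, 3, 2],
  [1, 3, 2, 2, 1],
  [1, 5, 5, 5, 1],
  [3, 2, 1, 1, 0, 0],
  [2, 2, 0, 2, 2, 3],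
  [0, 1, 2, 1, 3, 2, 0],
  [1, 5, 5, 5, 4, 0, 0],
  [3, 4, 2, 0, 2],
  [3, 2, 0, 2, 4, 2],
  [4, 3, 1, 5, 0],
  [5, 1, 2, 0, 2, 1],
  [1, 5, 5, 3, 2, 0],
  [0, 2, 1, 5, 4, 0],
  [0, 4, 2, 2, 0, 0],
  [2, 3, 1, 2, 2, 2],
  [1, 5, 5, 5],
  [0, 1, 1, 5, 3, 1, 0],
  [0, 0, 4, 0, 2, 2],
  [0, 2, 3, 1, 1, 3],
  [3, 1, 2, 1, 1, 0],
  [1, 1, 2, 4],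
  [1, 5, 4, 2],
  [4, 0, 1, 5, 5, 1],
  [5, 0, 5, 0, 4, 5, 0],
  [2, 0, 1, 1],
  [1, 1, 0, 2, 3, 1],
  [2, 2, 2, 0, 4, 2],
  [0, 5, 5, 4, 5, 0],
  [1, 2, 0, 1, 5, 4, 0],
  [3, 2, 2, 1, 0, 1],
  [0, 0, 2, 3, 2, 1],
  [5, 0, 5],
  [5, 3, 4, 2, 1, 0, 0],
  [3, 2, 3, 1],
  [4, 3, 2, 2, 0, 1],
  [4, 3, 1, 2, 0, 0, 2],
  [1, 0, 5, 0, 2, 2],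
  [0, 1],
  [5, 5, 3, 1],
  [1, 3, 2, 2, 2, 3],
  [2, 0, 4, 2, 0, 2],
  [1, 5, 5, 0, 5, 1],
  [5, 0, 5, 1, 1],
  [1, 3, 2, 0, 2, 3, 1],
  [4, 0, 5, 5, 0, 2, 2],
  [5, 4, 0, 5, 4, 2],
  [4, 2, 0, 2, 2],
  [2, 1, 3, 4],
  [1, 1, 5, 1, 0, 5],
  [1, 3, 1, 0, 5],
  [2, 1, 3, 1, 5],
  [4, 2, 3, 5, 4],
  [3, 4, 2, 0, 0, 1],
  [2, 3, 5, 0, 2, 2],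
  [0, 2, 1, 0, 5, 4, 0],
  [5, 0, 2, 3, 4, 3],
  [1, 5, 5, 1, 3, 2, 0],
  [2, 4, 2, 4, 2, 2],
  [1, 1, 5, 5, 3],
  [2, 1, 5, 3, 2, 4, 0],
  [1, 1, 5, 1, 5, 1],
  [5, 3, 2, 2, 0, 0],
  [0, 0, 2, 2, 0],
  [0, 2, 1, 0, 1, 5, 0],
  [3, 1, 2, 4, 5, 1, 0],
  [1, 0, 5, 0],
  [1, 5, 0, 2, 0, 2, 0],
  [5, 0, 4, 3, 5, 3],
  [1, 5, 3, 5, 5, 0],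
  [5, 0, 1, 3, 1, 5, 0],
  [0, 1, 5, 5, 5],
  [2, 4, 5, 3, 2, 0, 1],
  [0, 2, 3, 5, 4],
  [1, 1, 5, 5, 4],
  [5, 0, 1, 0, 5, 0],
  [3, 1, 0, 2, 2, 2],
  [2, 2, 2, 0, 2],
  [5, 4, 3, 2, 0, 0, 1],
  [5, 0, 1, 5, 0, 0],
  [1, 5, 1, 1, 0, 0],
  [2, 0, 4, 2, 2],
  [2, 0, 4, 0, 5, 0],
  [4, 3, 2, 0, 1, 1],
  [4, 5, 1, 0, 0],
  [1, 1, 5],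
  [3, 2, 1, 5, 4, 5, 1],
  [5, 3, 2, 4, 2],
  [0, 2, 4, 0, 5],
  [4, 5, 1, 5, 5, 5],
  [0, 4, 5, 5, 1, 0, 0],
  [5, 3, 5, 5, 1, 5, 1],
  [4, 0, 5, 0, 1, 1, 0],
  [0, 5, 1, 3, 1, 2, 2],
  [0, 4, 3, 2, 4, 3],
  [4, 0, 1, 3, 5, 0, 0],
  [0, 1, 1, 0, 2, 0],
  [5, 5, 0, 2, 1, 0, 0],
  [2, 1, 2, 1, 2, 3],
  [4, 5, 4, 0, 0, 5, 0],
  [2, 4, 5, 1, 1, 5, 0],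
  [3, 4, 0, 4, 2, 0, 0],
  [0, 2, 2, 1, 2],
  [5, 4, 5, 4, 0, 0],
  [2, 1, 5, 5, 3],
  [5, 0, 2, 4, 5, 1, 0],
  [4, 0, 2, 2, 2],
  [3, 2, 1, 5, 3, 2],
  [0, 1, 5, 0, 5, 5],
  [0, 5, 4, 3, 5, 3],
  [5, 4, 0, 4, 5, 4, 0],
  [2, 1, 1, 3, 5, 4, 0],
  [3, 4, 3, 5, 1, 5, 0],
  [0, 1, 0, 1, 5],
  [2, 2, 4, 2],
  [5, 4, 5, 0, 1, 5],
  [5, 4, 5, 1, 5, 1, 0],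
  [2, 0, 1, 1, 5],
  [3, 4, 5, 5, 3],
  [3, 2, 0, 4],
  [4, 2, 4, 2, 2],
  [1, 0, 5, 1, 5],
  [1, 1, 3, 5, 4, 0],
  [3, 4, 0, 2, 4, 3],
  [3, 2, 3, 4, 0, 1, 0],
  [2, 2, 1, 0, 0, 2],
  [2, 0, 2, 2, 3, 4, 3],
  [2, 4, 3, 2, 0],
  [4, 0, 5, 4, 0],
  [2, 4, 2, 1, 5, 0],
  [5, 4, 3, 2, 2, 3],
  [3, 2, 4, 5, 0, 2, 1],
  [1, 0, 2, 0, 1],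
  [4, 3, 2, 4, 5, 4],
  [0, 5, 3, 5, 4, 3],
  [2, 0, 1, 5, 5, 1, 0],
  [5, 5, 4, 0, 2, 1],
  [5, 0, 4, 2],
  [0, 0, 1, 2, 2],
  [5, 4, 5, 1],
  [5, 0, 1, 0, 0, 2],
  [4, 0, 0, 4, 2, 2],
  [5, 1, 0, 2, 2, 2, 3],
  [0, 2, 1, 1, 3],
  [3, 1, 2, 2, 4],
  [5, 0, 1, 1, 2, 1],
  [1, 5, 3, 1, 1, 2],
  [4, 3, 2, 0, 4, 5, 0],
  [2, 2, 1, 2, 1, 0],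
  [3, 2, 0, 5, 5, 1],
  [5, 4, 5, 4, 5, 0],
  [5, 4, 3, 2, 3, 2],
  [5, 1, 2, 0],
  [0, 0, 5, 1, 5, 1, 0],
  [5, 1, 0, 2, 4],
  [1, 5, 1, 0, 1, 1],
  [4, 0, 1, 2, 3],
  [5, 1, 1, 2],
  [0, 5, 3, 1, 2, 0, 0],
  [2, 0, 2, 0, 4, 0],
  [1, 3, 5, 3],
  [2, 0, 4, 2, 0, 1, 1],
  [5, 5, 0, 2, 2],
  [1, 2, 2, 4, 5],
  [4, 0, 1, 1, 2],
  [4, 0, 1, 0, 5, 0],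
  [1, 5, 1, 3, 1, 0, 0],
  [4, 3, 1, 0, 1],
  [5, 1, 3, 2, 0, 4],
  [5, 1, 3, 1, 0, 1],
  [0, 4],
  [3, 5, 0, 1, 3],
  [5, 1, 3, 2, 0],
  [3, 4, 3, 4],
  [3, 5, 3, 5, 0],
  [1, 5, 0, 1, 2, 4],
  [5, 3, 5, 0, 4, 3],
  [2, 4, 5, 5, 0, 1],
  [5, 1, 5, 0, 1, 5],
  [4, 5, 5, 5, 4],
  [1, 2, 3, 1, 5, 3],
  [2, 2, 0, 4, 5, 3],
  [3, 1, 3, 2, 0, 0],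
  [3, 1, 1, 5, 4, 3],
  [2, 0, 0, 1, 3, 5, 1],
  [2, 4, 0, 0, 5, 0],
  [2, 2, 1, 5, 1, 0],
  [2, 2, 0, 1, 5],
  [0, 4, 2, 4, 3, 2],
  [1, 3, 1, 5, 5, 0, 0],
  [1, 1, 5, 3, 1, 5, 0],
  [3, 1, 5, 5, 1, 1],
  [0, 4, 5, 0, 5, 1, 0],
  [0, 2, 1, 1, 0, 5, 0],
  [3, 4, 3, 2, 4, 5, 1],
  [1, 5, 0, 4, 5, 4],
  [1, 3, 2, 4, 5, 0, 1],
  [1, 5, 0, 0, 4],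
  [0, 1, 0, 2, 0],
  [1, 3, 4, 3, 4, 5],
  [3, 1, 0, 5, 3],
  [5, 1, 3, 1, 5, 5],
  [5, 4, 3, 1, 0, 2],
  [2, 2, 1, 3, 5, 0],
  [0, 4, 0, 5, 0, 2],
  [4, 3, 1, 5, 0, 2],
  [3, 1, 3, 5, 4, 0],
  [2, 0, 2, 2, 1, 5],
  [5, 0, 2, 0, 4, 2],
  [2, 2, 4, 0, 0],
  [0, 1, 0, 5, 1],
  [1, 5, 0, 5, 1, 0, 5],
  [2, 3, 2, 0, 4, 3],
  [1, 3, 1, 1, 3, 2, 1],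
  [0, 0, 1, 5, 5, 3, 2],
  [1, 5, 5, 1, 0, 2, 2],
  [2, 0, 4, 5, 0],
  [4, 0, 0, 1, 5, 4],
  [3, 1, 5, 3, 2, 1, 1],
  [3, 1, 5, 5, 3, 2],
  [0, 5, 4, 5, 4],
  [2, 1, 1, 0, 5],
  [2, 4, 0, 4, 5, 4],
  [5, 5, 3, 4, 5, 4],
  [5, 1, 5, 0, 2, 2]]

/-- part 12 of the class -/
def vOrb12 : List (List ℕ) := [
  [5, 0, 4, 3, 2, 1],
  [2, 2, 4, 5, 0, 1, 0],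
  [5, 1, 2, 0, 2, 2, 2],
  [1, 0, 5, 5, 4, 3],
  [2, 1, 5, 0, 2, 2],
  [5, 5, 0, 2, 4, 5, 4],
  [3, 2, 0, 4, 5, 4],
  [5, 4, 3, 2, 1],
  [1, 3, 1, 0, 2, 1],
  [4, 3, 1, 5, 5, 3],
  [1, 1, 5, 0, 1, 1, 2],
  [5, 1, 5, 3, 2, 1, 1],
  [5, 0, 2, 0, 1, 1],
  [5, 0, 2, 0, 0],
  [5, 3, 2, 1, 3, 1],
  [1, 5, 5, 0, 2],
  [4, 5, 0, 5, 1, 5],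
  [5, 1, 5, 1, 5, 0],
  [5, 5, 4, 2, 1],
  [1, 5, 0, 5, 1, 0],
  [3, 5, 1, 5, 5, 5],
  [2, 1, 5, 1, 0, 0],
  [4, 0, 5, 1, 2],
  [3, 5, 3, 1, 2, 0],
  [1, 3, 5, 0, 2, 4, 0],
  [4],
  [5, 3, 1, 2, 4, 3],
  [0, 2, 3, 2, 2, 1],
  [2, 4, 0, 5, 1, 3],
  [1, 5, 3, 5, 1, 1],
  [5, 1, 0, 5, 4, 2],
  [5, 4, 0, 1, 0],
  [5, 5, 3, 5, 5, 1],
  [2, 1, 3, 5, 4, 0],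
  [5, 4, 3, 2, 0, 0],
  [5, 3, 4, 0, 0, 2],
  [1, 2, 0, 0, 2],
  [1, 0, 4, 0, 5],
  [2, 4, 5, 5, 0, 4],
  [2, 2, 0, 2, 2, 0],
  [4, 3, 4, 5, 3],
  [4, 2, 2, 1, 0, 5, 0],
  [1, 0, 5, 0, 4, 0, 0],
  [5, 4, 5, 0, 5, 0, 0],
  [5, 4, 0, 1, 0, 5],
  [5, 5, 3, 1, 2, 1],
  [5, 3, 5, 3, 5, 0],
  [1, 1, 5, 1, 0, 1, 3],
  [4, 5, 1, 0, 2, 1, 0],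
  [2, 2, 0, 1],
  [3, 4, 0, 1, 0, 5],
  [3, 5, 1, 5, 1, 0],
  [5, 1, 0, 5, 1, 5],
  [1, 5, 0],
  [1, 5, 3, 4, 5, 0],
  [0, 5, 1, 2, 1, 1],
  [1, 3, 1, 2, 2, 2],
  [0, 1, 5, 3, 4, 3],
  [3, 2, 4, 0, 5, 3],
  [1, 1, 3, 2, 2, 1, 0],
  [5, 4, 0, 0, 2],
  [0, 1, 2, 1, 5],
  [2, 1, 5, 0, 2],
  [0, 1, 5, 0, 2, 1],
  [4, 3, 2, 0, 0, 1],
  [0, 2, 1, 1, 0],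
  [3, 5, 3, 1, 2, 3],
  [5, 1, 5, 4, 3],
  [1, 0, 1, 3],
  [5, 3, 5, 1, 3],
  [2, 4, 3, 2, 1, 1],
  [1, 2, 3, 4, 5, 1],
  [4, 5, 1, 3, 1, 0],
  [4, 2, 0, 1, 0, 5],
  [4, 3, 5, 0],
  [4, 5, 0, 4, 0, 1],
  [4, 3, 5, 0, 4],
  [4, 5, 0, 0],
  [3, 4, 3, 2, 4, 0],
  [3, 5, 3, 2, 1, 5, 0],
  [0, 5, 4, 0, 2, 0],
  [4, 0, 5, 1],
  [0, 4, 0, 1, 5, 0],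
  [4, 5, 1, 1],
  [1, 1, 0, 2],
  [0, 0, 2, 4, 2],
  [4, 0, 5, 1, 0, 4],
  [3, 1, 0, 1, 2],
  [1, 5, 3, 1, 0, 2],
  [3, 1, 2, 3],
  [2, 2, 4, 5, 5, 3],
  [4, 3, 5, 1, 1],
  [2, 4, 5, 0, 2, 1],
  [4, 5, 5, 3, 4, 2],
  [4, 5, 1],
  [2, 2, 1, 1, 0, 5, 0],
  [2, 2, 2, 1, 3, 5, 0],
  [2, 4, 3, 2, 0, 0],
  [2, 3, 4, 5, 4],
  [1, 0, 1, 2, 0, 0],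
  [0, 4, 2, 3, 2, 1],
  [1, 3, 4, 2, 1, 0, 0],
  [1, 1, 0, 5, 1, 1],
  [2, 2, 1, 2, 1, 2, 2],
  [4, 5, 5, 1, 5, 1],
  [0, 5, 4, 0, 5, 0],
  [5, 3, 5, 5, 4, 5, 0],
  [1, 3, 1, 3, 2, 3, 2],
  [0, 5, 0, 1, 1, 2, 1],
  [4, 3, 5, 5, 1, 1],
  [2, 3, 2, 1, 2, 4, 0],
  [2, 3, 2, 3, 2, 2],
  [0, 2, 2],
  [5, 3, 1, 1, 5, 3],
  [4, 5, 1, 3, 2],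
  [1, 5, 3, 1, 0],
  [3, 1, 3, 2, 1, 0, 4],
  [2, 3, 1, 5, 4, 0],
  [4, 2, 1, 2],
  [2, 2, 1, 3, 1],
  [5, 3, 2, 0, 0, 2],
  [5, 1, 0, 5, 0],
  [0, 1, 5, 1, 0, 0],
  [5, 5, 4, 3, 2, 2, 3],
  [4, 5, 4, 0, 1, 5],
  [2, 1, 3, 4, 5, 4],
  [0, 4, 0, 4, 5, 3],
  [0, 4, 2, 2, 3],
  [2, 2, 2, 1, 1, 3],
  [3, 5, 0, 0, 5, 1],
  [2, 3, 5, 3, 2],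
  [3, 4, 3, 2, 2, 1, 1],
  [0, 2, 4],
  [0, 1, 2, 1],
  [0, 1, 2, 1, 2, 1, 1],
  [1, 2, 2, 4, 3],
  [1, 5, 3, 4, 2],
  [5, 3, 4, 2, 2, 2],
  [4, 3, 4, 2, 2, 1, 0],
  [5, 3, 5, 5, 1, 2],
  [0, 2, 4, 2, 1, 1],
  [5, 1, 1, 3, 5, 3],
  [2, 1, 2, 2, 1, 2, 1],
  [5, 4, 5, 5, 0, 2],
  [0, 2, 2, 4],
  [4, 5, 3, 5, 5],
  [3, 5, 4, 2, 2, 1, 5],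
  [4, 3, 5, 3, 5, 1, 1],
  [5, 5, 1, 5, 1, 2],
  [2, 3, 1, 0, 1],
  [4, 5, 3, 2, 0, 0],
  [1, 5, 3, 5, 5],
  [2, 3, 5, 1, 5, 5],
  [1, 1, 0, 1, 2, 1],
  [1, 5, 3, 2, 0, 0],
  [3, 4, 0, 4, 5],
  [5, 0, 5, 1, 3, 1],
  [1, 5, 0, 2, 0, 1],
  [0, 5, 5, 3, 5, 3],
  [1, 3, 1, 1, 5, 0, 0],
  [4, 3, 1, 1, 5, 0, 0],
  [3, 1],
  [3, 5, 1, 5, 5],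
  [5, 4, 0, 5, 1, 2],
  [1, 5, 0, 1, 5, 0],
  [4, 5, 0, 1, 5, 0],
  [2, 4, 5, 3, 1, 2, 0],
  [5, 0, 2, 1, 0, 1],
  [0, 5, 0, 1, 0, 5, 0],
  [0, 2, 4, 5, 3],
  [5, 3, 1, 2, 2, 0],
  [2, 1, 5, 5, 5, 4, 0],
  [3, 5, 1, 3, 1, 0, 0],
  [5, 3, 2, 1, 1, 5],
  [2, 1, 3, 2, 4, 3],
  [4, 0, 1, 2, 0, 0],
  [4, 3, 4, 2, 1, 0, 0],
  [0, 5, 1, 1],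
  [3, 5, 4, 3, 2, 3, 1],
  [2, 4, 5, 3, 2],
  [4, 5, 1, 5, 5, 4, 3],
  [1, 2, 1, 2],
  [2, 2, 2, 3, 1, 3],
  [0, 5, 5, 0, 0],
  [4, 0, 5, 5, 0, 4],
  [3, 5, 3, 1, 1, 0],
  [2, 1, 0, 1, 3, 5, 1],
  [0, 2, 2, 3, 2, 0, 0],
  [4, 5, 1, 0, 0, 4],
  [1, 3, 5, 5, 1, 1],
  [5, 3, 1, 3, 1, 5, 1],
  [5, 3, 4, 0, 2, 2],
  [5, 1, 0, 1, 5, 3],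
  [1, 1, 0, 2, 2],
  [4, 5, 3, 1, 0],
  [1, 5, 1, 3, 2],
  [2, 2, 3, 4, 2, 2],
  [0, 5, 3, 2, 2, 0, 0],
  [5, 5, 5, 4, 5, 4, 0],
  [5, 5, 3, 5, 4, 5, 1],
  [5, 0, 5, 1, 0, 0],
  [3, 2, 2, 4, 0, 1, 1],
  [3, 2, 1, 3, 2, 4],
  [1, 0, 0, 2, 2, 0, 0],
  [2, 3, 5, 0, 0],
  [0],
  [1, 1, 0, 2, 0, 0],
  [0, 1, 5, 3, 5, 0],
  [5, 0, 2, 0, 4],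
  [4, 3, 5, 5, 0],
  [1, 3, 1, 1, 2],
  [5, 0, 4, 2, 4],
  [1, 5, 4, 2, 1],
  [5, 4, 3],
  [4, 5, 1, 0, 2, 0],
  [4, 0, 5, 4, 2],
  [5, 1, 1, 0, 5, 0],
  [0, 1, 5, 0, 2, 0],
  [3, 5, 4, 5, 1, 0],
  [3, 5, 4, 0, 2, 0],
  [0, 1, 5, 5, 1, 0],
  [1, 0, 1, 0, 1],
  [4, 3, 5, 3, 1, 3],
  [4, 3, 5, 5, 0, 1],
  [0, 0, 4],
  [1, 2, 0, 2, 1, 1],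
  [4, 5, 1, 3, 1, 2, 4],
  [4, 3, 5, 5, 1, 0],
  [3, 1, 3, 4, 0, 0],
  [4, 2, 3, 2, 1, 2],
  [1, 1, 0, 5, 5, 3],
  [2, 4, 5, 5, 4, 0],
  [3, 4, 5, 3, 2, 2],
  [1, 2, 0, 2],
  [2, 3, 2, 0, 4],
  [3, 1, 2, 1, 5, 3],
  [2, 0, 2, 0, 4, 2],
  [1, 3, 5, 0, 5, 5],
  [0, 5, 4, 2, 2, 1, 5],
  [1, 1, 2, 2, 2, 0],
  [3, 1, 0, 5, 5],
  [0, 5, 3, 5, 5],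
  [3, 2, 0, 5],
  [0, 5, 0, 5, 4, 3],
  [2, 3, 4, 0, 0, 5, 0],
  [2, 3, 1, 2, 0],
  [2, 4, 3, 1, 0],
  [5, 0, 0, 4, 3, 5, 0],
  [4, 5, 0, 5, 5],
  [2, 0, 1, 1, 0],
  [4, 2, 0, 1, 2, 3],
  [2, 4, 3, 4, 0, 2]]

/-- part 13 of the class -/
def vOrb13 : List (List ℕ) := [
  [1, 0, 2, 2, 4, 3],
  [5, 0, 5, 3, 5, 0, 0],
  [4, 2, 2, 4, 2, 1],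
  [1, 2, 4, 3, 2],
  [1, 5, 3, 2, 2],
  [0, 4, 0, 5, 1, 1],
  [4, 0, 2, 1, 0, 0],
  [5, 4, 5, 5, 5, 1],
  [3, 1, 5, 0, 0],
  [4, 2, 3, 2, 4, 2],
  [5, 4, 3, 2, 2, 1],
  [1, 0, 4, 2, 3, 1, 1],
  [3, 1, 5, 5, 3, 1],
  [5, 1, 3, 1, 5, 0],
  [4, 2, 2, 2, 3, 2],
  [0, 2, 0, 4, 3],
  [0, 1, 3, 1, 5, 4],
  [4, 2, 0, 2, 1, 5],
  [2, 3, 2, 2],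
  [3, 1, 0, 5, 0],
  [2, 4, 5, 0, 5, 0],
  [0, 5, 5, 5, 3],
  [2, 0, 5, 0, 5, 5],
  [0, 0, 4, 3, 4, 5],
  [0, 0, 4, 0, 5],
  [0, 2, 1, 1, 0, 1, 0],
  [5, 0, 2, 2, 0, 4],
  [2, 1, 2, 0, 4, 5],
  [4, 5, 5, 1, 0, 2, 2],
  [4, 3, 1, 0, 2, 1],
  [1, 5, 5, 0, 2, 2, 3],
  [0, 2, 4, 0, 4, 0, 1],
  [4, 5, 1, 5, 3, 2],
  [1, 5, 4, 0, 5, 1],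
  [0, 2, 1, 5, 1, 1],
  [5, 5, 0, 1, 5, 4],
  [5, 5, 4, 5, 3],
  [4, 0, 5, 5, 4, 3],
  [2, 3, 5, 5, 3],
  [5, 0, 1, 5, 0, 2],
  [0, 5, 1, 5, 1],
  [4, 5, 3, 5, 5, 4],
  [2, 1, 1, 5, 0, 1, 3],
  [2, 1, 1, 5, 0],
  [3, 2, 0, 2, 1, 2, 3],
  [1, 5, 1, 1, 0, 2],
  [5, 0, 1, 1, 2],
  [5, 0, 1, 0, 1, 2],
  [4, 3, 4, 2, 3, 2],
  [1, 5, 4],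
  [0, 2, 2, 1, 1, 0],
  [5, 4, 0, 2, 1, 0],
  [2, 4, 0, 5, 3, 2],
  [1, 1, 2, 2, 1, 5, 1],
  [2, 3, 4, 2, 1, 2],
  [0, 1, 3, 2, 0],
  [3, 2, 4, 2, 1, 2, 0],
  [2, 3, 5, 0, 2, 1],
  [1, 5, 1, 3, 5, 5],
  [3, 1, 1, 0, 5, 0],
  [5, 0, 5, 3, 4, 0],
  [1, 3, 4, 5, 5, 1, 0],
  [4, 3, 5, 3, 1, 5],
  [0, 1, 2, 1, 5, 3],
  [2, 3, 1, 1, 0, 5],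
  [5, 4, 5, 5, 0, 1],
  [2, 4, 5, 0, 4, 2, 2],
  [1, 3, 1, 1, 5, 0],
  [0, 1, 5, 4, 0, 1, 0],
  [2, 1, 0, 1, 1, 2],
  [5, 1, 0, 4, 5, 0, 0],
  [4, 5, 3, 2, 1, 0],
  [1, 1, 0, 0, 5, 1],
  [3, 1, 5, 0, 5, 5, 1],
  [0, 2, 0, 1, 2, 0],
  [4, 5, 0, 2, 0],
  [5, 0, 1, 1, 5, 5, 0],
  [5, 5, 5, 1, 0],
  [2, 1, 2, 2, 3, 2],
  [2, 2, 4, 5, 5],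
  [5, 4, 5, 3, 1, 1],
  [2, 0, 0, 2, 2, 1, 0],
  [2, 0, 2, 1, 5, 1],
  [2, 3, 1, 0, 2],
  [2, 1, 3, 2, 4, 2],
  [4, 0, 4, 5, 4, 0, 0],
  [0, 1, 5, 5, 3, 2],
  [2, 4, 3, 4, 0, 5],
  [4, 0, 2, 4, 3, 2, 0],
  [2, 0, 5, 1, 0],
  [2, 4, 2, 0, 1, 2],
  [0, 2, 1, 2, 0, 1, 0],
  [0, 4, 2, 2, 1, 1, 3],
  [1, 5, 3, 1, 2, 3],
  [3, 1, 5, 5, 5, 1],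
  [5, 0, 0, 2, 2, 0, 2],
  [0, 1, 5, 3],
  [1, 3, 2, 1],
  [1, 1, 5, 5, 3, 5, 4],
  [4, 3, 1, 2, 2, 1, 0],
  [5, 5, 1, 5, 4, 0],
  [3, 5, 1, 0],
  [0, 2, 0, 1, 5, 3],
  [5, 3, 4, 5, 1, 0],
  [2, 2, 2, 0, 2, 1],
  [0, 5, 1, 3, 1],
  [4, 5, 5, 4, 5, 4, 0],
  [2, 0, 2, 0, 0],
  [0, 2, 1, 5, 5, 0, 0],
  [3, 1, 3, 1, 5, 0, 0],
  [0, 4, 3, 5, 4, 5, 1],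
  [2, 3, 5, 5, 1],
  [3, 4, 2, 4, 3, 2, 0],
  [3, 4, 2, 4, 0, 5, 3],
  [1, 1, 3, 4, 0, 0],
  [1, 3, 1, 2, 4],
  [4, 3, 4, 3, 5, 3],
  [2, 2, 3, 1, 2, 3],
  [5, 1, 0, 4, 0, 0],
  [4, 0, 5, 1, 0],
  [2, 4, 0, 4, 5, 1, 0],
  [0, 4, 0, 5, 1, 1, 0],
  [5, 5, 0, 0, 5, 3],
  [4, 3, 5, 0, 2],
  [4, 3, 2, 1, 1],
  [2, 2, 1, 2, 2, 3],
  [4, 3, 2, 4, 3],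
  [0, 1, 1, 3, 5, 4],
  [4, 0, 2, 2, 1, 0],
  [3, 2, 1, 1, 2, 1],
  [0, 5, 5, 5, 0, 2, 1],
  [4, 0, 2, 4, 5, 1, 0],
  [1, 0, 4, 5],
  [2, 1, 5, 0, 0],
  [2, 4, 0, 5, 0],
  [0, 5, 0, 2, 2, 3],
  [5, 5, 0, 5, 0, 0],
  [0, 4, 3, 5, 4],
  [1, 5, 1, 5, 0],
  [3, 1, 0, 2, 0, 1],
  [4, 0, 1, 2, 2, 0, 0],
  [5, 0, 2, 3, 1, 2, 1],
  [4, 0, 2, 0, 4, 0],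
  [2, 3, 2, 0, 1],
  [5, 0, 2, 4, 0, 4, 0],
  [5, 3, 5, 5, 4, 0],
  [3, 2, 2, 2, 4, 2, 1],
  [5, 3, 1, 0, 5, 0, 0],
  [5, 0, 1, 5, 5, 5],
  [0, 0, 4, 5, 4, 0],
  [2, 1, 2, 0, 1, 0, 0],
  [2, 3],
  [5, 4, 5, 3, 2],
  [1, 1, 2, 0, 4, 5],
  [3, 5, 5, 1, 0, 4],
  [1, 5, 1, 5, 0, 0],
  [5, 3, 2, 1, 2, 2, 0, 0],
  [2, 0, 5, 5],
  [4, 0, 0, 5, 1, 1],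
  [5, 4, 3, 4, 2, 3, 2],
  [5, 1, 0, 5, 4, 3],
  [1, 0, 5, 1, 5, 4, 0],
  [5, 1, 2, 2],
  [0, 2, 1, 0],
  [2, 4, 5, 0, 2, 4],
  [4, 2, 1, 5, 1],
  [1, 2, 1, 5, 1],
  [3, 1, 1, 5, 0, 2],
  [4, 2, 4, 0, 2, 1],
  [1, 2, 0, 2, 2, 0],
  [1, 2, 4, 0, 2, 1],
  [2, 0, 4, 5],
  [3, 1, 2, 1, 1],
  [5, 5, 1, 3, 1, 0, 1],
  [5, 3, 4, 2, 0, 0],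
  [0, 4, 3, 4, 5, 3],
  [1, 0, 2, 0, 1, 5, 0],
  [2, 2, 0, 2, 2, 1, 0],
  [0, 5, 1, 3, 5, 1],
  [3, 2, 2, 1, 2, 2, 4],
  [2, 1, 0, 2, 2, 2],
  [5, 4, 2, 1],
  [1, 3, 1, 0, 0, 2],
  [1, 0, 1, 2, 0],
  [4, 0, 0, 4],
  [2, 2, 2, 4, 5, 5, 3],
  [2, 4, 3, 5, 4],
  [1, 1, 3, 5, 5, 0],
  [2, 4, 3, 2, 4, 3],
  [2, 0, 2, 1, 1],
  [0, 4, 5, 5, 0, 0],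
  [2, 3, 5, 4, 0, 0],
  [3, 4, 3, 5, 1, 1, 0],
  [5, 0, 0, 2, 2],
  [2, 3, 2, 0, 4, 0],
  [0, 1, 2, 3, 2, 0],
  [2, 1, 3, 5, 5, 4],
  [3, 1, 0, 4, 2],
  [3, 1, 1, 2],
  [1, 0, 2, 0, 0],
  [0, 5, 0, 5, 5, 4],
  [0, 1, 0, 1],
  [4, 5, 4, 3],
  [4, 0],
  [1, 3, 1, 5, 1],
  [0, 5, 5, 3, 1, 5, 0],
  [3, 4, 3, 5, 4, 5, 0],
  [5, 5, 3, 1, 5, 0],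
  [4, 3, 1, 5, 5, 4, 0],
  [5, 1, 5, 1, 1],
  [5, 1, 5, 0, 0, 1],
  [5, 3, 5, 4],
  [1, 0, 0, 5, 0, 5],
  [3, 2, 3, 4, 5],
  [0, 5, 3, 5, 3],
  [1, 5, 0, 2],
  [3, 5, 3, 2, 1, 1],
  [1, 2, 0, 4, 5, 1, 0],
  [1, 2, 4, 5, 1],
  [2, 3, 5, 5, 0, 5],
  [5, 5, 0, 1, 3, 4, 0],
  [1, 0, 4, 3, 2, 2],
  [1, 3, 2, 0, 2, 2],
  [1, 3, 1, 2, 4, 3],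
  [0, 4, 3, 4, 5, 0],
  [3, 5, 0, 2, 1, 5, 0],
  [0, 0, 1, 0, 5],
  [3, 4, 5, 4, 5, 0],
  [1, 1, 5, 3, 2],
  [0, 2, 0, 2, 0],
  [0, 4, 2, 2, 2, 1],
  [5, 0, 2, 4, 5, 0],
  [3, 1, 0, 1, 5],
  [0, 2, 2, 2, 3],
  [0, 0, 1, 0, 1],
  [5, 0, 4, 0, 2],
  [3, 1, 2, 2, 0, 2],
  [5, 1, 1, 5, 5, 1],
  [3, 4, 3, 2, 2, 2],
  [2, 1, 0, 4, 0],
  [5, 5, 0, 4, 5, 0],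
  [3, 5, 5, 1, 5, 1],
  [1, 3, 5, 3, 2],
  [5, 3, 2, 1, 5, 1, 0],
  [0, 2, 2, 1, 5, 3],
  [3, 4, 2, 1, 2, 2],
  [3, 5, 4, 0, 5],
  [1, 2, 1, 2, 1, 2, 2],
  [0, 0, 1, 5],
  [2, 4, 5, 0, 1],
  [2, 3, 1, 3, 5, 1],
  [4, 0, 5, 3, 2]]

/-- part 14 of the class -/
def vOrb14 : List (List ℕ) := [
  [1, 5, 5, 4, 0],
  [1, 0, 0],
  [1, 5, 3, 4, 0, 2, 0],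
  [5, 5, 4, 5, 5, 3],
  [0, 0, 4, 5, 1],
  [5, 0, 1, 2, 1, 2],
  [4, 5, 3, 4, 5, 4],
  [5, 4, 5, 4, 5, 1],
  [5, 5, 3, 1, 1, 0],
  [4, 0, 1, 5, 0],
  [4, 2, 2, 0, 4, 5],
  [2, 4, 0, 0, 4],
  [5, 3, 2, 1, 1, 0, 0],
  [2, 1, 0, 5, 1, 5],
  [2, 1, 5, 4, 5, 1],
  [1, 0, 4, 0, 2, 1],
  [2, 2, 3, 1],
  [1, 1, 2, 1, 2, 4, 0],
  [2, 0, 0, 1, 2, 0],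
  [0, 1, 1, 0],
  [0, 5, 5, 3, 2, 3],
  [0, 1, 2, 3, 4, 5],
  [0, 4, 2, 0, 0, 2],
  [1, 1, 3],
  [5, 0, 5, 0, 5, 1],
  [0, 5, 1, 0, 2, 1],
  [3, 4, 0, 4, 0, 5],
  [1, 2, 1, 5, 1, 0],
  [4, 0, 0, 5, 0, 2],
  [1, 3, 5, 0, 4, 0, 0],
  [3, 2, 2, 1, 2, 4, 0],
  [1, 5, 3, 4, 0, 5, 0],
  [5, 3, 1, 3],
  [5, 4, 2, 4, 5, 1],
  [2, 1, 5, 3, 2],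
  [3, 4, 5, 3, 4, 5, 0],
  [1, 5, 1, 1, 0],
  [0, 5, 4, 0, 4, 3],
  [0, 5, 5, 1, 5, 0],
  [5, 5, 1, 3, 4],
  [3, 1, 2, 1, 2, 1],
  [0, 0, 2, 2, 1, 0],
  [5, 1, 0, 1],
  [3, 4, 5, 0],
  [3, 4, 3, 1, 2, 2, 2],
  [3, 5, 4, 5, 4, 3],
  [0, 4, 5, 1, 0, 0],
  [1, 5, 3, 4, 5, 4, 0],
  [2, 2, 3],
  [3, 2, 1, 2],
  [0, 2, 1, 5, 5, 1, 1],
  [0, 4, 5, 5, 3, 1, 0],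
  [2, 4, 5, 5, 4],
  [2, 1, 2, 2, 2, 4],
  [1, 5, 0, 5, 3, 2],
  [4, 5, 0, 5, 0, 0],
  [0, 4, 0, 4, 5, 0],
  [4, 3, 1, 2, 0, 0],
  [4, 2, 3, 1, 2, 3],
  [4, 2, 4, 5, 0],
  [5, 1, 3, 5, 1, 0],
  [5, 1, 0, 1, 1, 2],
  [2, 2, 2, 0, 1],
  [2, 4, 5, 0, 2],
  [0, 4, 0, 4, 3, 5, 3],
  [3, 4, 2, 2, 4, 0],
  [4, 5, 4, 0, 5, 0],
  [1, 1, 3, 4, 0, 5],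
  [4, 2, 2, 4, 0, 4, 0],
  [0, 5, 0, 2, 4, 0],
  [5, 5, 1, 5, 5, 1, 0],
  [2, 3, 5, 4, 0, 5],
  [4, 2, 1, 0, 5, 3],
  [5, 5, 0, 2, 1, 0],
  [4, 0, 1, 0, 5],
  [0, 4, 0, 5, 1, 3],
  [5, 5, 5, 1, 1, 0, 0],
  [4, 2, 0, 2, 0, 1, 1],
  [5, 5, 5, 3, 1, 1],
  [3, 4, 2, 1, 2, 0],
  [2, 3, 4, 5, 3, 4],
  [3, 4, 2, 0, 2, 1, 0],
  [2, 4, 3, 5, 5],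
  [0, 4, 0, 5, 5, 0],
  [0, 2, 4, 5, 1, 3],
  [5, 1, 1, 0, 0],
  [1, 3, 1, 1, 3],
  [5, 3, 5, 5, 0],
  [5, 5, 1, 3, 2, 0],
  [4, 2, 2, 2, 0, 2],
  [1, 5, 1, 5, 1],
  [1, 5, 0, 5, 4, 0],
  [3, 2, 4, 3, 5, 4, 0],
  [3, 1, 5, 0, 5, 1, 0],
  [4, 5, 0, 1, 0, 5, 0],
  [5, 5, 4, 0, 5, 0, 1],
  [1, 5, 5, 3],
  [4, 0, 0, 2, 2, 0],
  [5, 0, 2, 0, 2, 0],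
  [2, 3, 2, 4, 3, 2, 2],
  [0, 5, 0],
  [5, 3, 5, 0, 1, 2],
  [0, 1, 2, 4, 3, 2],
  [0, 4, 2, 4, 3, 2, 0],
  [5, 5, 4, 5, 0, 1],
  [1, 5, 5, 4],
  [5, 5, 5, 0, 2, 2],
  [4, 5, 0, 1, 5, 0, 0],
  [4, 3, 5, 3, 2, 1, 1],
  [2, 0, 0, 5, 0, 5],
  [5, 3, 5, 0, 5, 5],
  [2, 4, 5, 1],
  [3, 4, 5, 5, 0, 4],
  [0, 0, 5, 0, 5],
  [2, 2, 4, 0, 5, 1],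
  [1, 3, 1, 1, 5, 1, 1],
  [3, 1, 2, 4, 3],
  [4, 3, 2, 3, 4, 5],
  [4, 5, 1, 5, 1, 1],
  [2, 0, 4, 5, 1, 0],
  [4, 0, 5, 3, 5, 3],
  [0, 4, 0, 2, 4, 3],
  [3, 1, 0, 1, 5, 4],
  [2, 2, 3, 1, 5, 5, 1, 0],
  [5, 0, 2],
  [4, 5, 3, 5, 4],
  [1, 5, 5, 0, 2, 4, 2],
  [0, 4, 3, 2, 2],
  [3, 2, 0, 2, 2],
  [2, 4, 0, 2, 0, 1],
  [3, 1, 5, 1],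
  [1, 3, 2, 1, 0, 4],
  [5, 1, 5, 0, 2],
  [2, 1, 5, 0, 1, 3],
  [2, 1, 5, 3, 1, 0],
  [2, 4, 0, 5, 4, 0],
  [0, 2, 2, 1, 5],
  [4, 0, 1, 2, 1, 1, 0],
  [2, 1, 0, 5, 3, 2],
  [2, 3, 2, 4, 3],
  [5, 5, 3, 1, 5, 1],
  [1, 5, 0, 1, 1, 5],
  [4, 3, 5, 4, 3, 2],
  [0, 5, 0, 5],
  [5, 1, 1, 5, 0, 5],
  [3, 4, 0, 1, 3, 5, 1],
  [2, 2, 2, 3, 1, 2, 0],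
  [5, 0, 1, 0, 5, 5],
  [1, 2, 0, 2, 1],
  [4, 3, 2, 0, 4, 3],
  [4, 0, 2, 1, 0, 2],
  [0, 4, 2, 4, 5, 1],
  [5, 3, 5, 0, 4],
  [2, 2, 1, 2, 0, 2],
  [2, 4, 5, 4, 0, 0],
  [1, 0, 5, 5, 1, 0],
  [2, 1, 1, 2, 0, 4, 5],
  [2, 2, 3, 1, 5, 3],
  [2, 3, 1, 5, 0, 4],
  [4, 5, 4, 5, 0, 4],
  [2, 3, 5, 5, 1, 1, 0],
  [1, 2, 0, 1, 5, 3],
  [4, 3, 5, 3, 1, 5, 1],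
  [4, 3, 4, 5, 1],
  [5, 5, 4, 2, 0, 2],
  [2, 1, 5, 5, 4, 0],
  [2, 2, 2, 4, 3],
  [0, 2, 4, 0, 4, 0],
  [3, 2, 4, 0, 1],
  [5, 4, 3, 1, 5, 1],
  [1, 1, 2, 0, 4, 0],
  [4, 0, 4, 2, 1, 0, 0],
  [2, 0, 5, 5, 4, 5, 1],
  [1, 2, 0, 0, 1],
  [3, 5, 0, 5, 1],
  [1, 5, 1, 0, 2],
  [3, 2, 4, 3, 2, 3, 1],
  [4, 0, 0, 5, 4, 0, 2],
  [3, 4, 5, 0, 0, 1],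
  [0, 4, 5, 4, 0],
  [4, 5, 5, 3, 2, 1],
  [3, 2, 1, 2, 4],
  [5, 4, 0, 1, 5, 1],
  [1, 0, 1, 0, 5, 0, 0],
  [3, 5, 1, 3, 5, 5],
  [2, 2, 1, 3, 2],
  [3, 5, 5, 3, 5, 5, 1],
  [0, 1, 5, 1],
  [3, 4, 2],
  [5, 1, 3, 1, 1, 2],
  [3, 2, 4, 2, 0, 1, 1],
  [5, 3, 5, 3, 4, 0],
  [4, 5, 4],
  [5, 4, 0, 4, 5, 1, 1],
  [3, 2, 0, 2, 1, 5, 0],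
  [4, 5, 0, 0, 5, 1],
  [1, 3, 4, 2, 3, 2],
  [0, 4, 5, 4, 3],
  [2, 2, 1, 5, 1],
  [2, 1, 3, 2, 1, 0, 4],
  [2, 4, 5, 5, 3, 1, 0],
  [3, 2, 0, 4, 0, 0],
  [0, 0, 4, 5, 5, 0, 0],
  [5, 0, 2, 4, 2, 1, 2],
  [4, 5, 1, 3, 5, 5],
  [0, 2, 3, 2, 3, 2],
  [0, 1, 1, 5, 1, 1, 0],
  [5, 3, 2, 4, 5, 0],
  [5, 0, 2, 1, 2, 2],
  [1, 0, 2, 2, 1, 5, 0],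
  [1, 5, 1, 0, 5, 5],
  [0, 2, 0, 4, 5],
  [2, 0, 0, 2, 2],
  [0, 4, 2, 0, 1, 0],
  [2, 1, 0, 2, 1, 0],
  [0, 0, 5, 1],
  [1, 5, 3, 2, 1, 0],
  [5, 3, 5, 5, 5, 4],
  [0, 0, 1, 3, 2],
  [3, 2, 1, 5, 4, 5],
  [1, 0, 0, 2, 2, 1],
  [4, 3, 1, 1, 5, 0],
  [5, 0, 5, 4, 0, 0],
  [1, 3, 5, 3, 1, 5],
  [5, 5, 1, 2, 1, 1],
  [3, 4, 0, 5, 4, 5],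
  [5, 4, 3, 2, 4, 0],
  [1, 5, 0, 2, 0],
  [3, 2, 3, 2, 1],
  [3, 5, 4, 5, 5, 0],
  [5, 0, 5, 5, 1],
  [5, 0, 2, 0, 1, 2, 0],
  [2, 0, 5, 0, 5, 1],
  [1, 5, 4, 5, 3],
  [1, 3, 4],
  [1, 2, 1, 0, 5, 0],
  [0, 1, 3, 4, 2, 0, 2],
  [0, 2, 1, 3, 5, 0],
  [1, 5, 5, 5, 1, 1, 0],
  [3, 4, 5, 3, 1, 5],
  [1, 2, 4, 3, 5, 1],
  [1, 0, 5, 4, 3],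
  [3, 1, 0, 2, 2, 4, 0],
  [0, 5, 5, 1, 5, 1, 0],
  [4, 0, 4, 0, 1],
  [0, 0, 4, 2, 4, 5, 1],
  [3, 2, 4, 3, 1, 5],
  [1, 2, 4, 5, 0, 4],
  [2, 1, 2, 0, 2],
  [4, 3, 5, 3, 5, 5, 0],
  [2, 3, 2, 1, 2, 2],
  [2, 2, 1, 0, 2, 0, 0]]

/-- part 15 of the class -/
def vOrb15 : List (List ℕ) := [
  [4, 5, 5, 5, 3, 2],
  [1, 5, 3, 2, 1, 1, 0, 0],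
  [2, 0, 5, 5, 1, 3],
  [2, 3, 5, 5, 1, 5, 1],
  [5, 3, 2, 3, 2, 3],
  [4, 3, 2, 1, 1, 0],
  [0, 4, 0, 1, 2, 1],
  [1, 3, 4, 5, 0],
  [0, 1, 2, 2, 4, 3],
  [0, 0, 5, 0, 2],
  [5, 0, 2, 1, 5, 4],
  [2, 1, 5, 4, 0],
  [5, 3, 2, 1, 5, 0],
  [1, 5, 1, 0, 1],
  [4, 0, 5, 4, 5, 3],
  [2, 1, 3, 4, 5, 1],
  [0, 1, 5, 4, 3],
  [0, 2, 0, 0, 1],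
  [3, 5, 5, 0, 1, 0],
  [2, 0, 2, 1, 2, 3],
  [0, 1, 3, 2, 4],
  [0, 1, 5, 5, 1, 3],
  [4, 3],
  [4, 2, 1, 2, 4, 0],
  [1, 2, 2, 3, 1],
  [2, 1, 0, 0, 2],
  [2, 2, 0, 1, 0],
  [4, 3, 5, 3, 5, 1],
  [1, 0, 0, 2, 2, 1, 0],
  [1, 1, 5, 1, 1, 0],
  [1, 5, 3, 1, 3],
  [0, 5, 4, 2, 2, 1],
  [1, 2, 1, 5, 3, 2],
  [4, 3, 5, 3, 1, 3, 2],
  [2, 0, 2, 2, 4, 2, 1],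
  [5, 3, 4, 5, 5, 3],
  [0, 2, 4, 0, 4],
  [5, 4, 0, 0, 1, 1],
  [5, 5, 1, 2],
  [0, 5, 4, 0, 4, 0],
  [0, 5, 1, 0, 0],
  [5, 4, 5, 1, 2],
  [5, 3, 1, 1, 3],
  [1, 3, 2],
  [0, 5, 3, 4, 0],
  [5, 0, 2, 2, 0],
  [5, 4, 0, 0, 4],
  [5, 5, 4, 2],
  [0, 0, 5, 1, 3],
  [5, 1, 0, 2, 1, 3],
  [3, 5, 4, 0, 0],
  [0, 2, 4, 5],
  [0, 5, 1, 1, 0],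
  [5, 0, 1, 0, 1],
  [5, 3, 1, 1, 0, 1],
  [3, 5, 5, 1, 2],
  [5, 0, 2, 1, 3],
  [0, 5, 3, 1, 1, 0],
  [5, 0, 2, 3, 2, 0],
  [5, 1, 1, 3, 4, 0, 0],
  [5, 4, 5, 0, 0],
  [0, 2, 2, 1, 0, 1],
  [0, 4, 0, 0, 2, 2, 2],
  [3, 2, 3],
  [2, 2, 1, 0, 0],
  [1, 5, 5, 1, 1],
  [4, 0, 4, 0, 2],
  [3, 2, 3, 2, 0, 4],
  [5, 3, 2, 3, 2, 1],
  [2, 0, 2, 0, 2],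
  [3, 5, 5, 3, 1, 2, 3],
  [2, 4, 0, 4, 0, 1],
  [5, 1, 5, 0, 5],
  [4, 3, 5, 5, 5, 1],
  [3, 5, 5, 3, 2, 0],
  [1, 3, 5, 5, 5, 4],
  [1, 5, 1, 0, 1, 0],
  [5, 3, 2, 2, 3],
  [3, 2, 2, 4, 3, 2],
  [2, 1, 3, 5, 4],
  [1, 5, 3, 1, 5, 4, 0],
  [3, 4, 0, 4, 5, 0],
  [5, 1, 1, 3, 4, 5],
  [4, 5, 1, 0, 1, 0],
  [0, 2, 1, 5, 0, 5, 1],
  [5, 0, 2, 0, 1, 1, 2],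
  [0, 2, 1, 5, 5],
  [2, 2, 0, 5, 5],
  [5, 1, 1, 5, 1, 1],
  [1, 0, 4, 0, 2],
  [2, 1, 0, 2, 0, 1],
  [5, 5, 1, 1, 5],
  [2, 0, 0, 1, 0],
  [5, 0, 5, 4, 3, 2],
  [3, 2, 0, 2, 1, 1],
  [1, 2, 1, 1, 3],
  [2, 2, 4, 5, 1, 1],
  [1, 5, 5, 0, 1, 0, 1],
  [5, 1, 1, 5, 5, 4, 0],
  [4, 0, 5, 5, 0, 2],
  [1, 2, 1, 0, 5],
  [5, 0, 2, 0, 2, 2],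
  [5, 5, 0, 5],
  [4, 2, 2, 3, 1, 5],
  [3, 1, 1, 5, 1, 0],
  [2, 1, 0, 2, 2, 4, 0],
  [1, 2, 2, 0, 2, 1],
  [4, 0, 2, 4, 3, 5, 0],
  [3, 4, 5, 0, 5, 1, 1],
  [0, 2, 4, 3, 4, 5],
  [3, 1, 1, 3, 5, 1],
  [5, 5, 3, 1, 0, 1, 0],
  [0, 1, 1, 5, 4, 3],
  [2, 0, 4, 0, 4, 5],
  [5, 0, 1, 5, 1],
  [5, 5, 3, 5, 3],
  [5, 0, 4, 0, 5, 4, 0],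
  [3, 5, 4, 5, 0, 2, 1],
  [0, 5, 5, 3, 5, 4],
  [0, 5, 1, 5, 0, 2],
  [4, 0, 0, 2, 0, 4],
  [5, 3, 2, 1, 1, 0],
  [4, 0, 2, 4, 3, 2],
  [0, 2, 1, 2, 2, 3],
  [2, 3, 2, 4, 5],
  [5, 0, 5, 3, 1, 1, 2],
  [2, 2, 3, 2, 1, 0],
  [4, 2, 2, 4, 5, 5, 0],
  [2, 3, 1, 2, 1, 2, 3],
  [5, 5, 5, 1, 5, 1],
  [1, 3, 1, 1, 5, 4],
  [0, 0, 5, 4, 5, 0],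
  [0, 2, 3, 2],
  [2, 0, 2, 1, 2, 2],
  [5, 3, 5, 3, 5, 1],
  [0, 0, 5, 1, 5],
  [2, 0, 4, 5, 0, 0],
  [4, 2, 2, 1, 2, 0],
  [3, 1, 2, 3, 2, 2, 1],
  [5, 1, 1, 0, 2, 0, 0],
  [3, 1, 0],
  [0, 2, 4, 5, 1],
  [1, 0, 0, 5, 3, 2],
  [3, 1, 5, 5, 5, 0],
  [5, 5, 4, 5, 0, 2, 0],
  [5, 1, 5, 1, 5],
  [4, 2, 1, 1],
  [1, 3, 1, 1, 0, 5],
  [2, 2, 0, 5, 1, 1],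
  [2, 4, 3, 1, 5, 5, 3],
  [4, 3, 2, 2, 3, 1],
  [5, 1, 0, 2, 4, 0],
  [5, 1, 3, 5, 3, 2],
  [1, 1, 0, 4, 2, 2],
  [0, 2, 0, 5, 5, 0],
  [0, 2, 0, 4, 2, 1],
  [2, 3, 4, 0, 0, 2],
  [2, 2, 0, 1, 5, 0],
  [3, 2, 1, 5, 3],
  [5, 3, 5, 4, 5, 1],
  [4, 5, 3, 2, 0, 0, 1],
  [0, 5, 5, 1, 3, 5, 1],
  [4, 0, 1, 5, 3, 2, 1],
  [3, 5, 1, 1, 5],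
  [0, 2, 2, 2, 1, 1],
  [3, 2, 0, 0, 1, 1],
  [4, 5, 3, 1, 2, 1],
  [4, 2, 3, 2, 0, 0],
  [2, 4, 5, 3, 5, 5],
  [0, 1, 2, 4, 0],
  [4, 5, 0, 2, 2, 0, 0],
  [1, 0, 4, 3, 5, 0, 0],
  [1, 1, 0, 5, 4, 5, 0],
  [4, 2, 0, 2, 2, 2],
  [3, 1, 2, 3, 2],
  [5, 5, 0, 2, 1, 3],
  [1, 3, 1, 3, 2, 4, 0],
  [3, 2, 2, 0, 5],
  [0, 1, 3, 1, 5],
  [1, 5, 3, 4, 0, 2],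
  [2, 1, 2, 1, 3, 4],
  [0, 0, 5, 0, 5, 0],
  [0, 0, 5, 5, 4, 0],
  [2, 4, 5, 4, 0, 5],
  [2, 4, 5, 1, 0, 5],
  [2, 0, 0, 2, 1, 1],
  [4, 3, 5, 5, 1, 5],
  [3, 5, 1, 1, 5, 1],
  [2, 3, 4, 2, 2, 0],
  [2, 1, 3, 2, 0, 2, 1],
  [5, 1, 5, 1, 0, 0],
  [1, 5, 1, 5, 3],
  [1, 3, 5, 5, 4],
  [4, 5, 1, 5, 3],
  [3, 5, 5, 5, 1, 1, 0],
  [0, 4, 0, 2, 1, 0, 0],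
  [2, 4, 0, 1, 3],
  [3, 5, 3, 5, 0, 2],
  [1, 0, 0, 4, 2],
  [3, 2, 2, 0, 2],
  [4, 5, 5, 5, 0, 1],
  [2, 3, 1, 2, 4, 5],
  [5, 0, 1, 1, 3],
  [3, 4, 2, 1, 0, 2, 0],
  [5, 1, 0, 2, 4, 5],
  [1, 5, 5, 4, 0, 5],
  [4, 5, 5, 4, 0, 5],
  [0, 2, 1, 2, 1, 0],
  [0, 4, 0, 5, 0, 5, 3],
  [3, 5, 1, 3, 1, 0],
  [5, 4, 0, 2, 4, 0],
  [5, 5, 5, 4, 5, 1, 1],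
  [1, 5, 5, 4, 5, 4],
  [2, 4, 0, 5, 1],
  [3, 1, 3, 2],
  [5, 5, 5, 0, 1, 0],
  [5, 5, 3, 2, 1, 5],
  [1, 1, 0, 1, 3, 1],
  [3, 2, 3, 1, 3],
  [5, 0, 1, 0, 0],
  [2, 4, 3, 5, 5, 0],
  [4, 5, 1, 0, 2, 2],
  [1, 0, 4, 3],
  [0, 1, 2, 1, 3],
  [1, 1, 5, 4, 0],
  [3, 5, 4, 0, 0, 2],
  [2, 1, 1, 0, 2, 0, 0],
  [5, 3, 1, 1],
  [1, 0, 2, 3, 1, 5, 1],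
  [2, 4, 0, 0],
  [3, 5, 0, 2, 0, 4],
  [1, 0, 4, 5, 0, 2, 0],
  [0, 4, 3, 1, 1, 0],
  [2, 1, 2, 2, 0],
  [0, 0, 5, 1, 0],
  [4, 5, 5, 3, 1, 0],
  [5, 5, 0, 4, 3],
  [5, 1, 2, 2, 3],
  [2, 0, 1, 3, 2, 4],
  [1, 2, 0, 1, 0, 0],
  [5, 3, 2, 2, 4, 0, 1],
  [4, 0, 2, 0, 1, 5, 3],
  [1, 5, 0, 1, 2, 1],
  [2, 2, 1, 2, 2, 2],
  [5, 0, 1, 5, 0, 5],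
  [0, 1, 3, 2, 2, 1, 0],
  [0, 0, 2, 2, 1, 5],
  [1, 3, 4, 0, 0],
  [3, 2, 1],
  [2, 4, 2, 1, 2],
  [5, 3, 2, 3],
  [4, 2, 0, 2, 0, 0]]

/-- part 16 of the class -/
def vOrb16 : List (List ℕ) := [
  [0, 1, 0, 1, 5, 0],
  [5, 0, 2, 0, 4, 0],
  [5, 3, 4, 0, 4, 5, 0],
  [5, 3, 2, 1, 0, 5],
  [0, 5, 0, 0, 5, 3],
  [5, 1, 0, 0, 1, 5, 0],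
  [3, 5, 3, 4, 2],
  [5, 5, 0, 5, 0, 5, 1],
  [3, 4, 0, 1, 5, 5, 0],
  [2, 2, 4, 3, 2, 0, 0],
  [1, 1, 0, 5, 1, 0],
  [5, 3, 1, 2, 3],
  [3, 1, 2, 0, 1],
  [0, 5, 5, 5, 4, 0, 0],
  [4, 0, 1, 5, 3],
  [1, 5, 5, 3, 5, 4],
  [2, 0, 1, 5, 1, 1],
  [3, 1, 2, 4],
  [0, 2, 3, 4, 5, 1],
  [4, 5, 3, 4, 5, 1, 0],
  [5, 4, 3, 2, 4, 5, 0],
  [4, 3, 5, 1, 0],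
  [0, 1, 5, 1, 5, 1],
  [0, 4, 3, 4, 5],
  [1, 5, 3, 2, 1, 5],
  [4, 0, 1, 2, 4, 5],
  [5, 0, 5, 0, 2],
  [2, 2, 0, 1, 2],
  [4, 0, 2, 0],
  [0, 0, 4, 5, 1, 3],
  [5, 1, 1, 5, 3, 4],
  [2, 2, 1, 0, 5, 0, 0],
  [5, 1, 1, 0, 5, 1],
  [2, 2, 4, 2, 0, 2, 2],
  [0, 1, 5, 5, 4],
  [1, 1, 3, 2, 0],
  [3, 4, 0, 4, 2, 1],
  [2, 3, 5, 4, 5, 5, 0],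
  [0, 0, 2, 2, 0, 2],
  [2, 1, 1, 0, 5, 1, 0],
  [0, 5, 4, 5, 4, 3],
  [1, 0, 2, 2, 4, 2],
  [4, 2, 4, 3, 5, 3],
  [3, 4, 5, 0, 5, 1, 0],
  [4, 2, 4, 0, 2, 0],
  [5, 0, 2, 4, 5, 3],
  [0, 4, 0, 1, 5],
  [4, 0, 5, 1, 2, 2],
  [2, 1, 0, 1, 5, 1],
  [3, 4, 5, 5, 0],
  [5, 0, 2, 2, 3],
  [3, 4, 5, 1, 0, 0],
  [4, 2, 2, 0, 0, 2],
  [5, 0, 5, 1, 3, 2],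
  [1, 3, 2, 2, 2],
  [3, 2, 3, 4, 0, 5, 0],
  [2, 0, 1, 5, 0, 5],
  [4, 5, 3, 5, 0, 0],
  [4, 5, 4, 5, 1, 1, 0],
  [1, 1, 5, 4, 0, 0],
  [5, 3, 5, 4, 5, 0, 0],
  [3, 4, 3, 5, 1, 3],
  [1, 0, 0, 4, 5, 1],
  [3, 2, 1, 0, 5],
  [0, 1, 0, 1, 3],
  [0, 5, 3, 2],
  [1, 0, 2, 2, 2, 3],
  [0, 0, 5, 5, 1, 1],
  [1, 5, 0, 4, 0, 2],
  [2, 2, 4, 3, 5, 0],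
  [4, 3, 1, 2, 2, 1],
  [1, 1, 3, 5, 3, 2],
  [3, 4, 0, 4, 0],
  [1, 5, 0, 2, 4, 5, 0],
  [0, 5, 0, 1, 1, 2],
  [5, 3, 1, 5, 4],
  [4, 2, 3, 1, 0, 2, 2],
  [0, 0, 1, 5, 1, 5],
  [5, 0, 1, 5, 4, 0],
  [1, 1, 0, 0],
  [0, 4, 2, 2, 0, 0, 2],
  [1, 0, 0, 1, 5],
  [3, 5, 0, 0, 4, 5],
  [0, 1, 5, 0],
  [0, 0, 2, 4, 3],
  [2, 2, 0, 4, 5],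
  [4, 5, 3, 5, 0, 5],
  [2, 4, 3, 1, 1, 0],
  [3, 5, 5, 0, 0, 1],
  [5, 3, 4, 5, 4],
  [1, 2, 4, 0, 0, 4],
  [1, 1, 5, 5, 4, 0],
  [4, 5, 3, 2],
  [1, 5, 5, 3, 1, 1, 0],
  [4, 0, 1, 2, 0, 0, 2],
  [2, 3, 2, 2, 2, 1],
  [2, 3, 4, 0, 4, 5, 0],
  [0, 2, 4, 0, 5, 3],
  [2, 0, 4, 3, 5, 3],
  [3, 5, 4, 3, 2],
  [1, 0, 5, 0, 5],
  [5, 5, 0, 2, 0, 0],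
  [4, 0, 2, 1, 2, 1],
  [4, 0, 2, 3, 4, 3],
  [5, 1, 5, 5],
  [0, 2, 3, 1, 0, 2, 0],
  [0, 2, 3, 1, 2, 0],
  [0, 1, 0, 0, 2, 1],
  [0, 1, 1, 5, 1, 0, 0],
  [0, 2, 1, 0, 2],
  [3, 2, 0, 4, 3],
  [3, 4, 2, 0, 1, 1],
  [0, 1, 5, 3, 2],
  [0, 2, 4, 5, 1, 2],
  [5, 3, 4, 5, 1, 1],
  [5, 5, 4, 3, 2, 4, 0],
  [5, 0, 0, 5, 4, 5],
  [0, 1, 2, 1, 1, 0],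
  [3, 2, 1, 3, 2, 0],
  [4, 3, 2, 2, 2, 0],
  [4, 2, 0, 4],
  [5, 1, 1, 3, 1, 5, 4],
  [1, 3, 2, 4, 3, 2],
  [1, 1, 0, 2, 4, 0],
  [3, 1, 1, 3, 5, 4],
  [1, 1, 5, 1, 3],
  [4, 5, 4, 2, 3, 2, 2],
  [3, 5, 3, 5, 4, 3],
  [4, 5, 0, 2, 1],
  [1, 5, 1, 0, 2, 1],
  [2, 1, 0, 4],
  [2, 1, 0, 1, 5, 3],
  [1, 2, 2, 4, 3, 2],
  [5, 1, 5, 1, 5, 5],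
  [5, 5, 3, 2, 1, 1],
  [1, 2, 0, 1, 5, 0],
  [3, 4, 0, 1, 0],
  [5, 4, 3, 1, 0, 1],
  [5, 0, 1, 0, 2, 1],
  [0, 1, 5, 4, 2],
  [1, 1, 3, 4, 5, 5],
  [2, 0, 0, 1, 5, 3],
  [5, 4, 0, 1, 1, 5],
  [5, 1, 1, 3],
  [5, 3, 5, 4, 3, 2],
  [2, 4, 5, 3, 2, 0, 0],
  [1, 0, 5, 3, 2, 0, 0],
  [3, 2, 4, 0],
  [5, 4, 0, 5, 3],
  [2, 3, 1, 0, 0],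
  [2, 1, 3, 5, 1],
  [0, 2, 1],
  [0, 1, 1, 5, 1],
  [5, 4, 5, 0, 1, 3],
  [4, 2, 1, 3, 5, 5, 0],
  [4, 5, 0, 1, 2],
  [3, 4, 0, 5],
  [2, 1, 0, 1, 5, 4],
  [3, 5, 0, 2, 3, 1],
  [2, 0, 2, 2, 4, 5, 0],
  [1, 2, 2, 4, 0, 4, 0],
  [0, 5, 5, 1, 0, 4],
  [2, 3, 1, 5, 1, 0],
  [0, 5, 5, 1, 5],
  [3, 2, 3, 4, 5, 1],
  [3, 2, 3, 1, 5],
  [5, 5, 5, 0, 5],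
  [1, 2, 2, 1, 5, 0],
  [1, 5, 0, 0, 1, 1],
  [1, 0, 1, 0, 5],
  [5, 3, 5, 0, 2, 2],
  [0, 5, 5, 4, 5, 1],
  [5, 1, 3, 4],
  [4, 3, 2, 4, 5, 0, 0],
  [2, 2, 1, 0, 2, 0, 1],
  [5, 3, 1, 0, 1, 0],
  [0, 4, 2, 1, 0, 4],
  [0, 2, 4, 2, 4],
  [5, 0, 4, 2, 0, 2],
  [2, 4, 0, 4, 5, 3],
  [5, 5, 1, 5, 4, 2],
  [1, 2, 3, 1, 2, 3],
  [1, 3, 1, 2, 0, 0],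
  [1, 2, 4, 5, 0],
  [4, 5, 0, 5, 3, 2],
  [5, 0, 1, 1],
  [5, 1, 3, 1, 5],
  [4, 5, 1, 1, 5, 1],
  [5, 3, 2, 0, 1, 1, 2],
  [2, 0, 4, 2],
  [5, 5, 0, 1],
  [0, 2, 4, 0, 1],
  [2, 3, 1, 0, 4, 0],
  [4, 2, 0, 1, 5, 1, 0],
  [0, 5, 5, 5, 4],
  [0, 0, 4, 5, 5, 3],
  [1, 2, 2, 1, 2, 0],
  [0, 0, 1, 5, 5, 3],
  [3, 4, 0, 0, 5, 0],
  [1, 5, 3, 5, 5, 0, 0],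
  [5, 0, 0, 5, 1, 0],
  [5, 5, 3, 5, 0],
  [2, 1, 0, 5, 0, 0],
  [4, 0, 1, 1, 2, 0, 2],
  [3, 5, 4, 5, 1],
  [0, 4, 2, 2],
  [3, 2, 4, 0, 5, 1],
  [1, 1, 3, 1, 0],
  [2, 3, 2, 1, 5, 1, 0],
  [5, 1, 5, 0, 1, 3],
  [0, 5, 4, 0, 2, 1],
  [5, 3, 5, 4, 3],
  [5, 5, 3, 1, 3],
  [0, 2, 2, 2, 0, 0, 1],
  [3, 4, 5, 3, 1],
  [2, 4, 2, 2, 2, 0, 0],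
  [1, 2, 1, 1],
  [0, 5, 1, 5, 5],
  [1, 0, 1, 3, 5, 4, 0],
  [1, 5, 0, 4, 2, 1],
  [2, 3, 4, 3, 2, 2],
  [1, 3, 2, 2, 3, 1],
  [0, 1, 3, 1, 1, 0],
  [2, 4, 0, 5, 5, 5, 0],
  [1, 0, 2, 1, 2, 3],
  [1, 0, 2, 4, 3, 2],
  [2, 2, 3, 2],
  [3, 2, 3, 5, 5],
  [2, 4, 0, 4, 3],
  [2, 1, 2, 2, 4],
  [5, 5, 1, 1, 0, 0],
  [2, 4, 2, 4],
  [2, 3, 2, 0],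
  [3, 2, 4, 3, 5, 5],
  [0, 4, 3, 4, 0, 1, 2],
  [2, 4, 0, 4, 5, 5, 0],
  [3, 4, 0, 5, 3],
  [1, 3, 4, 3],
  [3, 1, 0, 1, 1, 2],
  [5, 5, 0, 2, 3, 2, 0],
  [4, 2, 1, 1, 0, 2, 0],
  [0, 1, 1, 3, 1, 0],
  [2, 0, 1, 1, 5, 0],
  [0, 1, 5, 0, 0, 1, 0],
  [2, 3, 4, 3],
  [1, 0, 0, 2, 0, 0],
  [2, 2, 0, 4],
  [2, 0, 2, 4],
  [4, 3, 1, 1],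
  [1, 5, 3, 2, 4, 5],
  [5, 1, 1, 5, 1, 0, 2],
  [5, 4, 2, 3, 4, 0]]

/-- part 17 of the class -/
def vOrb17 : List (List ℕ) := [
  [2, 4, 2, 2, 3, 1],
  [1, 2, 2, 3, 1, 0, 5, 0],
  [3, 1, 0, 1, 3, 2, 1],
  [4, 3, 5, 5, 1, 5, 4, 0],
  [1, 1, 5, 4, 0, 2, 1],
  [3, 1, 2, 0, 1, 1],
  [0, 5, 5, 5, 0, 1],
  [4, 0, 0, 1, 5, 0],
  [3, 1, 5, 0, 0, 5, 5],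
  [1, 2, 1, 0, 2, 1],
  [3, 2, 4, 0, 5, 4, 0],
  [0, 4, 5, 0, 5, 0, 0],
  [1, 5, 5, 1, 0, 2, 1],
  [4, 0, 4, 5, 5, 0],
  [1, 0, 1, 1, 5, 4],
  [2, 2, 0, 4, 0, 2, 1],
  [0, 4, 5, 5, 1, 1, 0],
  [1, 3, 2, 4, 0, 5],
  [3, 2, 0, 4, 0],
  [4, 5, 5, 0, 0, 1],
  [5, 4, 2, 1, 5, 0],
  [3, 4, 5, 3, 5, 1, 1],
  [0, 0, 4, 3, 5, 0, 0],
  [2, 3, 2, 2, 1],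
  [4, 5, 1, 5, 1, 1, 0],
  [0, 5, 4, 5],
  [5, 5, 1, 5, 0],
  [4, 3, 2, 1, 0, 0],
  [0, 5, 5, 1, 5, 1],
  [1, 0, 2, 0, 0, 2],
  [2, 2, 4, 3, 5, 5],
  [2, 3, 4, 3, 2, 0],
  [1, 3, 2, 3, 4, 3],
  [3, 1, 5],
  [4, 2, 3, 5, 3, 1, 5],
  [3, 2, 0, 2, 0, 2, 0],
  [0, 5, 4, 5, 0, 4],
  [3, 2, 0, 2, 3, 2, 0],
  [1, 5, 0, 4, 5, 0, 0],
  [2, 4, 3, 2, 2, 1],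
  [5, 0, 4, 5],
  [2, 2, 0, 2, 2],
  [5, 1, 3, 1, 1, 5, 1],
  [3, 1, 1, 5, 5, 0],
  [2, 3, 4, 2, 4, 5, 1],
  [3, 5, 5, 5, 0, 5],
  [0, 5, 4, 0, 5, 3],
  [3, 1, 5, 1, 3],
  [0, 0, 5, 4, 3, 2],
  [5, 5, 4, 0, 4, 0],
  [5, 5, 0, 4, 2],
  [0, 2, 4, 0, 2, 1],
  [2, 4, 5, 0, 4],
  [1, 0, 5, 5, 5, 1],
  [0, 5, 4, 3],
  [0, 4, 5, 3, 1, 5, 0],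
  [4, 3, 2, 3, 2, 1],
  [3, 4],
  [2, 4, 3, 5, 1],
  [5, 5, 5, 1, 1, 0],
  [2, 2, 1, 2, 2, 1, 1],
  [5, 4, 3, 5, 3, 1, 3],
  [5, 4, 5, 3],
  [3, 5, 0, 1, 0, 1, 0],
  [0, 0, 5, 0, 2, 0, 0],
  [3, 4, 2, 2, 2, 1],
  [2, 1, 0, 5, 0],
  [2, 0, 5, 3],
  [2, 4, 2, 0, 0, 2],
  [3, 2, 1, 0, 5, 0, 2],
  [5, 1, 2, 0, 5],
  [5, 5, 1, 0, 4, 3],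
  [3, 1, 1, 3, 5, 0],
  [0, 2, 1, 2, 1, 2],
  [4, 2, 2, 1, 5, 1],
  [0, 4, 5, 5, 0, 2],
  [0, 5, 4, 3, 2, 3, 2],
  [2, 3, 1, 5, 0, 5],
  [2, 2, 0, 4, 3, 2, 0],
  [3, 4, 0, 2, 0],
  [2, 0, 4, 2, 2, 3],
  [4, 5, 0, 5, 4, 0, 0],
  [2, 0, 2, 4, 5, 5],
  [3, 2, 3, 2, 3],
  [0, 0, 2, 2, 1],
  [3, 4, 2, 3, 2],
  [3, 5, 3, 1, 5],
  [0, 2, 2, 4, 5, 5],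
  [0, 1, 0, 1, 5, 4],
  [5, 3, 1, 2, 1, 1, 0],
  [5, 0, 2, 0],
  [0, 0, 4, 0, 5, 4, 0],
  [5, 3, 2, 1, 0],
  [4, 5, 0, 2, 1, 2, 2],
  [1, 5, 5, 5, 1, 0],
  [3, 5, 0, 1, 3, 2, 0],
  [4, 0, 2, 0, 4, 5],
  [1, 3, 1, 1, 0, 5, 0],
  [4, 2, 1, 0, 2, 1, 0],
  [1, 2, 3, 1, 0, 2],
  [5, 0, 4, 5, 4, 0],
  [0, 0, 1, 1, 5, 1],
  [1, 1, 5, 4],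
  [4, 0, 0, 5, 1],
  [4, 0, 4, 5, 4, 3],
  [5, 1, 0, 5, 5],
  [4, 2, 0, 0, 2, 2],
  [0, 2, 2, 1, 5, 0],
  [4, 5, 0, 2, 0, 2],
  [4, 0, 5, 5, 1, 1],
  [4, 0, 4, 2, 0, 2],
  [2, 4, 3, 1, 0, 2],
  [1, 1, 0, 5, 0, 1],
  [0, 1, 3, 2, 3, 2],
  [2, 4, 5, 5, 3, 5, 0],
  [3, 1, 2, 1, 5, 0, 0],
  [5, 4, 0, 2, 4, 5, 0],
  [4, 5, 1, 3, 5, 1],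
  [2, 2, 3, 2, 3, 2],
  [5, 5, 5, 3, 1],
  [2, 3, 1, 1, 5],
  [5, 5, 1, 1, 0],
  [1, 5, 1, 0, 2, 0, 0],
  [3, 2, 4, 5, 0, 1, 3],
  [5, 1, 1, 5],
  [2, 3, 4, 0, 5, 1, 1],
  [0, 2, 0, 2, 2, 0],
  [3, 5, 4, 2],
  [5, 5, 0, 5, 0],
  [5, 1, 0, 1, 3, 2],
  [2, 1, 3, 5, 0, 5, 1],
  [2, 3, 5, 5, 0, 0],
  [2, 0, 1, 2, 1, 5],
  [4, 5, 0, 1],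
  [4, 5, 1, 5, 1, 3, 1],
  [0, 2, 0, 1, 5],
  [3, 1, 0, 2, 4],
  [2, 1, 3, 2, 2, 1, 1],
  [5, 3, 5, 0, 5, 0],
  [5, 3, 4, 3, 2, 0],
  [1, 5, 0, 2, 3, 1],
  [2, 0, 5, 5, 1, 5, 0],
  [2, 2, 2, 1, 5, 1],
  [2, 4, 2, 0, 2, 2],
  [2, 3, 5, 0, 5, 1, 0],
  [5, 4, 5, 5, 0, 2, 0],
  [2, 4, 0, 1, 0, 5],
  [1, 1, 2, 0, 2, 2, 2],
  [2, 4, 5, 5, 0, 0, 1],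
  [1, 2, 4, 0, 2, 3, 2],
  [4, 3, 1, 2, 3, 2],
  [3, 1, 5, 1, 0, 5],
  [3, 4, 0, 0, 1, 5, 0],
  [2, 3, 4, 5, 3, 1, 0],
  [1, 1, 5, 3, 1, 2, 1],
  [0, 4, 5, 5, 1, 2],
  [4, 3, 2, 1, 5, 3],
  [0, 0, 1, 5, 5, 1],
  [1, 0, 5, 4, 5, 0],
  [3, 1, 3, 2, 4, 0],
  [4, 0, 1, 2, 4, 0],
  [2, 4, 5, 5, 0, 0],
  [2, 2, 4, 5, 0],
  [0, 4, 3, 5, 0, 0],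
  [2, 3, 4, 2, 0, 1, 0],
  [2, 4, 5, 0, 5],
  [5, 3, 4, 0, 2],
  [5, 4, 5, 5, 4, 2],
  [4, 5, 1, 0, 1, 5, 0],
  [3, 1, 5, 4],
  [0, 5, 3, 1, 1, 2],
  [1, 1, 5, 0, 1, 3],
  [3, 5, 1, 1, 5, 0],
  [5, 1, 5, 5, 3, 2, 1],
  [3, 2, 4, 3, 5, 0],
  [3, 1, 3, 1, 5, 5],
  [1, 0, 4, 2, 1],
  [5, 5, 4, 3, 5, 3],
  [0, 5, 0, 4, 2, 1],
  [4, 5, 3, 1],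
  [4, 2, 2, 1],
  [1, 1, 2, 2, 0],
  [3, 1, 0, 2, 4, 0],
  [2, 1, 0, 0, 1, 2, 0],
  [1, 0, 1, 1],
  [0, 5, 3, 1, 2, 1],
  [3, 2, 2, 2, 1, 0],
  [4, 3, 2, 2, 4, 0],
  [3, 2, 0, 2, 2, 0],
  [3, 4, 3, 1, 2, 1, 1],
  [2, 2, 1, 5, 5, 1, 0],
  [0, 4, 0, 5, 5, 4],
  [3, 1, 3, 2, 1],
  [3, 4, 5, 5, 3, 2, 3],
  [1, 3, 5, 0, 5],
  [1, 0, 4, 5, 4],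
  [5, 0, 1, 0, 0, 5, 0],
  [5, 5, 5, 0, 1, 2, 1],
  [0, 5, 0, 2],
  [0, 0, 2, 1, 2, 3],
  [5, 3, 4, 5, 4, 5, 0],
  [1, 0, 4, 2, 4],
  [4, 0, 5, 5, 5, 4, 0],
  [4, 0, 0, 5, 0],
  [1, 3, 4, 0, 5],
  [1, 5, 5, 0, 1],
  [1, 0, 2, 4, 0, 1],
  [0, 2, 2, 4, 2, 2],
  [4, 2, 2, 2, 0, 1],
  [5, 5, 0, 1, 2, 2],
  [1, 1, 0, 1, 0, 5],
  [5, 0, 2, 3, 1, 2, 0],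
  [5, 4, 3, 2],
  [4, 5, 1, 3, 5, 1, 0],
  [5, 1, 1, 5, 1],
  [5, 0, 0, 5, 1, 5],
  [4, 5, 5, 0, 2, 1, 0],
  [1, 0, 2, 4, 2, 4],
  [3, 5, 0, 4, 5, 3],
  [1, 5, 0, 1, 1],
  [3, 4, 0, 4, 3, 5, 0],
  [4, 5, 1, 0, 1, 1, 2],
  [5, 0, 5, 3, 2],
  [3, 2, 4, 5, 0, 0],
  [1, 5, 1, 3, 4],
  [5, 0, 2, 2, 1, 0],
  [4, 2, 2, 3],
  [1, 1, 3, 1, 2, 0, 0],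
  [1, 3, 2, 3, 1, 5],
  [2, 4, 3, 1, 3, 5, 0],
  [5, 0, 4, 0, 5, 5, 0],
  [3, 4, 5, 5, 1, 0, 0],
  [2, 3, 2, 2, 4, 0],
  [3, 2, 0, 0, 2, 2],
  [0, 2, 0, 2, 4, 2],
  [2, 4, 2, 2, 2, 0],
  [0, 1, 5, 4, 5, 1],
  [3, 1, 1, 3, 5, 3],
  [0, 1, 0, 2, 3, 1],
  [2, 2, 2, 4, 0, 5, 1],
  [4, 3, 4, 5, 4, 3],
  [0, 2, 2, 3, 4, 0],
  [2, 2, 1, 0, 2, 2],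
  [0, 4, 0, 2, 0, 4, 0],
  [2, 3, 2, 3, 4, 5],
  [4, 3, 2, 2, 0, 0],
  [1, 5, 4, 5, 1],
  [0, 5, 4, 0],
  [5, 0, 5, 5, 4, 0],
  [2, 4, 2, 2],
  [3, 2, 4, 5, 4],
  [3, 2, 0, 4, 5, 0]]

/-- part 18 of the class -/
def vOrb18 : List (List ℕ) := [
  [0, 1, 3, 4, 0],
  [5, 3, 4, 3, 5, 0],
  [0, 1, 0, 5, 4, 3],
  [1, 2, 0, 1, 1, 5],
  [1, 3, 2, 0, 5, 5, 1],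
  [2, 4, 5, 5, 5, 1],
  [0, 1, 5, 5, 4, 5, 0],
  [1, 2, 4, 3, 2, 0],
  [4, 5, 5, 0, 0, 2, 0],
  [0, 4, 0, 4, 5],
  [4, 3, 5, 4, 0],
  [3, 5, 1, 3, 1],
  [5, 3, 5, 5, 5, 1],
  [0, 0, 5, 5, 5, 4],
  [1, 3, 2, 0, 4],
  [0, 5, 3, 5, 4, 2],
  [3, 1, 5, 1, 0, 0],
  [0, 0, 4, 2, 2],
  [5, 4, 0, 5, 4, 0, 2],
  [1, 5, 1, 2, 0],
  [2, 0, 1, 5, 0, 1, 0],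
  [5, 0, 1, 0, 5, 0, 0],
  [2, 1, 2, 1, 2],
  [4, 2, 3, 2],
  [0, 0, 4, 3, 4, 2, 2],
  [1, 3, 1, 5, 0, 0],
  [2, 3, 2, 0, 2, 1, 1],
  [4, 5, 1, 5, 4],
  [0, 5, 5, 1, 1, 0],
  [4, 5, 5, 3, 4, 0, 0],
  [2, 2, 2, 3, 2],
  [0, 5, 4, 5, 4, 0],
  [5, 3, 1, 1, 5],
  [5, 4, 3, 4, 5, 1],
  [4, 0, 4, 0, 5, 0],
  [4, 0, 4, 5, 0, 0],
  [2, 0, 2, 1, 5],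
  [5, 3, 2, 0, 1, 5, 0],
  [2, 2, 4, 2, 1],
  [1, 1, 2, 4, 3, 2],
  [2, 1, 5, 5, 5, 0],
  [0, 5, 0, 5, 0, 0],
  [2, 3, 2, 4, 2],
  [1, 2, 3, 2, 2],
  [5, 1, 2, 2, 2, 0, 2],
  [0, 2, 1, 0, 0],
  [1, 3, 1, 0, 5, 0],
  [5, 1, 2, 1, 0, 5],
  [5, 1, 5, 0, 1, 0],
  [2, 0, 2, 2, 3],
  [2, 1, 1, 3, 5, 5, 0],
  [4, 3, 5, 0, 5, 5],
  [4, 0, 5, 0, 5, 5],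
  [2, 3, 4, 0, 5, 0],
  [2, 0, 2, 0, 2, 0],
  [0, 0, 2, 4, 3, 2, 0],
  [2, 1, 3, 4, 0],
  [0, 4, 5, 1, 2],
  [2, 1, 0, 1, 5, 0],
  [0, 4, 5, 3, 2, 3],
  [0, 1, 5, 4, 0, 5],
  [4, 2, 0, 2],
  [2, 3, 1, 2, 4],
  [1, 5, 0, 5, 5],
  [3, 1, 3, 5, 0, 2],
  [2, 1, 0, 2, 0, 0],
  [2, 3, 1, 2, 0, 1, 0],
  [3, 5, 3, 4, 0, 5, 1],
  [2, 1, 1, 0, 0],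
  [0, 5, 5, 3],
  [2, 3, 1, 0, 2, 4],
  [2, 2, 2, 0],
  [4, 2, 0, 4, 5, 3],
  [5, 5, 0, 2, 1],
  [4, 0, 1, 0],
  [5, 1, 0, 5, 1],
  [1, 2, 2, 3, 1, 2, 0],
  [1, 5, 4, 0, 4, 2, 1],
  [0, 5, 5, 0, 2, 2, 0],
  [1, 2, 3, 1, 2, 2, 1],
  [4, 0, 5, 5, 4, 5, 3],
  [1, 1, 5, 3],
  [5, 0, 4, 2, 2],
  [0, 5, 4, 0, 1, 5],
  [3, 5, 3, 4, 0, 5, 0],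
  [0, 4, 3, 1, 1, 5],
  [2, 1, 3, 5, 0],
  [1, 3, 2, 0, 2, 1],
  [1, 1, 3, 5, 4],
  [5, 1, 5, 4, 5, 1],
  [0, 2, 0, 5, 0, 1],
  [2, 1, 2, 0, 1, 5],
  [0, 0, 2, 2, 2, 1],
  [1, 2, 2, 1, 5, 5],
  [1, 1, 5, 5, 0, 2, 0],
  [2, 1, 5, 4, 3, 1, 0],
  [5, 0, 2, 3, 2, 2],
  [4, 3, 1, 5, 1],
  [5, 0, 1, 5, 3, 5, 1],
  [0, 4, 5, 3],
  [5, 5, 0, 2, 4, 2],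
  [3, 4, 5, 1, 1, 5, 0],
  [3, 1, 1, 5, 1, 1],
  [4, 5, 0, 2],
  [2, 4, 0, 5, 3],
  [4, 2, 2, 4, 0, 5, 1],
  [2, 4, 5, 0, 5, 1],
  [4, 2, 4, 5, 1],
  [3, 2, 3, 5, 0, 5, 0],
  [5, 4, 5, 1, 1],
  [5, 3, 2, 1, 5, 0, 0],
  [5, 4, 0, 5, 0, 2],
  [5, 0, 1, 5, 0, 5, 0],
  [1, 3, 1, 5, 5, 4, 0],
  [4, 3, 2, 0, 2, 2],
  [3, 1, 0, 1, 2, 2],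
  [3, 2, 1, 0, 4],
  [1, 5, 5, 4, 5, 0],
  [4, 0, 4, 3, 2, 2],
  [2, 4, 5, 1, 0, 1, 0],
  [2, 3, 2, 1, 1, 0],
  [1, 0, 1, 2, 2, 0],
  [1, 1, 3, 2, 2],
  [4, 5, 5, 3, 4, 5],
  [1, 0, 1, 5, 5, 5, 4],
  [3, 2, 2, 2, 0, 2],
  [1, 2, 0, 1, 2, 1],
  [3, 2, 1, 1, 5],
  [3, 2, 3, 1, 5, 1, 0],
  [1, 0, 5, 5, 5, 0],
  [1, 0, 4, 2, 2, 4, 0],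
  [0, 1, 5, 0, 4],
  [3, 2, 1, 2, 2, 2],
  [0, 1, 5, 3, 4],
  [1, 5, 0, 5, 5, 3],
  [5, 0, 0, 2, 0],
  [4, 3, 5, 5, 1, 0, 0],
  [1, 1, 5, 5, 0, 4],
  [3, 2, 4, 5, 5, 4],
  [3, 1, 0, 5, 4, 5, 0],
  [5, 4, 5, 5, 4],
  [4, 5, 5, 3, 5, 5, 0],
  [0, 1, 0, 5, 3, 2],
  [0, 2, 2, 1, 5, 5],
  [2, 3, 2, 2, 0],
  [1, 2, 3, 1],
  [1, 2, 1, 0],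
  [2, 1, 3, 4, 3],
  [0, 0, 1, 2, 0],
  [5, 1, 2, 2, 0, 0],
  [1, 2, 1, 1, 0],
  [2, 0, 2, 3, 2, 0],
  [1, 2, 3, 4, 0],
  [2, 0, 1, 1, 3],
  [2, 3, 4, 3, 4],
  [2, 2, 4, 0, 1, 1],
  [2, 4, 3, 1, 1],
  [1, 2, 0, 4, 0, 0],
  [2, 4, 2, 2, 0],
  [4, 2, 2, 0, 2, 0],
  [5, 4, 2, 2, 1],
  [1, 2, 2, 0, 2, 0],
  [2, 4, 0, 1],
  [4, 5, 5, 4, 5],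
  [4, 2, 3, 4, 0],
  [1, 3, 1, 0, 2, 0, 0],
  [1, 2, 2, 2, 4],
  [0, 0, 2, 1, 1, 0],
  [1, 0, 0, 2],
  [0, 2, 2, 2, 0, 2, 0],
  [4, 5, 3, 1, 2, 1, 2],
  [0, 1, 2, 0, 1, 0],
  [0, 4, 0, 5, 3],
  [0, 1, 3, 5, 0, 5],
  [3, 4, 3, 5, 0, 4],
  [2, 3, 1, 5, 5, 5],
  [0, 0, 2, 2, 1, 0, 1],
  [4, 5, 5, 3, 2, 0, 1, 0],
  [2, 1, 1, 5, 1],
  [3, 2, 3, 1, 5, 5],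
  [2, 1, 0, 2, 3, 1],
  [4, 0, 2, 1, 5, 0],
  [0, 5, 0, 4, 5, 0, 0],
  [2, 1, 1, 0, 2, 2],
  [2, 3, 1, 1, 3],
  [4, 0, 2, 0, 2, 4, 3],
  [3, 1, 5, 1, 1, 3],
  [2, 0, 2, 3, 4, 0],
  [4, 0, 1, 3, 5, 4],
  [1, 5, 1, 3, 2, 4, 2],
  [1, 5, 4, 5, 5],
  [0, 2, 1, 0, 1],
  [5, 4, 5, 3, 1, 0],
  [5, 4, 3, 2, 0],
  [0, 2, 2, 1, 0, 0],
  [0, 5, 3, 2, 4, 2],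
  [1, 1, 2, 1],
  [0, 1, 5, 5, 3],
  [2, 3, 4, 3, 2, 4, 0],
  [4, 2],
  [5, 5, 3, 1, 2, 3],
  [1, 1, 0, 2, 4, 5, 0],
  [2, 3, 1, 5, 1],
  [4, 2, 2, 2, 4, 2],
  [0, 4, 2, 3, 2, 1, 0],
  [5, 3, 5, 1, 1],
  [1, 1],
  [3, 2, 1, 2, 4, 5],
  [5, 3, 5, 3, 2],
  [5, 0, 5, 1, 0],
  [3, 2, 2, 0, 4, 5],
  [3, 5, 0, 2, 4, 0],
  [3, 2, 1, 5, 4],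
  [1, 3, 5, 0, 2, 1],
  [4, 3, 5, 3, 1, 2, 0],
  [0, 1, 2, 3, 2],
  [1, 3, 4, 0, 1],
  [4, 5, 5, 4, 2, 1],
  [3, 2, 1, 5, 1, 1],
  [3, 5, 5, 0, 5],
  [5, 1, 0, 5, 3],
  [3, 2, 1, 0, 5, 1],
  [5, 5, 0, 1, 2, 3],
  [2, 2, 1, 5],
  [5, 5, 3, 4, 0, 1],
  [5, 5, 0, 2],
  [5, 5, 1, 1, 3],
  [0, 2, 3, 2, 0, 0],
  [3, 2, 2, 4, 2, 2, 0],
  [2, 3, 1, 2, 0, 1],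
  [4, 0, 2, 2, 4, 0],
  [3, 2, 2, 1, 0, 0],
  [3, 2, 0, 0, 2],
  [5, 5, 4, 0, 2, 0, 0],
  [3, 2, 4, 2, 1, 1],
  [2, 1, 3, 2, 2, 2],
  [5, 5, 5, 1, 5, 0],
  [4, 0, 2, 2, 1],
  [1, 2, 2, 2, 4, 0],
  [5, 5, 0, 0],
  [1, 5, 3, 1, 5],
  [1, 0, 4, 0, 0],
  [5, 0, 5, 3],
  [4, 0, 0, 2, 1, 5],
  [4, 3, 4, 5, 4, 0],
  [0, 1, 0, 5, 4, 0, 0],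
  [3, 4, 3, 4, 0],
  [3, 2, 1, 1, 0, 0, 2],
  [3, 2, 4, 2, 1],
  [0, 5, 0, 0, 5, 1],
  [3, 2, 1, 2, 1, 1],
  [3, 2, 1, 2, 1]]

/-- part 19 of the class -/
def vOrb19 : List (List ℕ) := [
  [0, 2, 0, 5, 5, 0, 0],
  [4, 3, 4, 5, 0, 4],
  [0, 1, 5, 0, 0, 4],
  [0, 1, 5, 0, 1, 1],
  [4, 0, 2, 1, 2, 2],
  [2, 3, 2, 0, 1, 5],
  [1, 3, 4, 5, 1, 0],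
  [5, 1, 1, 5, 3, 2],
  [1, 0, 5, 3, 2, 0],
  [1, 3, 2, 0, 0],
  [1, 3, 1, 0, 0, 2, 0],
  [3, 1, 0, 2],
  [0, 5, 5, 4, 0, 5],
  [1, 0, 5, 0, 2, 0],
  [4, 2, 0, 2, 3, 2],
  [5, 3, 5, 0, 1, 5],
  [4, 3, 4, 5],
  [0, 1, 0, 5, 3],
  [0, 1, 5, 1, 3, 4],
  [0, 2, 3, 5, 0, 2, 1],
  [4, 3, 4, 5, 1, 3],
  [3, 2, 1, 2, 4, 0],
  [1, 3, 4, 5, 0, 0],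
  [0, 1, 5, 0, 0],
  [2, 1, 3, 2, 3, 2, 2],
  [0, 4, 3, 5, 4, 5],
  [3, 1, 1, 3],
  [3, 2, 4, 2, 0, 2],
  [4, 0, 5, 0],
  [0, 5, 3, 1, 5, 1],
  [4, 5, 3, 5, 5, 0],
  [3, 2, 4, 0, 1, 5, 0],
  [5, 5, 5, 0, 2, 0],
  [5, 1, 3, 2, 2, 0, 1],
  [2, 2, 2, 3, 4, 3],
  [5, 5, 3],
  [5, 0, 5, 4, 0],
  [5, 0, 0, 2, 1, 1],
  [5, 1, 5, 1],
  [5, 1, 5, 3, 4, 0, 1],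
  [5, 5, 4],
  [5, 4, 3, 4, 5, 3],
  [5, 0, 2, 3, 4, 2, 1],
  [4, 5, 1, 1, 0, 0],
  [4, 5, 5, 4, 5, 0, 1],
  [5, 0, 1, 2, 2, 1],
  [4, 5, 0, 2, 0, 2, 0],
  [0, 0, 2, 2, 2, 1, 0],
  [0, 1, 3, 4, 2, 2],
  [5, 1, 5, 5, 0, 0, 1],
  [2, 1, 1, 3, 4, 5, 0],
  [2, 3, 4, 5, 1, 1, 3],
  [2, 0, 1, 2, 1, 3],
  [0, 4, 3, 5, 4, 0],
  [2, 1, 5, 5, 1, 0],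
  [2, 3, 4, 2, 1],
  [1, 1, 3, 5, 1],
  [2, 2, 2, 1, 5, 4, 0],
  [4, 3, 4, 5, 5, 0, 0],
  [1, 2, 2, 0, 2, 0, 0],
  [2, 0, 1, 0],
  [3, 2, 0, 0, 1, 5],
  [5, 5, 0, 1, 0],
  [2, 4, 5, 1, 1],
  [0, 2, 2, 2, 0, 2],
  [4, 0, 2, 0, 1, 1],
  [0, 5, 0, 0],
  [4, 2, 0, 2, 2, 4],
  [2, 3, 5, 5, 0],
  [5, 0, 1, 2, 4, 5],
  [1, 3, 1, 5, 3, 2],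
  [0, 5, 5, 4, 2],
  [4, 5, 3, 2, 0],
  [4, 2, 3, 1, 1, 0],
  [5, 5, 5, 1, 3, 2],
  [0, 2, 4, 0, 1, 2],
  [5, 0, 5, 0, 5],
  [2, 0, 0, 1, 3, 5, 0],
  [3, 5, 5, 4, 3],
  [5, 4, 0, 1, 1],
  [0, 4, 5, 4, 5, 4],
  [1, 5, 1, 3, 5, 0],
  [3, 2, 1, 5],
  [2, 1, 0, 4, 5],
  [1, 1, 0, 2, 0],
  [1, 3, 2, 0],
  [2, 2, 1, 2, 1, 1],
  [4, 3, 4, 5, 1, 0, 0],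
  [2, 3, 4, 3, 5, 1],
  [1, 0, 5, 1, 5, 1, 0],
  [4, 0, 4, 0, 1, 5],
  [3, 5, 5, 1, 3, 4],
  [3, 2, 2, 2],
  [4, 3, 4, 5, 5, 0],
  [5, 3, 2, 1, 5],
  [1, 0, 1, 5, 5],
  [0, 2, 4, 5, 5, 4, 0],
  [1, 3, 5, 4, 2, 2],
  [1, 0, 0, 5, 3, 5, 0],
  [4, 5, 0, 2, 2, 3],
  [4, 5, 0, 5, 0, 2],
  [2, 0, 4, 3, 5, 0],
  [0, 4, 2, 2, 0, 2],
  [2, 1, 2, 1, 5, 0],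
  [2, 1, 1, 3, 5, 0],
  [5, 0, 2, 4, 2, 2],
  [5, 5, 4, 0, 1, 1],
  [1, 5, 1, 5, 0, 1],
  [5, 1, 5, 1, 1, 3],
  [0, 1, 5, 0, 0, 1],
  [2, 2, 1, 2],
  [2, 2, 0, 1, 2, 0],
  [1, 5, 5, 1, 5, 5, 1],
  [2, 4, 3, 4, 2, 0, 0],
  [1, 5, 4, 0, 0],
  [5, 5, 5, 0, 1, 3],
  [0, 2, 2, 4, 2],
  [1, 3, 1, 0, 2, 2],
  [1, 0, 2, 3, 1, 0, 0],
  [1, 0, 1, 3, 2, 1],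
  [5, 4, 5, 5, 3],
  [2, 2, 2, 0, 0, 1],
  [2, 3, 5, 3, 1, 5],
  [5, 5, 1, 3, 5, 1],
  [3, 5, 0, 2, 1, 1, 0],
  [1, 3, 1, 5],
  [0, 4, 5, 1, 5, 3],
  [2, 4, 0, 0, 1, 5],
  [3, 2, 1, 0, 0],
  [4, 0, 5, 5, 5, 1, 2],
  [1, 0, 5, 4, 5],
  [2, 2, 2, 3, 2, 0, 0],
  [5, 0, 2, 0, 1, 5],
  [5, 1, 5, 1, 1, 0],
  [1, 5, 0, 4, 5],
  [2, 2, 0, 0, 2, 2],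
  [4, 5, 3, 5, 1],
  [2, 2, 2, 1, 1],
  [2, 3, 4, 2, 0, 2],
  [3, 2, 2, 2, 4, 3],
  [2, 3, 2, 0, 1, 2],
  [2, 3, 1, 5, 5],
  [3, 1, 0, 5, 1, 1],
  [5, 4, 0, 5, 5, 0, 2],
  [2, 4, 3, 2, 2],
  [2, 1, 2, 0, 1, 0],
  [4, 0, 4, 0, 5, 0, 0],
  [3, 2, 3, 1, 1, 0],
  [4, 2, 2, 4, 2, 4],
  [0, 0, 4, 0, 5, 0],
  [2, 2, 0, 2],
  [2, 4, 0, 0, 2, 2],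
  [5, 1, 5, 3, 4],
  [5, 3, 5, 0, 0, 1],
  [5, 1, 1, 5, 5, 0],
  [5, 0, 4, 5, 5, 0],
  [5, 5, 4, 0, 2, 2],
  [0, 1, 3, 4, 0, 5],
  [5, 5, 3, 2, 2, 0, 0],
  [0, 5, 5, 1, 3],
  [5, 0, 2, 3, 4, 5, 1],
  [2, 2, 2, 0, 4],
  [3, 1, 0, 4, 2, 1],
  [4, 2, 4, 2, 1, 2, 0],
  [4, 2, 1, 2, 3],
  [2, 2, 1, 1, 3],
  [4, 5, 0, 1, 2, 0],
  [0, 2, 2, 3, 5, 3],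
  [3, 1, 5, 3, 1, 3],
  [4, 0, 4, 5],
  [3, 1, 5, 3],
  [1, 0, 2, 2, 1, 0],
  [3, 4, 5, 5, 0, 2],
  [2, 3, 5, 5],
  [1, 3, 5, 0, 2],
  [2, 2, 3, 1, 0, 2],
  [4, 2, 3, 1, 5],
  [1, 0, 1, 0, 2, 2],
  [4, 5, 1, 5, 0],
  [1, 3, 2, 4, 3],
  [3, 5, 5, 1, 0, 5, 0, 0],
  [3, 2, 4, 2, 1, 5],
  [3, 1, 1, 5, 1],
  [1, 2, 0, 4, 2, 1],
  [2, 3, 5, 5, 0, 4],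
  [1, 0, 2, 4, 5, 1, 0],
  [5, 1, 1, 0, 4, 2, 1],
  [1, 0, 1, 5, 4, 5],
  [2, 0, 0, 2, 0, 0, 2],
  [1, 0, 1, 2, 2, 0, 0],
  [5, 1, 5, 0, 2, 1, 1],
  [1, 0, 2, 0, 4, 0],
  [5, 4, 3, 2, 4, 3],
  [0, 4, 0, 4, 3],
  [2, 2, 0, 1, 5, 1],
  [2, 1, 5, 1, 5, 1],
  [3, 2, 1, 1, 0],
  [1, 0, 0, 5, 0, 2],
  [4, 3, 5, 0, 4, 0, 0],
  [4, 2, 1, 5, 1, 0],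
  [3, 2, 4, 0, 1, 3],
  [4, 5, 1, 1, 0],
  [1, 1, 3, 4, 5, 0],
  [3, 1, 0, 1, 0, 2, 2],
  [2, 0, 0, 2, 0],
  [1, 2, 1, 0, 0, 2],
  [1, 1, 2, 2, 3, 1],
  [2, 1, 2, 4, 0],
  [4, 3, 4, 2, 1, 0, 2],
  [1, 0, 2, 0, 0, 1],
  [3, 1, 5, 5, 5, 3],
  [3, 5, 3, 1, 3, 2],
  [5, 1, 2, 1, 5, 1],
  [1, 1, 5, 3, 1, 3],
  [3],
  [4, 0, 4, 0, 2, 1],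
  [3, 5, 5, 5, 1, 2, 1],
  [5, 3, 1, 1, 2, 0, 0],
  [2, 0, 4, 3, 2, 4, 0],
  [5, 5, 5, 3, 2],
  [5, 3, 1, 5, 0, 5],
  [1, 3, 5, 5, 0, 1, 0],
  [0, 5, 4, 5, 3],
  [0, 2, 4, 0, 2, 2],
  [5, 5, 4, 5, 4, 3],
  [5, 3, 5, 1, 1, 5],
  [3, 5, 3, 5, 1],
  [2, 3, 1, 0, 2, 0],
  [3, 5, 5, 1, 0, 5],
  [1, 1, 3, 2, 2, 1],
  [0, 5, 4, 0, 5, 1],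
  [1, 0, 5, 1, 3, 2],
  [3, 1, 0, 0, 5, 1],
  [2, 1, 3, 1, 5, 1],
  [1, 0, 4, 2, 2, 0, 0],
  [2, 4, 2, 3, 1, 0, 2],
  [1, 0, 2, 1, 5, 4, 0],
  [1, 3, 4, 2, 0, 2],
  [2, 0, 2, 1, 0, 4],
  [2, 1, 5, 1, 1],
  [3, 2, 0, 4, 5],
  [2, 1, 3, 2, 4, 5],
  [2, 4, 3, 5, 0],
  [5, 0, 4, 5, 1, 1],
  [2, 0, 5, 4, 0, 5],
  [2, 1, 5, 4, 3],
  [3, 1, 5, 0, 1, 3],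
  [2, 1, 0, 5, 0, 2],
  [3, 1, 5, 0],
  [2, 4, 0, 4, 5, 0],
  [4, 0, 5, 5, 0],
  [0, 0, 5, 5, 4, 0, 5]]

/-- part 20 of the class -/
def vOrb20 : List (List ℕ) := [
  [2, 4, 3, 5, 4, 0, 0],
  [3, 2, 1, 5, 5, 4, 0],
  [2, 0, 1, 5, 4, 0],
  [1, 5, 1, 0, 5],
  [5, 4, 0, 5, 5, 0],
  [3, 1, 0, 5],
  [5, 5, 0, 5, 1],
  [2, 0, 1, 0, 5, 0],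
  [0, 5, 0, 2, 2],
  [1, 1, 3, 2, 2, 0, 1],
  [0, 2, 2, 2, 1, 0],
  [0, 2, 1, 3, 2, 0],
  [2, 0, 0, 5, 1, 1],
  [2, 4, 0, 4, 0, 5],
  [1, 0, 2, 3, 1],
  [3, 2, 3, 2, 1, 3, 1],
  [2, 4, 0, 0, 1, 5, 0],
  [4, 5, 0, 5, 1, 1],
  [3, 2, 2, 2, 3],
  [1, 5, 0, 5, 4, 2],
  [3, 5, 5, 1, 5, 5],
  [4, 2, 0, 1, 1],
  [5, 5, 5, 4, 5, 0, 1],
  [4, 0, 1],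
  [5, 4, 5, 0, 0, 1],
  [1, 3, 4, 0, 2, 2],
  [5, 4, 2],
  [1, 2, 4],
  [4, 3, 2, 3, 1],
  [4, 3, 4, 2, 0, 0, 1],
  [4, 2, 1, 3, 4],
  [4, 5, 0, 5],
  [0, 2, 4, 2, 0, 2],
  [4, 5, 5, 3, 1],
  [3, 2, 0, 2, 3, 1],
  [0, 4, 3, 2, 2, 2],
  [2, 0, 5, 0, 1],
  [0, 0, 2, 1, 1],
  [2, 0, 0, 4, 5, 0],
  [2, 1, 1, 5, 5, 1, 0],
  [0, 5, 1, 5, 5, 0],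
  [1, 2, 1, 0, 4],
  [4, 3, 1, 1, 5],
  [1, 3, 2, 4, 0],
  [3, 1, 1, 2, 0, 2],
  [5, 3, 2, 4, 5, 1],
  [2, 2, 4, 2, 1, 1],
  [2, 4, 3, 5, 0, 0],
  [3, 5, 5, 0, 1, 5, 1],
  [5, 0, 2, 1],
  [4, 0, 2, 4, 0],
  [2, 0, 4],
  [4, 3, 1, 1, 2, 1],
  [2, 2, 1, 0, 2],
  [5, 5, 1, 5, 3],
  [5, 0, 0, 2, 4, 5, 0],
  [4, 5, 1, 3],
  [1, 5, 1, 1, 3],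
  [4, 2, 0, 4, 5, 4],
  [1, 0, 2, 1],
  [2, 1, 3, 5, 5, 0],
  [0, 1, 1, 5, 0, 0, 1],
  [2, 4, 3, 4, 5, 0],
  [4, 3, 4, 5, 5],
  [5, 1, 2, 0, 1, 0],
  [5, 0, 1, 2],
  [3, 1, 5, 5, 1],
  [2, 1, 0, 2, 4, 0],
  [1, 5, 5, 3, 2, 1, 1],
  [5, 4, 2, 3, 2, 2],
  [1, 2, 1, 3, 5, 1],
  [0, 2, 4, 2, 2, 0, 0],
  [4, 2, 2, 4, 5, 0],
  [0, 1, 3, 1, 0, 5],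
  [0, 4, 3, 2, 1],
  [1, 5, 3, 1, 2, 1],
  [3, 2, 3, 4, 0],
  [5, 5, 0, 4, 2, 1],
  [4, 5, 3, 4, 0, 2],
  [0, 5, 5, 4, 0],
  [5, 5, 4, 5, 5, 4, 0],
  [0, 2, 2, 2, 4, 5, 3],
  [1, 0, 1, 5, 3, 2, 1],
  [1, 5, 3, 4, 2, 0, 2],
  [0, 5, 4, 5, 0],
  [1, 2, 0, 2, 2, 2],
  [0, 4, 5, 4, 5, 0],
  [1, 2, 3, 2, 0, 0],
  [2, 4, 0, 2, 3, 2],
  [0, 1, 1, 3, 2, 1],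
  [1, 5, 0, 1, 2, 2],
  [1, 5, 0, 2, 2, 0, 0],
  [1, 1, 0, 1, 2, 4, 0],
  [4, 0, 0, 1, 5, 5, 1],
  [3, 2, 1, 2, 2, 0],
  [1, 5, 3, 1, 5, 5],
  [2, 4, 2, 3, 4, 0],
  [4, 0, 0, 1, 0, 5, 0],
  [5, 4, 3, 2, 2, 2],
  [2, 0, 0, 2, 0, 1],
  [1, 2, 2, 3, 2, 0, 0],
  [5, 5, 5, 1, 0, 0],
  [5, 4, 2, 1, 5, 3],
  [5, 0, 0, 1, 3, 2],
  [1, 1, 0, 5, 1, 0, 2],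
  [2, 0, 2, 2, 4, 2, 2],
  [5, 5, 0, 5, 3, 2],
  [0, 0, 1, 0, 5, 3],
  [5, 4, 3, 5, 1],
  [2, 1, 2, 0, 0, 2],
  [5, 0, 4, 0, 2, 3, 2],
  [5, 3, 1, 5, 0, 2, 0],
  [3, 1, 3, 5, 0, 0],
  [5, 3, 2, 1, 5, 4],
  [5, 5, 3, 5, 1, 0],
  [3, 2, 3, 5, 0, 5],
  [3, 1, 2, 1, 5],
  [4, 2, 2, 0, 0],
  [3, 1, 5, 5, 5],
  [5, 1, 2, 0, 1, 5, 0],
  [4, 5, 5, 0, 2, 1],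
  [5, 4, 0, 4, 2, 1],
  [1, 5, 3],
  [2, 0, 0, 5, 3],
  [1, 3, 5, 4],
  [4, 5, 1, 0, 5, 1],
  [0, 1, 2, 1, 0, 2],
  [2, 2, 3, 1, 2, 0],
  [0, 2, 1, 5, 0, 0],
  [1, 5, 5, 0, 2, 0],
  [3, 2, 0, 2, 1],
  [2, 4, 3, 2, 0, 1],
  [5, 0, 4, 0, 5],
  [2, 3, 1, 2, 2, 1],
  [2, 4, 0, 1, 2, 0, 1],
  [4, 5, 0, 4, 2, 2],
  [3, 1, 2, 0, 2, 1],
  [3, 1, 3, 4, 5, 1],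
  [1, 1, 0, 1, 0],
  [2, 2, 1, 5, 5],
  [3, 4, 3, 5, 5, 1],
  [4, 2, 1, 3, 5, 0],
  [5, 5, 1, 0, 5, 0, 0],
  [0, 4, 2, 1, 0, 2, 0],
  [0, 0, 2, 0, 1, 1],
  [2, 3, 2, 1],
  [0, 2, 2, 3, 1, 1, 0],
  [3, 2, 3, 2, 1, 0],
  [5, 3, 5, 3],
  [2, 2, 4, 5, 5, 3, 4],
  [1, 2, 1, 2, 4, 3],
  [1, 3, 1, 2, 1],
  [1, 3, 5, 0, 1, 0, 1],
  [5, 1, 0, 5, 4, 5],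
  [2, 2, 0, 5, 3],
  [3, 4, 3, 2, 2, 1],
  [1, 2, 0, 2, 0, 2, 1],
  [3, 2, 4, 5, 1, 1],
  [2, 0, 0, 1, 1, 5, 1],
  [1, 1, 5, 5, 0],
  [5, 0, 4, 0, 1, 5],
  [0, 1, 3, 5, 0, 2],
  [1, 2, 2, 3, 5, 3],
  [0, 4, 5, 1, 1],
  [5, 5, 0, 2, 0, 4],
  [1, 3, 2, 0, 1],
  [3, 5, 0, 5, 3, 5, 0],
  [4, 0, 1, 5, 1, 2],
  [2, 0, 1, 3],
  [5, 4, 2, 0, 1, 0],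
  [5, 5, 0],
  [5, 1, 5, 1, 3],
  [3, 2, 0, 1, 2, 0],
  [4, 0, 2, 0, 4, 5, 4],
  [4, 2, 0, 2, 0, 2, 1],
  [4, 3, 2, 0, 1],
  [5, 1, 5, 5, 0],
  [5, 3, 1, 2, 2, 3],
  [3, 4, 2, 4, 0, 5, 0],
  [0, 1, 5, 3, 4, 5],
  [2, 2, 3, 4, 0, 2],
  [5, 0, 2, 2, 4, 0],
  [2, 0, 5, 4, 5, 0],
  [4, 2, 2, 2, 0, 0],
  [4, 5, 0, 2, 1, 0, 0],
  [2, 4, 5, 4, 5, 1, 0],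
  [1, 0, 5, 5, 4, 2],
  [0, 2, 1, 5, 1, 3],
  [1, 2, 0, 1, 0],
  [4, 3, 5, 1],
  [1, 3, 5, 5, 4, 3],
  [2, 0, 2, 2, 4],
  [1, 0, 5, 0, 0],
  [3, 1, 3, 1, 2, 0],
  [4, 2, 4, 5],
  [3, 1, 2, 0, 0, 2, 2],
  [1, 2, 1, 0, 4, 5],
  [3, 5, 0, 1, 5, 1],
  [2, 1, 3, 5, 0, 0],
  [5, 4, 3, 4, 5, 1, 0],
  [0, 4, 5, 5, 4, 5],
  [0, 5, 1, 1, 0, 5],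
  [3, 5, 1, 3, 4, 5],
  [3, 4, 5, 5, 0, 0],
  [1, 5, 0, 5, 0, 5],
  [2, 3, 1, 1, 0],
  [5, 5, 0, 4, 2, 2],
  [3, 4, 2, 2, 2],
  [5, 5, 0, 0, 5, 1, 0],
  [5, 3, 2, 0],
  [0, 5, 1, 0, 5, 1],
  [1, 5, 5, 0, 1, 0],
  [0, 0, 2, 0, 2, 1],
  [5, 0, 5, 4, 3, 2, 2],
  [0, 2, 0, 1, 1],
  [1, 3, 2, 1, 5],
  [0, 2, 2, 4, 3],
  [3, 4, 5, 1, 0, 2],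
  [5, 4, 0, 2, 2, 1],
  [0, 2, 2, 2, 0],
  [1, 1, 0, 2, 1, 0, 0],
  [0, 4, 2, 3, 1, 1],
  [0, 2, 4, 2, 2, 0],
  [5, 5, 5, 1, 0, 4],
  [1, 2, 2, 0, 2, 4, 0],
  [4, 2, 3, 2, 2],
  [2, 4, 3, 2],
  [0, 2, 0, 4, 3, 2],
  [2, 3, 4, 5, 3, 5, 0],
  [1, 2, 2, 0, 1, 2, 1],
  [4, 0, 2, 0, 4, 3],
  [2, 0, 2, 2, 4, 2],
  [5, 1, 3, 5, 0, 5],
  [1, 0, 4, 5, 0, 0],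
  [3, 2, 4, 0, 0, 2],
  [4, 3, 1, 0, 5, 0],
  [2, 0, 4, 3, 2, 0],
  [5, 3, 2, 2],
  [0, 0, 5, 5, 5],
  [1, 5, 1, 5, 4],
  [4, 5, 1, 0, 5],
  [5, 3, 1, 0, 5],
  [5, 1, 5, 0, 2, 0],
  [2, 1, 2, 0, 2, 4, 2],
  [2, 4, 0, 5, 4, 0, 0],
  [1, 5, 5, 3, 1],
  [1, 2, 2, 2, 0, 4, 2],
  [5, 1, 5, 0, 5, 1],
  [0, 1, 5, 5, 1],
  [4, 3, 2, 1, 1, 3],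
  [3, 1, 3, 4, 5, 4, 0],
  [2, 4, 3, 5, 5, 5, 1]]

/-- part 21 of the class -/
def vOrb21 : List (List ℕ) := [
  [5, 1, 2, 1, 1],
  [2, 1, 3, 2, 0, 1],
  [2, 3, 5, 4],
  [5, 3, 1, 0, 2, 1],
  [1, 2, 1, 3, 1, 5],
  [4, 0, 2, 3, 1],
  [3, 1, 5, 3, 2, 3, 2],
  [1, 5, 0, 5],
  [4, 0, 5, 5, 4],
  [1, 2, 1, 3, 4],
  [0, 1, 2, 4, 5, 1, 0],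
  [1, 0, 1],
  [4, 0, 5, 1, 3],
  [0, 2, 0, 4, 3, 2, 0],
  [3, 1, 2, 0, 0, 2],
  [4, 2, 4],
  [1, 3, 2, 3, 1],
  [3, 5, 5, 0, 2, 4, 0],
  [0, 5, 5, 0, 2, 2],
  [2, 0, 2, 2],
  [1, 2, 0, 1, 1],
  [3, 2, 2, 0, 1],
  [2, 0, 2, 0, 5, 5, 0],
  [0, 4, 5, 0, 1, 5, 0],
  [0, 5, 1, 3, 4, 5],
  [2, 1, 1, 5, 1, 1],
  [2, 0, 4, 2, 2, 2],
  [2, 4, 5, 0, 5, 0, 0],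
  [2, 2, 4, 5, 5, 4],
  [4, 5, 4, 5, 3, 1, 0],
  [5, 5, 3, 1, 1],
  [5, 4, 0, 2, 0],
  [0, 5, 1, 5, 0, 0],
  [5, 5, 4, 5, 4, 0, 0],
  [2, 1, 5, 0, 4],
  [4, 0, 4, 0, 5, 3],
  [3, 5, 0, 2, 2, 3, 1],
  [1, 2, 1],
  [5, 4, 0, 1, 2, 3],
  [5, 5, 1, 5, 0, 2],
  [3, 4, 2, 2, 2, 3, 2],
  [5, 4, 5, 5],
  [2, 1, 5, 0, 1],
  [2, 2, 1, 0, 2, 0],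
  [2, 3, 1, 2, 4, 0],
  [1, 5, 1, 0, 4, 2, 1],
  [2, 1, 5, 5],
  [4, 2, 0, 2, 3, 4, 0],
  [1, 0, 2, 4, 5, 0],
  [0, 5, 0, 1, 5, 1],
  [0, 2, 2, 4, 3, 2, 2],
  [0, 1, 2, 1, 1, 0, 0],
  [2, 4, 0, 5, 5, 3],
  [4, 0, 1, 5, 5, 3],
  [5, 4, 3, 5, 0, 5, 0],
  [1, 1, 2],
  [0, 0, 2],
  [3, 5, 4, 0, 2, 2],
  [0, 2, 2, 1, 0, 4, 0],
  [5, 1, 3, 2, 4, 2],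
  [3, 4, 0, 5, 4, 3],
  [3, 2, 2, 4, 0, 1],
  [5, 3, 4, 5, 3, 5, 0],
  [5, 3, 5, 5, 5, 3],
  [2, 2, 0, 1, 5, 4],
  [2, 0, 1, 3, 5, 4],
  [3, 2, 3, 5, 5, 1],
  [5, 4, 5, 4, 3, 2, 1],
  [5, 5, 3, 5, 0, 5],
  [3, 5, 5],
  [1, 5, 1, 5, 5, 5, 1],
  [2, 2, 1, 3, 1, 0, 0],
  [4, 2, 1, 0, 2],
  [5, 1, 0, 5, 3, 2],
  [5, 0, 0, 2, 1, 5],
  [0, 2, 0, 2, 2, 0, 0],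
  [5, 0, 4, 3, 2, 0],
  [1, 5, 5, 1, 0],
  [0, 0, 1, 1, 5, 0],
  [0, 0, 4, 3],
  [1, 5, 0, 1, 3, 2, 0],
  [2, 2, 4, 0, 1, 0],
  [3, 5, 4, 0, 5, 1],
  [1, 5, 1, 3, 5, 3],
  [3, 4, 2, 1],
  [3, 4, 2, 4],
  [5, 0, 1, 1, 5, 3, 2],
  [2, 2, 1, 5, 4, 0],
  [4, 5, 0, 0, 1, 0],
  [5, 5, 0, 5, 1, 0, 1],
  [3, 1, 3, 4],
  [4, 3, 4, 0],
  [4, 5, 5, 5, 0, 2],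
  [2, 1, 5, 0],
  [3, 1, 5, 1, 1],
  [3, 5, 3, 4, 0, 2],
  [4, 5, 4, 0, 5],
  [3, 5, 0, 1, 5, 5, 0],
  [0, 0, 2, 1],
  [0, 1, 2, 2, 1, 5, 0],
  [5, 3, 4],
  [1, 5, 4, 0, 5],
  [0, 2, 2, 1, 2, 3],
  [1, 3, 2, 1, 0],
  [2, 2, 3, 1, 3, 4],
  [3, 2, 2, 3],
  [1, 2, 2, 1, 1],
  [2, 2, 4, 0, 0, 4],
  [2, 1, 5, 5, 1, 2, 1],
  [4, 0, 0, 5, 5, 0, 2],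
  [2, 1, 1, 2, 1, 0, 0],
  [1, 5, 4, 2, 2],
  [1, 1, 5, 4, 5, 0],
  [5, 4, 5, 0],
  [1, 5, 0, 4, 5, 3],
  [0, 2, 4, 2, 1, 2],
  [2, 4, 5, 4, 0, 4],
  [5, 3, 4, 2, 2, 1],
  [5, 5, 5, 0, 2, 1],
  [2, 2, 4, 2, 0, 2],
  [2, 1, 5, 3, 4],
  [0, 5, 1, 3, 1, 0],
  [1, 0, 1, 2, 4, 5, 1],
  [3, 1, 0, 2, 1, 0, 0],
  [0, 0, 4, 2, 2, 2],
  [3, 2, 0, 1, 5, 0],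
  [1, 1, 5, 3, 4],
  [2, 1, 1, 3, 4, 0, 0],
  [2, 0, 1, 1, 5, 1, 3],
  [1, 0, 4, 2],
  [5, 5, 1, 0, 4],
  [1, 2, 4, 0, 5],
  [2, 3, 5, 1, 1],
  [3, 2, 0, 0, 2, 0],
  [1, 1, 3, 5, 3],
  [4, 3, 4, 0, 1, 2],
  [4, 0, 4, 0, 0, 2],
  [0, 0, 1, 0, 2, 0, 0],
  [1, 3, 5, 0, 1, 3],
  [0, 1, 1, 2],
  [4, 0, 2, 2, 1, 1],
  [2, 4, 5, 3, 1, 5, 1],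
  [3, 2, 3, 2, 0],
  [0, 1, 0, 5, 0],
  [2, 2, 1, 5, 5, 1, 3],
  [4, 3, 4, 0, 5, 0],
  [4, 0, 2, 3, 2, 1, 1],
  [4, 3, 1, 2, 0],
  [5, 1, 0, 2, 2, 1, 0],
  [0, 1, 2, 3],
  [3, 2, 2, 0],
  [3, 1, 0, 1],
  [1, 0, 4],
  [2, 3, 4, 2, 2, 2, 0],
  [4, 5, 5, 1, 0, 0],
  [2, 4, 3, 2, 1, 0, 1],
  [5, 0, 5, 0, 2, 1, 0],
  [4, 5, 5, 3, 1, 0, 0],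
  [2, 1, 0, 0, 5, 1],
  [1, 5, 5, 3, 5, 3],
  [4, 5, 1, 5, 3, 5, 0],
  [4, 2, 2, 2, 1],
  [5, 3, 4, 5],
  [2, 3, 1, 0, 5],
  [0, 5, 0, 5, 1, 5],
  [2, 4, 5, 4, 5, 1],
  [4, 3, 5, 0, 2, 1, 0],
  [5, 3, 5, 5, 0, 4],
  [0, 5, 5, 0, 2],
  [0, 2, 4, 3, 5, 0],
  [5, 0, 5, 0, 2, 0],
  [5, 3, 5, 5, 0, 1, 0],
  [5, 0, 2, 2, 1, 2, 3],
  [0, 1, 2, 0, 1, 1],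
  [0, 1, 1, 5, 4, 0, 0],
  [0, 2, 0, 1, 5, 5],
  [4, 0, 0, 4, 5, 0],
  [5, 5, 1, 3, 2, 1],
  [5, 0, 2, 2, 2],
  [2, 2, 3, 1, 5],
  [3, 5, 4, 5, 5, 3],
  [4, 5, 5, 0, 1],
  [3, 4, 5, 5, 4, 0, 0],
  [0, 4, 3, 4, 2, 2],
  [5, 3, 1, 1, 5, 0, 2],
  [5, 0, 0, 1, 1],
  [0, 2, 2, 1, 0, 4],
  [5, 0, 1, 0, 5, 1],
  [4, 0, 2, 4, 0, 1],
  [2, 2, 4, 0, 4, 0],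
  [0, 5, 0, 1, 0],
  [5, 4, 0, 0, 5, 1, 0],
  [3, 5, 5, 3, 1, 3],
  [0, 1, 0, 5],
  [5, 3, 5, 0, 5, 0, 2],
  [5, 4, 0, 5, 0],
  [4, 5, 3, 1, 0, 1, 0],
  [2, 2, 1, 5, 0],
  [2, 1, 2, 4, 2, 2],
  [5, 0, 5, 0, 0],
  [4, 0, 5, 5, 1, 5],
  [3, 5, 5, 3, 5, 4],
  [3, 5, 0, 5, 3],
  [4, 2, 3, 1, 5, 1, 0],
  [4, 3, 4, 0, 5],
  [2, 4, 5, 0],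
  [4, 2, 4, 0, 4, 5, 3],
  [0, 1, 2, 1, 0, 0],
  [1, 2, 2, 3],
  [2, 1, 0, 5, 3],
  [5, 1, 0, 4, 0],
  [3, 1, 2, 0, 0],
  [2, 0, 2, 4, 5, 5, 0],
  [2, 2, 0, 2, 2, 4],
  [2, 0, 2, 0, 1, 1],
  [2, 3, 1, 2, 3],
  [2, 0, 2, 1, 2, 1],
  [0, 2, 1, 1, 0, 0],
  [2, 0, 2, 4, 2],
  [5, 3, 5, 1],
  [3, 2, 1, 2, 2],
  [2, 0, 2, 1, 2],
  [3, 4, 0, 5, 5],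
  [4, 5, 5, 3, 4],
  [4, 3, 2, 3, 4, 3],
  [3, 2, 2, 1, 3, 5, 0],
  [3, 1, 5, 1, 3, 4],
  [3, 2, 2, 1, 2, 4],
  [2, 1, 5, 3, 5, 1],
  [1, 3, 2, 1, 0, 0],
  [4, 5, 3, 2, 1, 1, 2],
  [1, 1, 3, 1, 5],
  [2, 2, 2, 1, 2, 2],
  [5, 1, 3, 5, 0, 0],
  [1, 3, 1, 0, 5, 1, 1],
  [5, 5, 4, 3, 2, 2],
  [2, 0, 2, 4, 2, 1],
  [1, 1, 5, 0, 4, 5],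
  [2, 0, 1, 5, 5, 5, 0],
  [0, 5, 5, 5, 1, 2],
  [3, 1, 5, 5, 1, 0],
  [0, 1, 3, 5, 5, 0],
  [1, 2, 3, 2, 1, 5],
  [4, 5, 4, 3, 5, 1],
  [0, 2, 3, 1, 1, 0],
  [3, 5, 5, 1, 5, 0],
  [1, 3, 1, 2, 4, 5],
  [0, 1, 3, 4, 5],
  [1, 2, 2, 1, 0],
  [1, 0, 5, 1, 0, 2],
  [2, 1, 1, 2, 0, 0],
  [3, 5, 0, 4, 5]]

/-- part 22 of the class -/
def vOrb22 : List (List ℕ) := [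
  [2, 2, 3, 2, 0, 0],
  [0, 0, 4, 5, 4, 3],
  [2, 2, 0, 2, 4, 2],
  [2, 3, 1, 5, 1, 5],
  [0, 5, 5, 0, 0, 5, 3],
  [0, 0, 5, 1, 5, 5],
  [0, 4, 3, 4, 2, 1],
  [2, 2, 3, 4, 2, 4],
  [0, 4, 5, 3, 5, 4],
  [2, 4, 2, 0, 2],
  [5, 4, 0, 4, 0, 5, 0],
  [2, 2, 1, 0, 1, 5, 0],
  [1, 1, 3, 4, 2, 0, 0],
  [1, 0, 2, 0, 4, 5, 0],
  [3, 2, 2, 2, 1, 2],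
  [4, 3, 2, 1, 0, 1],
  [2, 3, 2, 1, 0, 5],
  [0, 1, 0, 4, 2, 2],
  [3, 1, 5, 3, 2, 2],
  [4, 5, 0, 1, 5, 4, 2],
  [0, 2, 4, 0, 2, 0],
  [2, 3, 1, 1, 2],
  [3, 5, 5, 0, 4],
  [2, 1, 0, 0, 1, 5],
  [3, 4, 0, 2, 4, 0],
  [5, 1, 0, 1, 5],
  [5, 3, 1, 2, 0, 0],
  [5, 1, 0, 1, 2, 1],
  [2, 2, 3, 2, 1],
  [5, 1, 5, 0, 2, 2, 0],
  [4, 3, 2, 4, 2, 4],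
  [0, 4, 0, 5, 4, 0],
  [0, 0, 5, 5],
  [3, 5, 0, 4, 0, 2],
  [4, 0, 0, 1, 5, 3],
  [3, 4, 5, 3, 1, 0],
  [1, 0, 1, 5, 1, 1],
  [5, 5, 0, 1, 2, 4, 0],
  [5, 5, 5, 0, 1, 2, 0],
  [2, 4, 5, 1, 0],
  [0, 2, 4, 5, 5, 0],
  [0, 5, 0, 5, 3],
  [2, 3, 4, 2],
  [4, 2, 2, 1, 1, 0],
  [0, 5, 5, 3, 5, 1],
  [3, 4, 3, 2, 0],
  [4, 2, 0, 2, 4, 3],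
  [2, 2, 3, 1, 5, 5],
  [2, 3, 5, 5, 5, 1],
  [2, 3, 4, 2, 2, 4, 0],
  [1, 5, 0, 5, 5, 1],
  [4, 2, 2, 4, 5, 5, 1],
  [2, 4, 5, 0, 0, 1],
  [1, 2, 1, 2, 0, 2],
  [1, 1, 5, 4, 5, 3],
  [2, 4, 5, 3, 2, 1, 0],
  [0, 5, 5, 4, 0, 1, 3],
  [5, 3, 4, 5, 5, 1, 0],
  [5, 1, 2, 1],
  [3, 5, 3, 4, 5],
  [0, 4, 3, 4, 5, 5],
  [0, 4, 0, 1],
  [0, 5, 1, 0, 1, 5],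
  [0, 0, 2, 0, 4, 5, 1],
  [1, 3, 2, 3, 2, 1],
  [0, 4, 5, 5, 0, 5, 1],
  [0, 1, 5, 5, 5, 4, 0],
  [2, 0, 1, 5, 5],
  [4, 0, 5, 5, 5, 1],
  [0, 4, 5, 0, 2, 1],
  [3, 5, 3, 5, 5, 0],
  [5, 0, 0, 4, 0, 5],
  [1, 1, 5, 5, 1],
  [1, 3, 1, 0, 0, 5, 0],
  [1, 3, 5, 0, 2, 2],
  [5, 0, 1, 1, 5, 1],
  [2, 1, 0, 0, 1, 5, 1],
  [2, 0, 2, 1, 0],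
  [5, 1, 5, 4, 0],
  [1, 3, 1, 3, 5, 4, 3],
  [1, 5, 3, 2, 3, 2],
  [1, 5, 3, 4, 5, 5],
  [2, 4, 3, 2, 2, 0, 0],
  [4, 0, 4, 5, 0],
  [5, 5, 4, 0, 1, 0, 5],
  [4, 5, 4, 5, 5, 1, 2],
  [2, 1, 1, 5, 0, 2],
  [0, 1, 1, 0, 2, 1],
  [0, 2, 3, 4, 0],
  [2, 2, 0, 1, 5, 1, 0],
  [4, 0, 4, 2, 4, 5],
  [1, 5, 3, 4, 2, 1],
  [5, 0, 4, 5, 5, 1],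
  [4, 5, 1, 0, 2, 2, 3],
  [5, 5, 1, 5, 0, 4],
  [0, 2, 1, 2, 2, 0],
  [2, 2, 2, 1, 1, 0, 0],
  [0, 2, 2, 0, 4],
  [1, 5, 5, 3, 2, 1],
  [3, 5, 3, 4, 0, 2, 0],
  [2, 0, 5, 1, 5, 3],
  [1, 1, 0, 1, 5, 1],
  [5, 1, 5, 1, 3, 2],
  [5, 1, 5, 5, 1],
  [0, 1, 2],
  [4, 5, 1, 0, 2],
  [5, 0, 2, 1, 2],
  [3, 1, 5, 4, 0],
  [4, 2, 0, 0, 1],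
  [5, 4, 0, 4, 5, 0],
  [4, 5, 1, 1, 0, 5],
  [0, 5, 1, 5, 0, 2, 1],
  [1, 3, 5, 3, 1, 5, 1],
  [5, 3, 4, 5, 0, 0],
  [1, 5, 4, 5, 0, 4],
  [5, 0, 5, 1, 0, 2],
  [0, 0, 1, 2, 3],
  [4, 0, 2, 0, 0, 1, 0],
  [2, 3, 4, 5, 3],
  [0, 1, 2, 2, 1, 1],
  [5, 4, 0, 5, 1, 0, 4],
  [3, 4, 5, 5, 4, 2],
  [2, 0, 4, 0],
  [2, 1, 3, 2, 4, 0],
  [4, 2, 0, 1, 5, 3],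
  [1, 3, 4, 5, 1],
  [0, 0, 4, 5, 5, 4],
  [5, 0, 2, 2],
  [3, 2, 4, 0, 4, 0],
  [3, 4, 3, 5, 1, 1],
  [1, 3, 1, 2, 1, 0, 0],
  [3, 4, 0, 2, 2, 4, 0],
  [1, 5, 4, 0, 1, 0],
  [5, 3, 1, 5, 1, 1],
  [1, 1, 5, 3, 5, 1, 1],
  [1, 1, 5, 5, 0, 2],
  [4, 3, 5, 0, 2, 1],
  [4, 2, 4, 5, 3, 1, 0],
  [1, 5, 4, 3, 2, 0, 0],
  [0, 5, 1, 2],
  [0, 5, 5, 3, 4, 5],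
  [0, 0, 1, 2, 4, 5, 1],
  [3, 5, 3, 2, 2, 0, 0],
  [1, 5, 3, 4, 0, 0, 2],
  [2, 4, 0, 2, 4, 0],
  [5, 1, 3, 1, 2, 2],
  [1, 5, 0, 2, 0, 1, 1],
  [],
  [1, 5, 5, 4, 2, 1],
  [1, 3, 5, 3, 1, 2, 0],
  [5, 5, 5, 4, 5, 1],
  [1, 5, 3, 1, 2, 4, 3],
  [5, 0, 2, 2, 1, 1, 0],
  [3, 1, 5, 3, 4, 2, 1],
  [5, 0, 5, 1, 5],
  [1, 5, 0, 2, 0, 0],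
  [2, 2, 3, 1, 3],
  [5, 5, 3, 5, 1],
  [2, 0, 2, 2, 0, 0],
  [5, 5, 3, 2, 1, 2],
  [5, 1, 5, 5, 5, 0],
  [0, 2, 0, 0, 2, 0, 1],
  [2, 3, 4, 5, 5, 5, 1],
  [5, 0, 2, 1, 1, 3],
  [0, 1, 5, 1, 5, 4, 0],
  [4, 5, 4, 5, 0, 1, 0],
  [3, 1, 3, 2, 4, 2],
  [2, 2, 1, 3, 4],
  [2, 2, 3, 1, 0, 4, 0],
  [1, 2, 2, 1, 0, 4],
  [5, 5, 1, 3, 2],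
  [2, 4, 2, 4, 5, 1, 0],
  [3, 2, 2, 2, 3, 2],
  [3, 2, 4, 3, 5, 0, 0],
  [4, 5, 3, 5, 5, 5, 0],
  [4, 5, 0, 0, 4, 3],
  [2, 2, 1, 5, 1, 5],
  [0, 5, 4, 0, 0],
  [1, 1, 3, 1, 2, 2],
  [5, 4, 5, 4, 0, 4],
  [5, 4, 3, 1, 5, 0],
  [1, 0, 0, 2, 0],
  [1, 5, 3, 2, 0, 1],
  [5, 5, 5, 3, 4, 0, 0],
  [2, 0, 2, 0, 2, 2],
  [2, 0, 5, 5, 1, 0],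
  [3, 4, 0, 5, 5, 3],
  [2, 0, 0, 1, 2, 4],
  [4, 3, 4, 5, 4],
  [0, 0, 5, 3, 5, 3],
  [3, 5, 5, 4, 0],
  [2, 0],
  [0, 4, 0, 5, 5, 3],
  [5, 5, 5, 0, 0, 1, 0],
  [3, 5, 4, 5, 0, 0],
  [3, 4, 2, 2],
  [4, 2, 4, 5, 5, 1, 0],
  [0, 0, 2, 0],
  [0, 1, 5, 5, 0, 0],
  [2, 4, 5, 5, 1],
  [1, 0, 2, 2, 3],
  [2, 1, 5, 1, 5, 4, 0],
  [2, 1, 5, 1, 2, 0],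
  [1, 1, 3, 4, 2, 2],
  [1, 3, 5, 5, 3, 1, 0],
  [5, 0, 1, 3, 5, 5],
  [0, 2, 0, 1, 2],
  [5, 3, 1, 3, 4],
  [5, 5, 1, 0, 2],
  [4, 5, 5, 1, 3, 2],
  [0, 1, 0, 5, 1, 1],
  [2, 2, 1, 5, 3],
  [1, 5, 3, 5, 5, 5, 0],
  [5, 0, 1, 0],
  [4, 0, 4, 2, 2, 1, 0],
  [5, 1, 0, 2, 2, 0, 2],
  [4, 0, 1, 5, 5, 4, 0],
  [1, 0, 2, 2, 0, 0],
  [5, 0, 0, 4, 3],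
  [5, 1, 5, 0, 4, 2, 2],
  [5, 0, 5, 5, 1, 5],
  [3, 1, 2, 1, 2],
  [0, 1, 3, 2, 0, 1],
  [3, 1, 2, 4, 2, 1, 1],
  [5, 3, 2, 0, 1],
  [0, 5, 0, 1, 5],
  [0, 2, 0, 2, 1, 1],
  [1, 5, 1, 5, 5, 5, 0],
  [3, 2, 4, 3, 5, 1],
  [2, 0, 1, 5, 0, 4],
  [0, 1, 5, 1, 1, 3],
  [4, 3, 4, 3, 5, 0],
  [3, 5, 4, 5, 4, 0],
  [1, 1, 3, 2, 3, 2],
  [5, 5, 3, 5, 0, 0],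
  [2, 3, 5, 5, 5],
  [2, 1, 1, 0, 4, 3],
  [4, 3, 5, 1, 3],
  [2, 0, 4, 5, 4, 2],
  [1, 0, 5, 5, 1, 2, 1],
  [3, 2, 3, 2],
  [0, 4, 0, 5, 0, 5],
  [1, 3, 5, 1, 3],
  [0, 2, 2, 0, 0],
  [4, 0, 5, 5, 1, 2, 1],
  [5, 3, 4, 2, 2, 4, 0],
  [5, 3, 1, 3, 5, 1],
  [0, 2, 4, 5, 1, 5, 0],
  [4, 5, 5, 3, 5, 1],
  [2, 0, 1, 0, 5, 3],
  [5, 4, 5, 0, 1, 0],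
  [4, 3, 1, 2, 2]]

/-- part 23 of the class -/
def vOrb23 : List (List ℕ) := [
  [2, 0, 1, 3, 4, 5, 0],
  [0, 2, 0, 2],
  [3, 4, 2, 2, 3],
  [5, 1, 5, 4, 5, 0],
  [1, 3, 5, 5, 4, 0],
  [4, 2, 0, 0],
  [0, 2, 2, 3],
  [5, 0, 0, 5, 3, 2],
  [2, 0, 0, 1, 5, 4],
  [0, 2, 1, 5, 4, 5, 0],
  [0, 2, 3, 2, 1, 0],
  [0, 2, 0, 4, 2],
  [3, 4, 5, 5, 0, 0, 1],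
  [2, 0, 0, 4, 5, 4],
  [3, 5, 5, 4, 0, 0],
  [0, 4, 5, 1, 1, 0, 5],
  [1, 5, 3, 2, 0, 4],
  [1, 3, 2, 3, 2],
  [0, 1, 5, 0, 1, 3],
  [3, 4, 5, 0, 0, 4],
  [3, 1, 2, 1, 2, 3],
  [5, 3, 1, 5, 4, 5],
  [3, 4, 3, 5, 0],
  [2, 0, 0, 1, 5, 1],
  [3, 1, 2, 2],
  [4, 0, 5, 0, 4, 5, 1],
  [1, 5, 5, 3, 5, 1],
  [0, 2, 4, 5, 4, 0],
  [2, 0, 1, 3, 5, 3],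
  [2, 2, 2, 4, 2, 1],
  [4, 3, 4, 2, 2],
  [1, 1, 2, 0, 0],
  [1, 2, 4, 5, 5, 1],
  [4, 0, 2, 1, 2],
  [2, 4, 5, 5, 5, 4, 2],
  [5, 5, 1, 3, 1, 2, 1],
  [1, 3, 5, 5, 4, 0, 0],
  [4, 0, 2, 3, 2, 1, 0],
  [4, 5, 3, 2, 0, 1],
  [4, 2, 4, 5, 5, 1],
  [0, 4, 2, 0, 4, 5, 4],
  [1, 1, 3, 5, 1, 3],
  [0, 0, 5, 0, 5, 3],
  [5, 5, 3, 1, 3, 2],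
  [0, 0, 2, 1, 0, 0],
  [1, 0, 2, 0, 2],
  [0, 2, 1, 2],
  [2, 3, 5, 0, 2],
  [1, 5, 5, 1, 0, 2],
  [3, 5, 1, 3],
  [5, 5, 5, 4, 0, 1, 0],
  [5, 4, 2, 2, 4, 5, 3],
  [3, 5, 3, 5, 1, 0],
  [4, 0, 5],
  [2, 0, 0, 1, 2, 1],
  [1, 3, 1, 2, 2],
  [5, 3, 2, 0, 4],
  [2, 3, 4, 5, 1, 0],
  [3, 5, 5, 3, 1, 0],
  [2, 1, 3, 4, 5, 0],
  [1, 0, 5],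
  [1, 0, 5, 4, 0, 0],
  [0, 0, 2, 3, 1],
  [4, 0, 5, 4, 0, 0],
  [4, 3, 5, 0, 5, 0],
  [0, 5, 4, 5, 5],
  [0, 5],
  [2, 4, 0, 1, 5, 5],
  [2, 1, 2, 1, 3],
  [4, 0, 2, 2, 0, 0],
  [4, 3, 2, 3, 2],
  [5, 0, 1, 3, 1],
  [2, 2, 4, 3, 1, 1, 0],
  [0, 0, 1, 2, 4, 0, 0],
  [1, 2, 2, 1, 3, 4],
  [2, 2, 1, 0, 4],
  [5, 1, 5, 4, 2, 0, 0],
  [2, 4, 2, 1, 5, 0, 2],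
  [5, 3, 4, 3, 5, 1],
  [2, 4, 5, 5, 1, 0],
  [1, 1, 0, 5],
  [0, 5, 4, 5, 5, 0],
  [5, 1, 5, 4, 5],
  [2, 0, 0, 4, 5, 1],
  [0, 2, 4, 2, 3, 4, 0],
  [5, 3, 5, 5, 5, 0],
  [2, 1, 5, 3, 5, 1, 5],
  [4, 5, 0, 1, 0],
  [1, 5, 0, 1, 0],
  [3, 1, 3, 2, 2, 1],
  [0, 4, 5, 3, 2, 2],
  [3, 2, 0, 1, 2, 1],
  [0, 4, 2, 2, 1, 0],
  [1, 0, 5, 0, 1, 0, 1],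
  [2, 2, 1, 3, 4, 0],
  [5, 3, 5, 5, 1, 1, 0],
  [2, 3, 2, 0, 5],
  [0, 1, 5, 5, 4, 0],
  [2, 2, 0, 1, 1, 0],
  [2, 1, 2, 2, 1, 2, 2],
  [0, 2, 1, 5, 1, 0],
  [0, 4, 0, 2, 2],
  [0, 5, 5, 1, 2, 1],
  [5, 4, 0, 4, 0],
  [1, 2, 2, 1, 5, 3],
  [3, 5, 0, 5, 0, 0],
  [0, 0, 5, 4, 0],
  [0, 5, 1, 5, 5, 1],
  [2, 0, 0, 1, 1],
  [0, 5, 0, 4, 5, 1],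
  [5, 0, 0, 2, 4, 5, 1],
  [2, 2, 2, 1, 5, 1, 1],
  [3, 1, 2, 1, 2, 1, 1],
  [0, 1, 0, 1, 1, 5],
  [3, 5, 0, 0, 5, 0],
  [4, 0, 2, 0, 2],
  [0, 0, 5, 5, 0, 4],
  [1, 3, 4, 2, 2],
  [0, 5, 0, 4, 3, 2, 1],
  [2, 0, 0],
  [0, 2, 0, 1, 1, 2],
  [2, 2, 3, 5, 3, 2, 2],
  [1, 1, 5, 0, 1, 0],
  [1, 0, 4, 2, 2, 1, 0],
  [0, 5, 0, 1, 0, 1],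
  [1, 2, 0, 0],
  [5, 1, 3, 4, 0, 0],
  [5, 4, 5, 0, 1],
  [1, 1, 0, 5, 4, 0, 0],
  [3, 4, 5, 1, 1, 0, 0],
  [2, 1, 5, 5, 3, 2],
  [4, 5, 1, 3, 4, 0, 0],
  [1, 3, 4, 5, 4],
  [0, 2, 3, 2, 0, 4, 0],
  [2, 2, 2, 4, 5, 0],
  [4, 0, 5, 4, 5, 5, 0],
  [0, 0, 5, 5, 0, 1],
  [3, 1, 2, 2, 1, 1],
  [2, 2, 1, 0, 4, 0],
  [5, 5, 3, 5, 5, 5, 0],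
  [3, 5, 1, 0, 4, 0],
  [5, 3, 5, 5, 5, 3, 1],
  [0, 0, 1, 1, 5, 4],
  [0, 5, 0, 5, 3, 2],
  [0, 5, 0, 2, 0, 4, 0],
  [1, 2, 0],
  [3, 4, 2, 3, 2, 0, 0],
  [3, 4, 2, 1, 2],
  [3, 5, 0, 5, 0],
  [3, 2, 3, 1, 2, 1],
  [2, 1, 0, 5, 4, 5],
  [5, 1, 0, 1, 0, 5],
  [0, 2, 4, 2, 0, 1, 1],
  [3, 4, 5, 4],
  [2, 2, 2, 0, 0, 2],
  [3, 4, 5, 5, 5, 1],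
  [2, 0, 1, 2, 0],
  [5, 4, 5, 5, 4, 0],
  [0, 1, 5, 0, 2],
  [2, 1, 2, 2, 3],
  [1, 2, 4, 2, 2],
  [4, 0, 4, 2, 0, 0, 1],
  [3, 4, 2, 2, 0],
  [2, 3, 2],
  [4, 0, 0, 2, 2, 4, 0],
  [3, 5, 4, 0],
  [3, 2, 2, 0, 0],
  [4, 5, 0, 0, 4, 5, 0],
  [4, 5, 1, 5, 5, 0, 1],
  [0, 5, 3, 5, 5, 1, 1],
  [1, 1, 5, 4, 5, 1],
  [5, 4, 3, 4, 5],
  [4, 0, 2, 0, 1],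
  [2, 0, 2, 4, 5, 0, 1],
  [3, 5, 0, 1, 0, 5, 0],
  [2, 4, 3, 2, 2, 4, 0],
  [5, 3, 1, 1, 5, 0, 0],
  [5, 0, 1, 0, 5],
  [5, 5, 0, 0, 5, 1],
  [2, 4, 0, 4, 2, 0, 0],
  [1, 0, 5, 4, 0],
  [2, 3, 1, 5, 0, 2],
  [4, 0, 2, 0, 4],
  [0, 1, 3, 1, 5, 1],
  [5, 1, 3, 1],
  [3, 5, 5, 4, 5, 3],
  [4, 5, 3, 1, 1, 2],
  [5, 1, 5, 1, 5, 1],
  [5, 5, 0, 0, 2, 0],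
  [5, 1, 2, 1, 1, 0],
  [3, 4, 5, 4, 3],
  [3, 2, 1, 2, 3, 4, 0],
  [2, 1, 2, 0, 4, 2, 1],
  [0, 1, 3, 1, 1, 0, 5],
  [4, 5, 1, 5, 1],
  [2, 0, 1, 5, 4],
  [1, 2, 2, 2, 0, 2],
  [2, 1, 0, 2, 2, 1],
  [4, 5, 5, 4],
  [4, 3, 1, 1, 3],
  [1, 5, 3, 2, 2, 0, 0],
  [1, 5, 0, 1, 0, 5, 0],
  [3, 5, 3, 5, 5, 5, 3],
  [3, 1, 5, 0, 4, 2, 1],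
  [1, 1, 0, 5, 0],
  [1, 5, 0, 1, 5, 0, 0],
  [5, 0, 5, 3, 5, 0],
  [1, 0, 1, 5, 5, 5],
  [5, 3, 1, 3, 4, 2, 1],
  [2, 3, 5, 0, 1, 5, 5],
  [1, 3, 1, 0, 2, 2, 2],
  [5, 3, 2, 4, 3, 5, 0],
  [0, 4, 5, 5, 3],
  [2, 3, 2, 1, 1, 5],
  [4, 5, 5, 3],
  [0, 2, 0, 1, 3],
  [0, 4, 2, 2, 0],
  [5, 3, 1, 0, 5, 5],
  [5, 1, 0, 2, 0, 2],
  [0, 1, 5, 5, 5, 4],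
  [1, 3, 2, 2],
  [5, 0, 5, 5, 3],
  [2, 3, 2, 3, 1, 0, 0],
  [5, 3, 2, 4, 2, 2],
  [1, 3, 5, 1, 5],
  [1, 5, 0, 5, 0],
  [0, 4, 2, 2, 3, 1],
  [5, 5, 1, 3, 5, 0, 0],
  [0, 4, 2, 2, 4, 0],
  [5, 4, 5, 5, 3, 4],
  [5, 5, 3, 2, 4, 3],
  [5, 0, 1, 3, 5, 0],
  [2, 1, 5, 1, 5],
  [4, 5, 4, 5, 5, 4],
  [0, 2, 4, 2, 4, 0, 0],
  [2, 0, 1, 2, 1],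
  [0, 1, 2, 2, 0],
  [4, 3, 2, 1, 1, 5],
  [1, 5, 5, 0, 4],
  [0, 5, 5, 5, 0],
  [1, 5, 4, 0, 2],
  [5, 4, 2, 4, 5, 1, 0],
  [0, 5, 0, 5, 3, 2, 2],
  [0, 5, 1, 5, 0],
  [5, 0, 2, 1, 1],
  [2, 4, 5, 0, 1, 0],
  [0, 2, 1, 2, 1, 5],
  [2, 1, 3, 1, 1, 0],
  [0, 5, 5, 4, 0, 0],
  [5, 1, 0, 5, 0, 2, 2],
  [2, 3, 2, 0, 5, 5],
  [1, 1, 5, 4, 5, 1, 0]]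

/-- part 24 of the class -/
def vOrb24 : List (List ℕ) := [
  [2, 0, 2, 3, 5, 0],
  [3, 5, 3, 2, 4, 5, 0],
  [0, 1, 5, 3, 5, 1],
  [2, 4, 5, 1, 5, 4],
  [3, 1, 2, 1, 2, 0],
  [4, 3, 5, 0, 1, 2, 0],
  [4, 3, 5, 4, 5],
  [3, 5, 5, 5, 0],
  [5, 3, 1, 1, 0],
  [1, 2, 4, 5, 1, 2],
  [0, 5, 3, 2, 4, 5],
  [3, 5, 0, 0],
  [1, 1, 5, 0, 4],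
  [2, 2, 0, 2, 2, 0, 0],
  [1, 5, 5, 5, 4, 0],
  [0, 0, 5, 4, 0, 5],
  [3, 5, 0, 2, 1, 3],
  [3, 1, 3, 5, 1, 0],
  [5, 4, 2, 2, 0],
  [5, 4, 5, 5, 0],
  [3, 1, 2, 3, 2, 1, 0],
  [3, 2, 4, 2],
  [3, 2, 3, 1, 2, 0, 1],
  [5, 3, 2, 1, 0, 0],
  [3, 5, 0, 1, 2],
  [2, 0, 2, 4, 2, 4],
  [5, 0, 2, 1, 5, 1],
  [0, 2, 4, 0, 1, 3],
  [3, 1, 3, 5, 1],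
  [3, 5, 3, 2, 1, 0],
  [1, 5, 3, 4, 5, 1],
  [1, 1, 0, 5, 3],
  [5, 1, 5, 3, 1, 2, 1],
  [0, 4, 3, 1, 2, 2],
  [5, 4, 0, 2, 3, 2],
  [4, 5, 3, 4, 0, 0],
  [1, 5, 3, 1, 2, 0],
  [0, 5, 4, 3, 2],
  [1, 3, 1, 0, 0],
  [2, 0, 5, 0, 1, 5, 1],
  [1, 5, 0, 1, 5, 1, 0],
  [1, 5, 3, 1, 5, 1],
  [5, 3, 2, 2, 1, 3, 1],
  [2, 1, 3, 2, 4, 0, 1],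
  [1, 2, 1, 3, 2, 0],
  [1, 2, 3, 2, 2, 2],
  [4, 2, 3, 2, 1, 0, 0],
  [1, 5, 3, 2, 4, 0],
  [4, 5, 4, 0, 4, 3],
  [5, 3, 5, 3, 1, 3],
  [5, 0, 0, 5, 0],
  [5, 5, 1, 3],
  [2, 0, 0, 4, 5],
  [3, 1, 0, 4],
  [2, 1, 5, 3],
  [2, 1, 5, 4, 5, 0],
  [5, 4, 0, 0, 5, 1],
  [5, 3, 4, 5, 3, 1, 0],
  [1, 2, 2, 2, 1, 2],
  [4, 2, 0, 4, 3, 2],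
  [2, 0, 0, 4, 2, 2],
  [4, 2, 4, 2, 1, 5, 0],
  [1, 3, 5, 4, 0],
  [1, 5, 0, 1, 0, 5],
  [0, 0, 2, 2, 4, 0],
  [1, 1, 0, 5, 4, 0],
  [4, 5, 4, 5, 1],
  [0, 5, 1, 5],
  [0, 2, 0, 4],
  [2, 1, 5, 5, 1, 3],
  [5, 3, 2, 0, 1, 5],
  [1, 0, 1, 5, 0, 2],
  [1, 5, 1, 3, 1],
  [4, 2, 4, 3, 2, 0],
  [5, 0, 0, 4, 5, 0],
  [2, 3, 1, 1, 5, 4],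
  [1, 2, 3, 2],
  [1, 3, 4, 5, 4, 3],
  [2, 3, 5, 1, 0],
  [5, 1, 5, 5, 0, 1],
  [3, 2, 0, 4, 5, 0, 0],
  [2, 4, 2, 2, 1, 0],
  [1, 5, 4, 3, 4, 5],
  [5, 3, 1, 1, 2],
  [4, 5, 0, 1, 1, 2, 1],
  [4, 5, 0, 4, 2],
  [0, 2, 3, 1, 1, 5],
  [2, 0, 1, 3, 4, 5],
  [0, 4, 2, 0, 0, 1],
  [4, 3, 4, 5, 5, 3],
  [5, 4, 3, 5, 0, 0],
  [0, 2, 0, 1],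
  [1, 5, 5, 0, 0, 2, 0],
  [3, 4, 2, 2, 2, 0, 0],
  [1, 2, 0, 1, 2, 0],
  [2, 2, 2, 4, 0, 0],
  [2, 0, 1, 3, 5, 5, 0],
  [5, 0, 2, 4, 5, 4],
  [3, 1, 0, 5, 4, 0],
  [2, 2, 2, 0, 0],
  [0, 5, 5, 1, 1, 0, 0],
  [3, 2, 2, 0, 1, 1, 0],
  [5, 5, 0, 5, 1, 1],
  [3, 2, 3, 1, 5, 0],
  [1, 2, 3, 1, 1, 0],
  [4, 5, 1, 3, 2, 0, 0],
  [1, 5, 3, 2, 0],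
  [2, 2, 0, 2, 0, 2],
  [2, 4, 5],
  [3, 1, 3, 5, 3],
  [0, 4, 5, 5, 0, 4],
  [0, 2, 1, 1, 3, 5, 0],
  [4, 2, 0, 2, 3, 1],
  [2, 0, 2, 0, 1, 3],
  [3, 5, 1],
  [5, 4, 3, 2, 0, 1],
  [4, 0, 4, 0, 4, 5, 5],
  [5, 1, 1, 0, 2, 2],
  [2, 1, 0, 2, 0, 1, 5],
  [2, 4, 0, 1, 5, 0],
  [3, 1, 1, 5, 4, 0, 2],
  [3, 4, 3, 2, 3, 2],
  [3, 2, 0, 1, 2],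
  [0, 4, 2, 1, 0, 2],
  [1, 1, 3, 2, 1, 5],
  [5, 0, 2, 1, 0, 0],
  [2, 3, 1, 3, 4, 3],
  [1, 1, 5, 5, 0, 1, 0],
  [1, 1, 0, 5, 0, 0],
  [5, 4, 5, 1, 3, 2],
  [2, 4, 0, 4],
  [4, 3, 1, 5, 3, 2],
  [4, 3, 5, 0, 5, 1],
  [2, 0, 1, 5, 3],
  [2, 4, 3, 1, 5],
  [3, 2, 3, 4, 0, 0],
  [1, 3, 1, 5, 4, 0],
  [2, 2, 1, 0, 0, 5, 1],
  [1, 5, 0, 2, 2],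
  [2, 0, 5, 1, 5, 0],
  [0, 5, 0, 5, 1, 0],
  [4, 0, 1, 5, 1],
  [2, 1, 2, 1, 3, 2, 0],
  [1, 5, 3, 4, 5, 0, 0],
  [1, 0, 2, 2, 0, 4],
  [2, 0, 0, 1],
  [2, 1, 1, 5, 0, 1, 0],
  [0, 2, 0, 0, 1, 0],
  [1, 5, 0, 2, 1, 2],
  [1, 2, 3, 4, 5, 3],
  [1, 0, 1, 2],
  [5, 1, 0, 2],
  [3, 5, 5, 0, 5, 0, 0],
  [4, 3, 2, 4, 0, 1],
  [3, 2, 1, 5, 4, 0],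
  [0, 5, 3, 2, 1, 0],
  [0, 1, 0, 5, 0, 0],
  [5, 1, 1, 0, 5],
  [4, 0, 4, 5, 4, 0],
  [1, 2, 0, 4, 0],
  [2, 2, 2, 0, 1, 2],
  [2, 1, 3, 1, 0, 0],
  [0, 2, 2, 3, 2],
  [4, 5, 4, 0, 1, 5, 1],
  [4, 2, 2, 2, 4, 3],
  [3, 5, 4, 3, 1, 2, 0],
  [5, 1, 0, 0, 4, 5, 1],
  [1, 0, 1, 2, 2, 1, 1],
  [3, 1, 3, 2, 1, 1, 0],
  [3, 5, 0, 5, 1, 5],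
  [3, 1, 0, 0, 5, 0],
  [5, 3, 4, 2, 1],
  [4, 2, 0, 2, 1, 0],
  [3, 2, 4, 2, 2],
  [5, 0, 1, 2, 2, 1, 0],
  [1, 1, 0, 4, 5, 0],
  [1, 3, 1, 2, 4, 0],
  [5, 3, 2, 3, 2],
  [2, 3, 5, 5, 4],
  [5, 3, 2, 4, 0, 1, 0],
  [3, 5, 0, 2, 2],
  [3, 1, 3, 5, 1, 1],
  [3, 1, 3, 5, 4, 3],
  [0, 4, 0, 2, 4, 0],
  [2, 3, 1, 0, 0, 2, 0],
  [1, 5, 5, 1],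
  [5, 0, 2, 3, 4, 0, 0],
  [4, 5, 0, 4, 5, 5, 1],
  [5, 3, 4, 5, 5],
  [0, 4, 5, 5, 3, 1],
  [5, 5, 0, 1, 1, 2, 1],
  [4, 5, 1, 5, 4, 0],
  [5, 0, 0],
  [3, 2, 0, 1, 0],
  [3, 5, 1, 1],
  [4, 0, 2],
  [5, 5, 1, 2, 1, 0, 0],
  [0, 5, 3, 4, 2, 2, 0],
  [0, 4, 0, 2, 1, 0],
  [0, 5, 1],
  [5, 4, 5, 0, 1, 2],
  [0, 5, 1, 0, 4],
  [5, 4, 0, 1, 3],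
  [0, 5, 4, 2, 2, 0],
  [1, 3, 1, 2, 3],
  [3, 5, 0],
  [3, 5, 5, 1, 0, 1],
  [5, 1],
  [5, 5, 3, 4, 2],
  [5, 1, 3, 1, 0],
  [2, 0, 1, 0, 5],
  [5, 0, 4, 0, 1],
  [5, 1, 1],
  [4, 0, 5, 3, 2, 2],
  [3, 5, 0, 4],
  [5, 0, 1, 3, 4, 0],
  [2, 0, 4, 0, 1],
  [3, 1, 3, 2, 3, 2, 2],
  [1, 1, 5, 3, 2, 0, 0],
  [5, 3, 4, 5, 0, 5],
  [2, 2, 1, 2, 0, 1],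
  [0, 2, 0, 2, 1],
  [2, 1, 0, 1, 1, 5, 0],
  [2, 1, 2, 2, 2, 4, 0],
  [1, 0, 1, 2, 1],
  [0, 1, 0, 5, 5],
  [4, 0, 1, 2, 1],
  [1, 3, 4, 0, 4, 5],
  [2, 2, 3, 1, 0, 1],
  [2, 2, 0, 2, 3, 1],
  [2, 0, 5, 0, 5, 3],
  [4, 0, 2, 2, 4],
  [5, 0, 5, 0, 1, 1, 2],
  [2, 0, 5, 5, 5],
  [1, 3, 1],
  [3, 4, 2, 2, 1, 0],
  [5, 3, 5, 5],
  [3, 5, 3, 5, 1, 1],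
  [2, 2, 4, 3],
  [0, 2, 2, 1, 0, 2],
  [5, 3, 2, 0, 0],
  [2, 1, 1, 0, 1, 3],
  [5, 3, 4, 2],
  [1, 0, 2, 4, 2, 1, 1],
  [1, 0, 2, 4],
  [3, 1, 1, 5, 0, 0],
  [0, 1, 1, 0, 5, 0, 0],
  [3, 1, 5, 5, 0, 1, 0],
  [5, 0, 1, 5, 0],
  [5, 5, 0, 4, 3, 2, 1],
  [5, 0, 2, 0, 1],
  [5, 0, 2, 1, 5, 3]]

/-- part 25 of the class -/
def vOrb25 : List (List ℕ) := [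
  [4, 2, 4, 5, 0, 4],
  [5, 4, 2, 2, 1, 5],
  [0, 5, 5, 5, 1],
  [2, 1, 2, 0, 2, 1, 0],
  [1, 3, 5, 3, 4, 5],
  [5, 4, 5, 5, 1],
  [0, 4, 5, 3, 5, 0],
  [4, 5, 4, 5, 3],
  [4, 3, 4],
  [0, 2, 3, 4, 5, 4],
  [2, 0, 2, 3, 2, 1],
  [4, 2, 4, 3, 5, 1],
  [4, 5, 5, 4, 0, 4, 0],
  [3, 4, 0, 2, 4, 3, 2],
  [4, 5, 5, 0, 4, 2],
  [5, 5, 3, 4, 5, 0, 5],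
  [5, 5, 3, 4, 0],
  [3, 5, 5, 0, 5, 1, 0],
  [2, 2, 4, 5, 5, 1],
  [4, 0, 5, 4, 3],
  [5, 1, 3, 5, 0, 5, 1],
  [0, 4, 2, 1, 5, 0],
  [4, 0, 0, 5, 0, 2, 0, 0],
  [4, 2, 1, 0, 5, 0],
  [0, 5, 3, 4, 3],
  [1, 2, 3, 2, 1],
  [1, 3, 2, 0, 1, 2, 0],
  [1, 1, 3, 2, 0, 1],
  [0, 4, 0, 2, 2, 1, 0],
  [4, 0, 4, 5, 1, 1],
  [1, 5, 5, 0],
  [3, 5, 0, 1, 0, 1],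
  [2, 1, 2, 4, 5, 3, 2],
  [3, 2, 2, 3, 1, 1],
  [1, 5, 3, 5, 3],
  [3, 5, 0, 5, 0, 5],
  [3, 2, 0, 1],
  [4, 5, 3, 1, 2, 2, 3],
  [2, 2, 3, 5, 3],
  [4, 3, 4, 3, 2, 2, 1],
  [3, 5, 3, 2, 0, 0, 1],
  [2, 4, 0, 4, 5, 0, 0],
  [0, 5, 5, 4, 5, 5],
  [5, 4, 5, 5, 3, 1],
  [0, 1, 5, 1, 2],
  [4, 2, 3, 2, 1],
  [2, 2, 0, 4, 3],
  [3, 1, 2, 1],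
  [3, 5, 0, 5, 4, 3],
  [0, 5, 1, 2, 1],
  [3, 2, 2, 1, 1, 0, 0],
  [0, 5, 5, 1, 1, 5],
  [4, 5, 5, 0],
  [1, 3, 2, 4, 5, 1, 1],
  [0, 2, 0, 4, 5, 4],
  [5, 5, 1, 0, 2, 0, 0],
  [2, 0, 2, 0, 2, 1],
  [2, 1, 2, 4, 3],
  [2, 2, 1, 1, 5, 1, 1],
  [0, 0, 4, 5, 1, 2],
  [1, 2, 1, 5, 3],
  [5, 5, 1, 5, 4, 5, 0],
  [5, 4, 0, 4, 3],
  [5, 3, 2, 2, 2, 1, 2],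
  [3, 4, 2, 3, 1, 5],
  [2, 0, 4, 3, 2],
  [5, 0, 4, 5, 5, 4, 2],
  [1, 5, 0, 2, 1, 5, 1],
  [1, 1, 5, 3, 1, 2, 0],
  [2, 3, 2, 1, 0, 0],
  [5, 1, 1, 0, 4, 5, 0],
  [0, 5, 4, 0, 1],
  [3, 5, 5, 4, 0, 5],
  [5, 3, 4, 0, 0],
  [5, 4, 3, 5, 4, 5],
  [1, 5, 5, 1, 3],
  [0, 2, 3, 5, 0],
  [3, 5, 5, 1, 1, 3],
  [4, 0, 0, 5, 5, 3],
  [1, 3, 1, 3, 5, 1],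
  [5, 3, 5, 0, 2, 0, 0],
  [1, 1, 5, 3, 2, 4, 0],
  [0, 0, 5, 3],
  [4, 0, 5, 3],
  [3, 4, 0, 1, 3, 5, 4],
  [1, 3, 5, 0, 1, 2],
  [3, 5, 1, 5, 5, 0],
  [5, 1, 5, 0, 4, 5],
  [3, 4, 2, 2, 2, 4, 2],
  [5, 3, 2, 1, 3, 2, 0],
  [4, 5, 5, 1, 3, 1],
  [4, 5, 4, 0, 5, 5],
  [0, 4, 0, 4, 0, 5],
  [2, 2, 0, 4, 3, 2],
  [5, 5, 0, 2, 1, 1],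
  [3, 2, 0, 2, 1, 2, 2],
  [5, 5, 0, 4, 5, 5, 0],
  [2, 3, 2, 2, 2],
  [5, 3, 4, 5, 1],
  [2, 2, 2, 1, 2],
  [2, 1, 3, 2, 0],
  [5, 1, 0, 0, 2],
  [0, 1, 2, 0, 2, 2],
  [0, 1, 2, 2, 2, 0],
  [3, 1, 0, 0],
  [3, 5, 1, 1, 5, 3],
  [0, 2, 4, 3, 5, 3],
  [0, 4, 5, 3, 5, 1],
  [0, 1, 2, 3, 2, 2],
  [5, 0, 0, 1, 2, 2, 2],
  [5, 3, 1, 5, 1],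
  [5, 3, 1, 2, 0],
  [5, 0, 2, 1, 1, 0],
  [4, 0, 5, 4, 3, 2],
  [4, 3, 5, 0, 1, 2],
  [5, 1, 5, 3, 4, 5],
  [1, 2, 4, 3, 2, 1, 5],
  [4, 2, 1, 5, 3],
  [1, 5, 0, 4, 3],
  [0, 5, 4, 5, 5, 0, 1],
  [5, 3, 2, 4, 0],
  [5, 5, 4, 0, 5, 3],
  [3, 5, 4, 5, 5, 0, 2],
  [5, 1, 5, 5, 0, 1, 0],
  [4, 5, 0, 0, 5, 0],
  [0, 1, 3, 5, 1, 3],
  [1, 0, 5, 3],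
  [4, 0, 2, 4, 0, 1, 3],
  [1, 1, 5, 3, 4, 0, 0],
  [4, 5, 5, 1, 3],
  [4, 2, 0, 0, 4, 5],
  [5, 0, 1, 5, 1, 0],
  [3, 2, 2, 4, 5, 5],
  [5, 5, 4, 5, 0, 2],
  [3, 4, 2, 4, 5, 0],
  [3, 5, 1, 3, 1, 5],
  [3, 5, 5, 0, 2, 1, 0],
  [3, 2, 0, 4, 2],
  [3, 2, 3, 2, 0, 1],
  [1, 5, 4, 5, 4],
  [0, 2, 1, 5, 4],
  [1, 5, 0, 2, 2, 1],
  [5, 5, 0, 4, 2, 4],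
  [5, 4, 0, 4, 0, 2],
  [0, 4, 0, 1, 5, 5, 0],
  [1, 0, 1, 2, 1, 2],
  [2, 0, 2, 2, 4, 0, 0],
  [2, 1, 0, 4, 3, 2],
  [0, 1, 1, 0, 5, 0],
  [2, 2, 4, 5, 3],
  [5, 0, 5, 1, 3, 2, 2],
  [2, 4, 5, 5, 0, 5, 1],
  [5, 4, 3, 1, 2, 0, 0],
  [3, 5, 0, 2, 2, 2],
  [5, 1, 5, 5, 1, 1],
  [1, 0, 0, 2, 2],
  [1, 1, 0, 5, 5],
  [5, 4, 3, 4, 5, 4, 0],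
  [1, 0, 1, 1, 3, 5, 0],
  [1, 2, 0, 0, 1, 5],
  [2, 4, 5, 5, 3, 4],
  [2, 3, 4, 2, 2],
  [2, 1, 3, 4, 2, 0, 0],
  [3, 4, 0, 1, 2, 4, 0],
  [4, 0, 4, 3, 5, 3],
  [5, 4, 5, 3, 4],
  [1, 5, 0, 4, 5, 0],
  [1, 1, 5, 3, 1, 0, 0],
  [1, 1, 5, 1, 1, 3],
  [3, 5, 4, 0, 4, 2, 1],
  [2, 3, 4, 5, 1, 3],
  [0, 2, 4, 0],
  [2, 1, 1, 0, 1, 0],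
  [2, 2, 0, 1, 2, 1, 1],
  [5, 5, 1, 5, 5],
  [1, 1, 0, 2, 1],
  [3, 5, 4, 2, 1],
  [3, 1, 3, 4, 3],
  [1, 2, 4, 3, 4, 5, 0],
  [3, 1, 1, 2, 1],
  [3, 4, 5, 5],
  [3, 2, 0, 2, 1, 2, 1],
  [5, 1, 3, 1, 5, 4],
  [0, 1, 1, 0, 0, 5, 1],
  [2, 1, 2, 1, 5, 3],
  [5, 1, 3],
  [4, 5, 1, 0, 2, 1],
  [4, 3, 2, 4, 3, 2],
  [3, 2, 4],
  [1, 5, 0, 2, 1],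
  [1, 2, 4, 3, 5, 0, 0],
  [4, 2, 2, 4, 3, 2],
  [2, 4, 0, 1, 5, 3],
  [3, 5, 0, 5, 4, 2],
  [0, 1, 5, 5, 0, 4],
  [1, 5, 0, 1, 2],
  [2, 0, 4, 5, 4],
  [1, 2, 2, 1, 0, 2],
  [2, 1, 5, 1, 0, 1],
  [1, 1, 3, 2, 4, 0],
  [5, 5, 3, 4, 2, 1],
  [5, 1, 1, 0, 5, 3],
  [3, 1, 1, 5],
  [4, 2, 0, 1, 5, 0],
  [3, 5, 5, 5, 1],
  [5, 3, 1, 5, 4, 0],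
  [1, 3, 2, 3],
  [4, 5, 3, 2, 2, 3],
  [0, 5, 3, 4, 5, 4],
  [0, 2, 1, 5, 1, 0, 0],
  [3, 5, 5, 5, 4],
  [1, 5, 4, 5, 0, 0],
  [2, 2, 0, 0, 1, 1],
  [2, 2, 4, 0, 5],
  [0, 4, 0, 2],
  [1, 2, 2, 1, 0, 0],
  [1, 1, 5, 1, 0, 1, 0],
  [3, 2, 2, 1, 2, 1],
  [2, 2, 2, 0, 2, 0],
  [2, 0, 1, 3, 4, 0],
  [0, 1, 5, 1, 5, 1, 1],
  [3, 1, 3, 2, 1, 0, 0],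
  [0, 1, 5, 5, 3, 2, 2],
  [3, 5, 0, 4, 0, 5],
  [2, 2, 3, 5, 5, 1],
  [0, 0, 1, 5, 3, 1, 3],
  [5, 4, 0, 5, 1, 0],
  [0, 2, 1, 3, 5, 5, 0],
  [5, 5, 1, 1],
  [1, 5, 5, 1, 1, 5],
  [0, 4, 3, 5, 1, 3],
  [2, 4, 0, 5, 5],
  [5, 3, 1, 0, 5, 0],
  [5, 1, 0, 1, 0],
  [3, 1, 2, 0, 2],
  [1, 5, 1, 5, 0, 5],
  [4, 2, 0, 2, 0, 2],
  [3, 5, 3, 1, 1],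
  [1, 5, 1, 1, 5, 1, 1],
  [2, 1, 1, 3],
  [2, 4, 3, 1, 1, 3],
  [2, 0, 2, 3, 1],
  [1, 3, 1, 0, 5, 4, 0],
  [3, 1, 5, 0, 1, 2, 0],
  [5, 1, 3, 5, 0],
  [2, 4, 5, 1, 5, 1, 0],
  [4, 0, 5, 5, 4, 2],
  [1, 5, 5, 0, 5, 1, 1],
  [4, 5, 5, 0, 1, 0],
  [2, 4, 0, 1, 3, 1],
  [3, 5, 5, 3, 5, 0, 0],
  [2, 4, 5, 0, 1, 2]]

/-- part 26 of the class -/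
def vOrb26 : List (List ℕ) := [
  [0, 5, 3, 1, 3, 2],
  [1, 3, 5, 1],
  [0, 4, 5, 3, 2],
  [0, 5, 0, 2, 0, 0],
  [1, 0, 2, 1, 1, 3, 5, 0],
  [1, 2, 4, 5],
  [4, 5, 4, 0, 1, 1],
  [4, 3, 2, 1, 5],
  [3, 1, 3, 1, 5, 0],
  [1, 1, 5, 3, 2, 0],
  [2, 2, 0, 2, 0, 0],
  [4, 2, 1, 5, 5, 1, 0],
  [5, 0, 4, 0, 5, 5],
  [0, 5, 4, 0, 5, 4, 0],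
  [5, 1, 3, 2, 0, 0],
  [5, 4, 3, 2, 4, 2],
  [4, 2, 0, 1, 0],
  [5, 3, 1, 5, 1, 0, 0],
  [4, 2, 3, 4, 2, 1],
  [3, 1, 5, 3, 2],
  [4, 2, 3, 5, 5, 0],
  [4, 0, 5, 0, 0],
  [5, 5, 1, 1, 5, 1],
  [0, 4, 0, 4, 5, 5],
  [3, 2, 3, 1, 0, 2],
  [2, 3, 1, 0, 2, 2, 2],
  [2, 2, 2, 1, 5, 0],
  [0, 4, 5, 1, 1, 0, 0],
  [4, 3, 1, 5],
  [2, 1, 0, 5, 5],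
  [1, 0, 5, 5, 5, 1, 2],
  [4, 0, 5, 4, 5],
  [5, 5, 3, 4],
  [4, 3, 1, 5, 1, 3],
  [1, 2, 0, 2, 4, 2],
  [3, 4, 2, 3, 1, 1],
  [4, 5, 0, 4, 5],
  [5, 0, 4, 5, 0, 0],
  [1, 2, 0, 2, 1, 2],
  [5, 3, 2, 1, 1, 2],
  [3, 2, 1, 0, 0, 2],
  [0, 2, 0, 1, 1, 0],
  [1, 3, 1, 5, 1, 3, 4],
  [1, 5, 3, 5, 1],
  [2, 2, 2, 4, 0, 2, 0],
  [3, 2, 3, 4, 3],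
  [0, 2, 0, 0, 2],
  [1, 1, 3, 2, 1, 0, 0],
  [2, 4, 5, 1, 5, 0],
  [1, 1, 0, 2, 1, 1],
  [2, 1, 3, 1, 2, 1],
  [5, 5, 1, 3, 4, 5],
  [2, 2, 3, 5, 5],
  [0, 5, 4, 5, 1, 0],
  [0, 2, 0, 2, 2, 0, 1],
  [1, 3, 1, 3, 5, 0],
  [1, 5, 3, 2, 3, 1],
  [3, 2, 4, 5, 5, 0],
  [1, 2, 1, 2, 2, 2],
  [4, 0, 4, 0, 0, 5, 0],
  [1, 0, 2, 2, 0, 2],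
  [4, 2, 4, 3, 5, 1, 0],
  [2, 3, 1, 0, 5, 4, 0],
  [5, 1, 5, 1, 0],
  [1, 0, 1, 2, 2, 2],
  [4, 5, 5, 5, 4, 2],
  [3, 1, 0, 1, 2, 1],
  [2, 2, 1, 5, 3, 2],
  [1, 0, 1, 1, 5],
  [1, 0, 2, 4, 2, 1],
  [5, 1, 3, 4, 2, 2],
  [5, 4, 5, 5, 0, 5],
  [2, 1, 3],
  [5, 0, 2, 0, 4, 3],
  [5, 5, 4, 5, 0, 1, 2],
  [5, 3, 2, 3, 1, 0, 0],
  [2, 3, 1, 2, 3, 2, 2],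
  [5, 1, 0, 4, 5, 0],
  [0, 5, 1, 5, 3],
  [1, 3, 1, 5, 0, 4],
  [4, 5, 1, 2],
  [0, 1, 5, 1, 5],
  [3, 4, 2, 4, 5, 0, 0],
  [2, 2, 0, 5, 4, 5],
  [0, 1, 2, 0, 5, 5],
  [0, 1, 2, 0, 1],
  [5, 1, 3, 1, 5, 1],
  [2, 3, 2, 1, 5, 1, 1],
  [5, 1, 1, 5, 4, 3],
  [2, 4, 5, 0, 4, 2],
  [0, 4, 0, 2, 2, 4, 0],
  [0, 5, 5, 5, 4, 3],
  [5, 3, 5, 1, 3, 1],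
  [3, 1, 3, 5, 0, 5],
  [4, 0, 2, 0, 2, 0, 0],
  [1, 5, 1, 2],
  [1, 1, 3, 1, 5, 5, 0],
  [5, 0, 4, 0, 4, 5],
  [3, 1, 5, 5, 0],
  [1, 3, 5, 4, 0, 2],
  [0, 1, 5, 0, 5, 1],
  [5, 3, 4, 3],
  [4, 2, 3, 1, 2, 1],
  [2, 0, 2, 0, 1],
  [0, 0, 1, 2, 1, 1],
  [2, 0, 5, 1, 5],
  [2, 0, 5, 4, 5, 1, 1],
  [2, 2, 3, 4, 3],
  [3, 5, 0, 1, 1, 0],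
  [0, 2, 0, 1, 0, 5],
  [3, 5, 4, 5, 3],
  [1, 5, 1, 0, 0],
  [0, 5, 1, 3, 5, 0],
  [1, 2, 2, 3, 4, 5, 1],
  [5, 5, 0, 1, 5, 3],
  [5, 1, 0, 0, 5, 1],
  [3, 5, 5, 0, 2, 2],
  [2, 4, 5, 5, 0],
  [0, 5, 5, 0, 1],
  [1, 0, 5, 4, 3, 5, 1],
  [5, 1, 1, 5, 3],
  [1, 3, 5, 5, 1, 3],
  [1, 5, 1, 5, 4, 2],
  [3, 1, 5, 0, 1, 1],
  [0, 4, 3, 5, 5, 1, 5],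
  [2, 4, 5, 0, 1, 3],
  [3, 2, 0, 0, 1, 0],
  [2, 0, 0, 2, 4, 2],
  [3, 4, 0, 5, 1],
  [1, 5, 1, 5, 5, 5],
  [3, 4, 5, 5, 1, 1, 0],
  [0, 0, 5, 5, 1, 0],
  [5, 3, 5, 5, 1],
  [0, 5, 5, 1, 5, 0, 2],
  [3, 2, 0, 1, 5, 4],
  [1, 0, 2, 2, 2],
  [5, 0, 1, 0, 1, 2, 1],
  [3, 4, 5, 4, 5, 1],
  [5],
  [1, 0, 1, 3, 5, 0, 0],
  [2, 0, 0, 2, 2, 0, 0],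
  [2, 2, 0, 0, 4, 2],
  [3, 2, 0, 1, 2, 4],
  [0, 2, 0, 4, 0, 5],
  [5, 3, 1, 0, 2],
  [3, 2, 4, 0, 4, 5],
  [2, 3, 2, 1, 2, 0, 1],
  [1, 1, 5, 1, 1],
  [1, 1, 3, 5, 0, 4],
  [1, 3, 4, 0, 0, 2],
  [4, 3, 4, 3, 2, 4, 0],
  [2, 1, 3, 5, 5, 3],
  [3, 5, 5, 5, 4, 3],
  [1, 3, 5, 5, 4, 0, 2],
  [1, 1, 3, 5, 1, 1],
  [2, 1, 5, 3, 1, 5, 1],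
  [1, 1, 3, 5, 0],
  [1, 0, 2],
  [1, 1, 0, 5, 1],
  [1, 1, 5, 1],
  [0, 0, 4, 5, 5, 0],
  [0, 5, 3, 1, 0, 2],
  [1, 5, 5, 1, 0, 5],
  [4, 3, 1, 0, 1, 2],
  [1, 2, 0, 5, 5, 0, 0],
  [1, 1, 5, 0, 0],
  [1, 0, 5, 3, 2, 2],
  [4, 3, 1, 2, 3],
  [1, 1, 0],
  [2, 4, 5, 5, 3, 2, 3],
  [0, 2, 0, 0],
  [0, 2, 3, 5, 3, 5, 0],
  [3, 1, 0, 0, 2],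
  [5, 4, 3, 5, 4, 5, 1],
  [4, 3, 1, 1, 2],
  [2, 4, 3, 5, 0, 4],
  [0, 4, 5, 0, 1],
  [3, 5, 1, 5, 0, 0],
  [3, 1, 0, 2, 2, 1, 1],
  [4, 2, 0, 2, 1, 1],
  [1, 1, 5, 4, 3],
  [3, 1, 1, 2, 2, 0],
  [2, 2, 4, 5, 1],
  [1, 3, 5, 3, 1, 3],
  [0, 1, 2, 0],
  [3, 1, 1, 0, 1],
  [0, 4, 3, 2, 0],
  [4, 0, 1, 0, 1],
  [1, 3, 5, 5, 0],
  [1, 0, 5, 4, 2],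
  [1, 3, 5, 5, 1, 0],
  [4, 2, 4, 3, 5, 4],
  [1, 3, 2, 2, 1, 0],
  [1, 0, 1, 1, 3],
  [4, 0, 2, 1, 1, 0],
  [5, 3, 4, 5, 0],
  [4, 5, 3, 5, 1, 3],
  [5, 5, 1, 5, 1, 0],
  [5, 1, 2, 0, 4, 0],
  [5, 0, 1, 1, 5, 0, 0],
  [3, 4, 2, 0, 2, 0, 0],
  [4, 2, 1, 5, 0, 2],
  [1, 5, 1, 0, 1, 3],
  [1, 3, 4, 2, 2, 1],
  [2, 3, 2, 1, 5, 4, 0],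
  [2, 0, 0, 2],
  [4, 0, 1, 5, 0, 2, 1],
  [5, 3, 4, 2, 3, 2],
  [0, 4, 0, 5],
  [5, 3, 2, 3, 2, 0, 1],
  [0, 4, 2, 4, 0, 2, 1],
  [5, 0, 4, 5, 1, 2],
  [5, 5, 5, 4, 0, 4],
  [5, 5, 0, 2, 0, 2],
  [2, 3, 1, 5, 4, 5],
  [2, 4, 3, 4, 5, 0, 0],
  [0, 1, 3],
  [2, 3, 4, 5, 1],
  [2, 0, 0, 4, 5, 5],
  [5, 0],
  [2, 4, 2, 1],
  [3, 4, 0, 5, 1, 0],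
  [0, 5, 0, 1, 1, 5],
  [1, 0, 2, 2, 3, 1],
  [1, 5, 5, 3, 2],
  [0, 5, 0, 4, 0, 0],
  [5, 0, 0, 4, 5, 4],
  [3, 1, 2, 2, 2],
  [0, 0, 1, 2, 4],
  [0, 5, 3, 5, 5, 0],
  [5, 1, 5, 3, 5, 5, 0],
  [4, 0, 0],
  [2, 3, 1, 0, 2, 2],
  [1, 1, 0, 0, 4, 5, 1],
  [0, 0, 4, 5],
  [5, 4, 3, 5, 1, 1],
  [4, 5, 5, 4, 0],
  [2, 4, 0, 5, 1, 1],
  [4, 3, 5, 3, 2],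
  [5, 0, 2, 0, 0, 1],
  [2, 0, 0, 4, 3, 5, 0],
  [0, 5, 5, 4, 0, 4, 0],
  [2, 2, 1, 0, 5],
  [0, 1, 0, 5, 1, 0],
  [3, 2, 0, 4, 3, 2, 0],
  [0, 0, 4, 0, 1],
  [0, 0, 1, 5, 1],
  [2, 3, 1, 3, 4],
  [1, 0, 5, 3, 2],
  [5, 3, 5, 0, 5],
  [1, 1, 0, 0, 1, 5],
  [4, 5, 0, 5, 5, 1, 1]]

/-- part 27 of the class -/
def vOrb27 : List (List ℕ) := [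
  [4, 3, 4, 5, 1, 1, 0],
  [1, 5, 3, 1, 5, 4],
  [5, 3, 2],
  [0, 1, 2, 0, 0, 2],
  [4, 5, 5, 1, 5],
  [1, 5, 3, 4, 5, 4],
  [3, 1, 2, 2, 1],
  [1, 0, 1, 5, 0],
  [4, 5, 5, 0, 1, 3],
  [0, 2, 1, 2, 0, 1],
  [4, 0, 0, 1, 1],
  [3, 1, 1, 5, 0, 4],
  [5, 5, 0, 2, 0, 1],
  [2, 2, 3, 1, 1],
  [2, 1, 0, 0, 2, 0],
  [5, 0, 0, 4, 5],
  [1, 2, 2, 1, 1, 0, 0],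
  [2, 2],
  [2, 1, 0, 2, 4],
  [1, 2, 2],
  [0, 5, 5, 0, 0, 1, 0],
  [2, 3, 4, 0, 1, 0],
  [1, 5, 1, 5],
  [2, 2, 4],
  [2, 1, 1, 2],
  [4, 2, 2],
  [2, 0, 0, 1, 0, 1],
  [2, 2, 4, 3, 1, 0],
  [2, 1, 2, 4, 0, 0],
  [2, 4, 2, 4, 0, 0],
  [2, 2, 1, 1, 0, 0],
  [5, 1, 5],
  [5, 1, 5, 1, 5, 4],
  [1, 2, 2, 4],
  [0, 5, 3, 2, 2, 1],
  [2, 2, 2, 0, 5, 3],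
  [5, 0, 2, 2, 3, 1],
  [4, 5, 4, 3, 1, 0],
  [1, 1, 3, 1, 1, 0],
  [3, 1, 2, 2, 1, 2, 1],
  [4, 3, 2, 4, 5, 1],
  [4, 5, 1, 5, 5, 1, 0],
  [4, 3, 5, 1, 1, 0],
  [4, 5, 5, 0, 1, 1],
  [5, 5, 4, 0, 0],
  [5, 0, 5, 4, 3],
  [5, 3, 5, 1, 0],
  [0, 0, 2, 2, 2],
  [0, 0, 2, 0, 2, 2],
  [4, 5, 3, 4, 5, 3],
  [2, 4, 3, 2, 2, 2],
  [5, 3, 5, 4, 0, 2],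
  [5, 5, 0, 1, 0, 1, 0],
  [5, 5, 5, 3, 1, 0, 1],
  [0, 1, 1, 5, 1, 0, 2],
  [5, 5, 5, 3, 4, 0, 1],
  [5, 5, 5, 1, 2],
  [0, 4, 0],
  [2, 1, 2, 2, 1, 1],
  [4, 3, 2, 4, 5],
  [2, 4, 0, 1, 1],
  [4, 2, 1, 0, 4],
  [5, 3, 1, 5, 0, 0],
  [3, 2, 0, 0, 2, 0, 0],
  [5, 0, 5, 5, 1, 0, 0],
  [4, 2, 3, 1, 0, 0],
  [0, 1, 2, 3, 4, 5, 1],
  [2, 2, 2, 4, 5, 3],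
  [4, 3, 2, 4, 0],
  [1, 3, 1, 1, 5],
  [3, 5, 4, 5, 1, 1],
  [2, 0, 1, 5, 0],
  [3, 5, 0, 1, 0, 2, 0],
  [5, 0, 0, 1, 0, 5],
  [1, 1, 5, 0, 2, 1],
  [1, 3, 1, 1, 2, 1],
  [1, 0, 2, 4, 0],
  [1, 3, 2, 4],
  [1, 3, 4, 5, 5],
  [4, 5, 4, 0, 5, 3],
  [0, 2, 2, 1, 2, 4, 0],
  [5, 5, 5, 1, 5],
  [2, 2, 4, 3, 2],
  [1, 5, 1, 3],
  [0, 1, 1, 0, 2, 2],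
  [4, 0, 2, 1],
  [5, 0, 1, 2, 2, 3],
  [4, 3, 1, 1, 3, 5, 4],
  [5, 5, 4, 0, 4, 0, 0],
  [5, 1, 0, 2, 1],
  [0, 1, 1, 2, 2, 0],
  [4, 5, 1, 1, 3],
  [0, 5, 3, 2, 0, 0],
  [2, 2, 4, 3, 4, 2, 1],
  [3, 2, 4, 3, 2],
  [4, 2, 1, 3, 5, 1],
  [0, 1, 2, 0, 0],
  [4, 0, 4, 2, 2, 3],
  [4, 0, 2, 2],
  [1, 1, 5, 1, 3, 2],
  [5, 3, 1, 0],
  [3, 1, 3, 5, 1, 3],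
  [3, 1, 3, 2, 3, 2],
  [2, 2, 3, 4, 2, 1],
  [4, 2, 3, 4, 5, 4],
  [3, 2, 3, 5, 5, 5],
  [2, 0, 5, 5, 1, 5],
  [2, 4, 0, 4, 0, 2],
  [4, 0, 5, 4, 0, 5, 0],
  [2, 0, 2, 2, 2, 1],
  [1, 1, 3, 5, 5, 1, 1],
  [3, 4, 2, 1, 0, 0],
  [1, 0, 5, 1, 1],
  [3, 1, 1, 3, 1, 2, 2],
  [1, 2, 4, 5, 3, 2],
  [5, 1, 0, 0, 4],
  [5, 5, 5, 1, 5, 5],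
  [4, 2, 3, 1, 5, 4, 0],
  [0, 0, 5, 5, 1, 1, 0],
  [5, 1, 0, 2, 2, 4, 2],
  [5, 5, 1, 3, 2, 0, 0],
  [2, 1, 5, 3, 4, 0, 1],
  [2, 1, 2, 1, 5, 1],
  [5, 1, 5, 5, 4, 3],
  [0, 1, 3, 5, 1, 5],
  [1, 5, 0, 5, 1, 0, 0],
  [3, 2, 2, 1, 5, 3],
  [3, 5, 0, 1, 3, 1],
  [4, 2, 2, 1, 3, 1],
  [2, 4, 2],
  [0, 5, 5, 0, 4],
  [2, 2, 0, 4, 0],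
  [4, 0, 2, 3, 1, 0, 2],
  [2, 0, 2, 2, 1, 0],
  [5, 0, 1, 2, 2, 1, 1],
  [1, 0, 1, 5, 0, 4],
  [1, 5, 0, 0, 2, 0],
  [4, 5, 5, 0, 0, 1, 0],
  [4, 0, 1, 5, 4, 0],
  [4, 3, 2, 2],
  [2, 3, 2, 1, 1, 0, 0],
  [5, 5, 3, 5, 5, 0],
  [1, 5, 4, 5, 5, 4],
  [4, 3, 2, 1, 1, 2],
  [4, 3, 5, 1, 5],
  [1, 3, 2, 1, 1, 5],
  [2, 3, 5, 1, 0, 0],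
  [3, 4, 5, 1, 5, 3],
  [2, 1, 5, 4, 5],
  [2, 3, 1, 2, 1, 1, 0],
  [4, 5, 5, 0, 4],
  [2, 1, 3, 2, 2, 1],
  [3, 4, 3, 5, 1],
  [5, 5, 3, 4, 5],
  [3, 5, 5, 1, 0, 0],
  [4, 5, 0, 5, 0],
  [1, 5, 0, 5, 4, 3],
  [4, 3, 1, 1, 0],
  [5, 4, 3, 1, 0],
  [2, 4, 2, 1, 5],
  [3, 5, 3, 2, 4, 2],
  [1, 5, 3, 5, 1, 0],
  [3, 2, 4, 5, 4, 0, 0],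
  [5, 3, 5, 4, 2],
  [3, 5, 1, 1, 0],
  [3, 2, 4, 3, 2, 0],
  [3, 2, 4, 5, 1],
  [1, 5, 5, 4, 0, 0],
  [3, 1, 5, 0, 5],
  [3, 2, 4, 5],
  [1, 0, 4, 0],
  [3, 2, 0, 2, 2, 3],
  [5, 3, 4, 5, 3],
  [3, 2, 0, 2, 1, 2],
  [2, 3, 2, 2, 0, 2],
  [2, 2, 1, 5, 5, 5],
  [5, 4, 0, 2, 0, 0],
  [3, 2, 4, 0, 5, 1, 0],
  [5, 1, 5, 5, 1, 0],
  [5, 5, 0, 1, 1],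
  [0, 1, 1, 5, 4, 0],
  [4, 0, 4, 5, 1],
  [5, 1, 2, 4, 5, 0],
  [0, 1, 3, 1, 5, 3],
  [0, 1, 1, 3, 5, 3],
  [5, 0, 2, 2, 1, 5, 0],
  [1, 5, 5, 0, 0, 1],
  [4, 3, 2, 4, 3, 5, 3],
  [4, 5, 5, 1, 0, 2, 1],
  [4, 0, 2, 4, 5, 0, 0],
  [3, 5, 3, 5, 4, 5],
  [5, 4, 0, 2, 1],
  [5, 5, 0, 1, 5, 5],
  [0, 1, 3, 5, 5],
  [4, 0, 1, 1, 5, 4],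
  [5, 5, 0, 0, 4],
  [2, 4, 3, 2, 2, 3, 1],
  [2, 1, 1, 3, 5, 0, 0],
  [5, 4, 3, 4, 5, 4],
  [5, 1, 3, 4, 5, 0],
  [5, 0, 1, 5, 1, 0, 0],
  [5, 5, 5, 4, 3],
  [4, 2, 1, 0, 2, 1],
  [1, 0, 0, 1, 5, 0],
  [2, 0, 5, 4, 5],
  [5, 5, 3, 4, 5, 1, 0],
  [1, 3, 1, 5, 3],
  [1, 1, 0, 2, 2, 1, 0],
  [5, 1, 5, 0],
  [1, 3, 1, 1, 5, 1],
  [4, 3, 2, 1, 1, 2, 1],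
  [1, 1, 3, 5, 0, 2],
  [4, 2, 4, 0, 5, 0],
  [4, 0, 4, 3, 5, 4],
  [5, 0, 1, 1, 5, 0],
  [0, 2, 3, 1, 1, 5, 1],
  [2, 1, 0, 2, 0, 0, 2],
  [4, 2, 3, 2, 0, 1],
  [1, 3, 4, 5, 5, 0, 2],
  [0, 4, 5],
  [5, 4, 3, 4, 5, 5],
  [0, 2, 2, 1, 3, 5, 0],
  [0, 0, 4, 5, 1, 1],
  [2, 3, 1, 5],
  [0, 5, 4, 5, 1, 1, 0],
  [4, 5, 5, 0, 5, 0, 0],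
  [0, 4, 0, 4, 5, 1],
  [2, 2, 2, 0, 2, 2],
  [0, 0, 1, 2, 2, 1, 1],
  [2, 3, 1, 1],
  [1, 0, 2, 4, 0, 0],
  [0, 0, 2, 2, 3],
  [1, 0, 1, 3, 1],
  [2, 4, 0, 2, 1, 0],
  [0, 4, 5, 4, 2],
  [1, 5, 4, 0],
  [4, 0, 0, 5, 1, 0],
  [0, 4, 3],
  [4, 5, 5, 0, 4, 3],
  [0, 4, 5, 0, 2, 0],
  [2, 3, 4, 2, 4],
  [5, 3, 5, 0, 4, 0, 0],
  [2, 2, 2, 0, 2, 0, 0],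
  [1, 5, 0, 4, 2, 2, 0],
  [3, 2, 0, 5, 0, 0],
  [2, 0, 1, 0, 0],
  [0, 2, 3, 1, 5, 1],
  [0, 0, 4, 2, 2, 0],
  [0, 5, 0, 5, 5, 3],
  [4, 5, 3, 1, 1],
  [3, 1, 0, 1, 3, 2],
  [4, 2, 4, 0, 0]]

/-- part 28 of the class -/
def vOrb28 : List (List ℕ) := [
  [0, 4, 5, 3, 2, 2, 1],
  [2, 1, 2, 3],
  [0, 4, 2, 1, 2, 2],
  [1, 2, 4, 3, 2, 2],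
  [0, 4, 0, 5, 0, 0],
  [2, 4, 2, 4, 3, 2, 0],
  [2, 2, 4, 2, 4],
  [2, 2, 0, 2, 0, 4],
  [1, 2, 2, 0, 2],
  [4, 2, 0, 0, 2, 1],
  [1, 3, 2, 3, 1, 1, 0],
  [0, 0, 4, 0, 5, 3],
  [5, 0, 1, 2, 0],
  [3, 1, 1, 3, 4, 5],
  [1, 0, 0, 4, 0, 5, 0],
  [4, 0, 2, 3, 2, 4, 0],
  [0, 0, 5, 5, 4],
  [2, 1, 3, 2, 3],
  [2, 2, 3, 1, 1, 0],
  [5, 0, 1, 0, 0, 2, 0],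
  [1, 3, 1, 0, 4, 2, 1],
  [2, 4, 2, 1, 2, 0],
  [4, 0, 2, 4, 3],
  [5, 1, 0, 4, 5],
  [4, 3, 1, 5, 4],
  [0, 1, 5, 0, 4, 2, 1],
  [1, 5, 0, 1, 3],
  [4, 0, 5, 3, 1, 1, 2],
  [2, 4, 2, 3, 1, 1, 0],
  [2, 0, 0, 1, 2, 3],
  [2, 1, 1, 2, 1],
  [1, 2, 2, 0],
  [3, 5, 0, 5],
  [2, 1, 0, 4, 2, 2],
  [0, 4, 2, 1],
  [2, 3, 5, 3],
  [0, 4, 2, 4],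
  [1, 1, 0, 0, 5, 0],
  [1, 3, 1, 3, 5, 5],
  [3, 4, 0, 1, 5, 5],
  [0, 2, 4, 5, 5],
  [0, 4, 5, 4],
  [2, 2, 1, 1, 0, 5],
  [0, 1, 1],
  [0, 1, 3, 5, 3],
  [5, 3, 5, 5, 0, 1],
  [0, 5, 0, 5, 0, 2],
  [4, 3, 1, 3, 2, 1],
  [5, 3, 2, 0, 4, 2],
  [2, 2, 3, 5, 3, 2],
  [0, 2, 2, 3, 4, 3],
  [1, 0, 2, 3, 2, 2],
  [5, 5, 3, 1, 0, 2, 4],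
  [1, 0, 2, 2, 0, 1],
  [3, 4, 5, 4, 0, 2],
  [4, 0, 5, 0, 2],
  [5, 3, 5, 3, 1, 5],
  [0, 2, 1, 1, 5],
  [5, 5, 5, 0, 2, 0, 0],
  [2, 3, 2, 1, 5, 5],
  [4, 0, 1, 3, 2, 1],
  [1, 3, 4, 5, 1, 0, 0],
  [2, 3, 2, 1, 0, 2],
  [0, 2, 0, 1, 0, 1],
  [2, 3, 1, 1, 5, 1],
  [4, 2, 2, 2, 3],
  [5, 4, 5, 1, 1, 0],
  [1, 0, 1, 5, 5, 4],
  [5, 1, 0, 5, 0, 5],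
  [0, 5, 4, 0, 4],
  [3, 1, 1, 5, 3],
  [2, 3, 4, 0, 5],
  [2, 1, 0, 5, 5, 1],
  [4, 5, 1, 5, 0, 1],
  [5, 3, 5, 0, 0],
  [5, 4, 3, 5, 1, 0],
  [0, 2, 0],
  [3, 1, 1, 5, 4, 5, 0],
  [2, 2, 0, 0, 2],
  [4, 5, 4, 0, 0],
  [2, 4, 0, 2, 0],
  [0, 1, 5, 0, 1, 2, 1],
  [5, 1, 0, 2, 4, 2, 2],
  [4, 3, 2, 0],
  [2, 4, 5, 5, 0, 2],
  [0, 5, 1, 2, 2],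
  [3, 5, 5, 5, 3, 1],
  [2, 4, 3, 5, 4, 5, 0],
  [0, 2, 0, 2, 0, 4],
  [2, 0, 1, 1, 5, 4],
  [2, 4, 3, 5, 3],
  [0, 5, 5, 4, 0, 2],
  [0, 1, 2, 4, 5],
  [4, 0, 1, 5, 5],
  [0, 1, 0, 2, 2, 1, 1],
  [4, 5, 5, 0, 4, 5, 1],
  [2, 1, 2, 2, 1],
  [5, 0, 4, 5, 4],
  [1, 1, 5, 5, 5, 4],
  [5, 1, 1, 0, 1, 0],
  [5, 5, 3, 4, 5, 5],
  [1, 3, 2, 2, 1, 1],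
  [0, 5, 5, 5, 3, 2],
  [2, 2, 3, 4, 0, 4, 0],
  [3, 2, 4, 5, 0, 1],
  [4, 0, 1, 0, 2, 0],
  [2, 0, 2, 1, 0, 1],
  [0, 5, 0, 0, 4, 5, 0],
  [5, 1, 2, 1, 5, 3],
  [0, 2, 0, 2, 2],
  [1, 0, 4, 2, 0, 0],
  [2, 0, 4, 2, 0, 1, 0],
  [3, 2, 1, 1, 0, 5],
  [5, 3, 4, 5, 1, 3],
  [0, 2, 1, 2, 2, 2],
  [1, 5, 3, 1, 5, 0],
  [1, 2, 1, 0, 2, 2],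
  [0, 1, 0, 2, 2, 1],
  [5, 0, 5, 1, 0, 5],
  [2, 3, 1, 5, 3],
  [0, 1, 2, 1, 1],
  [0, 5, 4, 5, 0, 0],
  [1, 5, 5, 3, 2, 2],
  [5, 0, 0, 4],
  [5, 5, 0, 2, 4, 0],
  [4, 0, 1, 0, 5, 1],
  [3, 4, 3, 4, 5],
  [5, 0, 5, 4, 0, 1],
  [2, 3, 2, 3],
  [1, 5, 4, 5, 4, 0],
  [3, 1, 5, 5, 0, 0],
  [0, 5, 0, 5, 1],
  [4, 5, 1, 5, 0, 4],
  [4, 0, 2, 3, 1, 2, 1],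
  [2, 1, 0, 5, 4, 0],
  [3, 4, 0, 2, 3, 2, 1],
  [1, 1, 5, 0, 0, 1],
  [0, 2, 1, 3],
  [1, 1, 5, 0, 2, 1, 0],
  [2, 4, 5, 3],
  [5, 3, 1, 1, 0, 2, 1],
  [0, 0, 1, 1, 5],
  [1, 0, 0, 1, 5, 0, 2],
  [5, 5, 0, 2, 2, 1],
  [0, 5, 4, 0, 1, 5, 1],
  [2, 2, 2, 1, 0],
  [2, 4, 2, 4, 5, 0, 0],
  [5, 0, 5, 4, 5, 3],
  [3, 2, 0, 5, 0, 1],
  [0, 5, 3, 4, 5, 0],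
  [0, 5, 4, 5, 5, 1],
  [0, 2, 4, 0, 4, 5, 0],
  [2, 1, 5, 5, 0, 2, 1],
  [4, 5, 5, 0, 1, 2, 0],
  [4, 0, 4, 5, 5],
  [4, 5, 3, 5, 4, 0],
  [5, 0, 5, 0, 1, 1],
  [5, 5, 1, 1, 5, 0],
  [4, 0, 2, 1, 5, 0, 0],
  [5, 5, 3, 2, 3],
  [5, 3, 5, 3, 1, 1, 0],
  [4, 2, 2, 1, 5, 5],
  [0, 2, 0, 1, 5, 1],
  [3, 5, 0, 0, 4],
  [5, 4, 3, 5, 5, 0, 1],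
  [0, 5, 1, 1, 5, 3],
  [2, 4, 5, 0, 0],
  [5, 3],
  [3, 2, 1, 1, 5, 1],
  [5, 0, 1, 5, 5, 1, 0],
  [2, 0, 0, 5, 4, 3],
  [5, 4, 5, 1, 5, 0, 1],
  [5, 5, 0, 2, 0],
  [5, 5, 0, 0, 5, 0],
  [5, 5, 0, 1, 3, 1],
  [3, 5, 4],
  [0, 1, 0, 2, 2, 2],
  [5, 4, 0, 5, 4, 3],
  [1, 0, 1, 0],
  [5, 5, 4, 0, 4, 3],
  [0, 4, 5, 0, 1, 5, 1],
  [5, 5, 1, 1, 0, 2],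
  [0, 4, 2, 2, 4, 3, 2],
  [0, 5, 4, 3, 4, 5, 5],
  [3, 5, 4, 3],
  [4, 0, 2, 0, 2, 1, 0],
  [1, 5, 5, 5, 3, 1],
  [3, 2, 0, 5, 5],
  [5, 1, 5, 1, 3, 1],
  [1, 0, 2, 0, 1, 5],
  [0, 5, 5, 1, 1],
  [4, 0, 5, 0, 1],
  [4, 5, 5],
  [5, 0, 1],
  [5, 1, 3, 5, 1],
  [4, 0, 4, 5, 3, 4],
  [0, 4, 2, 0, 2],
  [2, 2, 2, 1, 1, 5],
  [2, 0, 2, 1, 0, 0],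
  [5, 3, 1, 3, 5, 3],
  [5, 4, 5, 0, 4, 0, 1],
  [2, 0, 5, 4, 5, 0, 0],
  [4, 5, 4, 3, 4, 0, 0],
  [2, 1, 3, 1, 2, 0, 0],
  [4, 0, 5, 4, 0, 5],
  [0, 4, 5, 3, 2, 0, 0],
  [4, 5, 0, 5, 5, 4],
  [1, 5, 3, 5, 0, 5, 0],
  [5, 0, 2, 0, 2],
  [4, 5, 5, 4, 5, 5],
  [0, 5, 5, 1, 5, 5],
  [1, 3, 5, 4, 2],
  [1, 2, 4, 3, 1, 0, 2],
  [4, 5, 0, 5, 1],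
  [5, 1, 0, 4, 3],
  [3, 1, 0, 5, 1],
  [0, 4, 5, 5, 0],
  [3, 1, 1, 0, 5, 1],
  [2, 1, 0, 2, 4, 2, 1],
  [0, 1, 5, 5, 4, 5, 1],
  [0, 0, 1, 2, 4, 5],
  [0, 4, 5, 0, 5, 1, 1],
  [1, 2, 3, 2, 2, 1],
  [3, 1, 1, 5, 0, 0, 1],
  [5, 5, 0, 0, 1],
  [3, 5, 5, 1, 5, 4, 0],
  [5, 0, 2, 0, 5, 5],
  [1, 5, 4, 2, 1, 5, 0],
  [4, 0, 1, 3, 5, 5],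
  [2, 2, 2, 1, 0, 4],
  [1, 3, 2, 0, 4, 0],
  [5, 4, 3, 4, 5, 0, 0],
  [4, 5, 5, 0, 0, 4],
  [4, 5, 1, 3, 4, 5, 0],
  [0, 1, 1, 5, 1, 0],
  [3, 1, 2, 1, 0, 5],
  [2, 4, 0, 5, 5, 0, 2],
  [4, 5, 4, 0, 2, 1],
  [0, 0, 1, 5, 0],
  [5, 3, 2, 2, 1, 0],
  [4, 3, 5, 5, 0, 5],
  [3, 4, 0, 1],
  [3, 2, 4, 5, 5, 1],
  [1, 5, 1, 3, 1, 2, 2],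
  [1, 5, 0, 5, 1, 5],
  [4, 5, 5, 0, 2],
  [2, 4, 2, 2, 0, 0],
  [4, 3, 2, 1, 5, 1, 1],
  [1],
  [5, 5, 4, 5, 5, 1],
  [4, 5, 3, 5, 1, 1],
  [3, 5, 0, 2, 1]]

/-- part 29 of the class -/
def vOrb29 : List (List ℕ) := [
  [2, 1, 2, 1, 2, 0],
  [2, 0, 1, 5, 5, 1, 1],
  [3, 5, 5, 0, 5, 1],
  [0, 0, 4, 5, 5],
  [2, 4, 5, 3, 1, 0],
  [4, 5, 3, 5, 3, 2],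
  [4, 5, 5, 1, 1, 3],
  [4, 2, 2, 1, 5],
  [5, 4, 0, 4, 5, 3],
  [4, 5, 0, 5, 1, 0],
  [0, 0, 2, 4, 5, 0],
  [2, 4, 0, 5, 4, 3],
  [4, 0, 5, 0, 2, 0],
  [0, 1, 5, 1, 0],
  [3, 4, 2, 2, 3, 2],
  [5, 5, 4, 5, 5, 0, 1],
  [5, 5, 3, 2, 1, 0],
  [0, 1, 3, 5, 4, 0, 0],
  [0, 1, 3, 5, 1],
  [0, 1, 5, 3, 1, 0, 0],
  [1, 3, 4, 5, 1, 3],
  [4, 3, 2, 0, 0],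
  [0, 2, 4, 2, 2, 2],
  [0, 1, 0, 0, 2, 0],
  [1, 3, 4, 5],
  [0, 1, 0, 5, 1, 0, 0],
  [1, 3, 5, 5, 1, 3, 2],
  [0, 1, 1, 5, 5, 0],
  [4, 3, 4, 5, 1, 0],
  [2, 0, 1, 2, 3, 2],
  [4, 3, 4, 5, 0, 0],
  [1, 0, 4, 3, 2],
  [0, 5, 5, 5, 0, 5],
  [0, 2, 0, 5, 5],
  [4, 0, 5, 3, 2, 0],
  [0, 1, 5, 4],
  [0, 2, 2, 1, 0],
  [0, 2, 0, 4, 0],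
  [1, 1, 5, 1, 5, 0],
  [3, 5, 0, 2],
  [0, 1, 5, 4, 5],
  [4, 3, 1, 1, 5, 1],
  [3, 4, 2, 4, 3, 2],
  [4, 2, 3, 5, 5],
  [2, 1, 0, 2, 0, 2],
  [2, 3, 2, 4, 2, 2],
  [0, 1, 0, 2, 2],
  [3, 2, 4, 3],
  [5, 1, 0, 1, 5, 4],
  [1, 2, 1, 5, 0, 0],
  [3, 5, 3, 2, 2, 2],
  [2, 2, 4, 3, 4, 0, 2],
  [1, 5, 5, 0, 5, 0, 0],
  [0, 1, 2, 2, 0, 0],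
  [1, 1, 0, 4, 5],
  [5, 3, 5, 5, 4, 0, 0],
  [2, 0, 4, 2, 1],
  [0, 2, 4, 5, 1, 0],
  [3, 2, 1, 1],
  [5, 5, 0, 5, 4, 5],
  [4, 3, 2, 0, 5],
  [3, 5, 0, 5, 5],
  [0, 2, 0, 4, 0, 2, 1],
  [1, 5, 1, 5, 0, 1, 0],
  [2, 1, 5, 4, 5, 1, 0],
  [2, 0, 2, 2, 0, 5, 3],
  [0, 5, 0, 5, 5],
  [1, 2, 2, 2, 0],
  [2, 0, 2],
  [4, 2, 0, 1, 1, 0],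
  [4, 3, 1, 0, 5, 5],
  [3, 1, 3, 1, 0, 0],
  [1, 2, 0, 2, 2, 3],
  [4, 2, 4, 5, 5, 4, 0],
  [2, 3, 2, 3, 4, 2],
  [1, 2, 1, 1, 0, 0],
  [2, 0, 2, 0, 4],
  [2, 2, 2, 4, 0, 5],
  [2, 4, 3, 1, 1, 2],
  [5, 5, 1, 5, 0, 0],
  [2, 3, 2, 1, 3, 1],
  [4, 2, 3, 1, 2, 0],
  [1, 0, 5, 5, 3],
  [5, 5, 1, 5, 3, 4],
  [2, 4, 2, 2, 2],
  [0, 2, 4, 5, 4, 3],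
  [0, 2, 2, 0, 5, 3],
  [0, 1, 0, 5, 5, 3],
  [5, 0, 2, 3, 1],
  [1, 5, 0, 5, 1],
  [4, 5, 5, 1, 1, 0],
  [3, 4, 3, 4, 2, 2],
  [1, 3, 2, 3, 1, 2, 0],
  [2, 4, 2, 2, 4, 2],
  [2, 2, 4, 0, 2, 0, 0],
  [1, 5, 4, 3, 4, 0, 0],
  [4, 2, 3, 5, 5, 0, 0],
  [5, 5, 4, 0, 2],
  [1, 1, 5, 0, 1],
  [0, 0, 5, 0, 5, 0, 0],
  [1, 0, 5, 0, 1],
  [1, 5, 5],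
  [1, 5, 3, 1, 2, 1, 1],
  [3, 4, 2, 1, 5],
  [2, 4, 5, 5, 0, 1, 1],
  [0, 5, 4, 3, 2, 2],
  [5, 1, 3, 5, 0, 2],
  [5, 1, 0, 2, 0, 0],
  [3, 4, 2, 2, 2, 0],
  [5, 1, 5, 0, 2, 1, 0],
  [3, 5, 5, 5, 1, 2],
  [3, 5, 5, 1],
  [0, 0, 1, 1, 5, 4, 3],
  [4, 0, 2, 0, 1, 5],
  [0, 4, 5, 0, 4],
  [0, 5, 4, 5, 5, 3],
  [2, 0, 4, 0, 2, 1],
  [3, 1, 0, 1, 5, 1],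
  [4, 5, 3, 4, 3, 2, 0],
  [4, 3, 5, 4, 2],
  [0, 1, 3, 5, 4, 0],
  [4, 3, 5, 4, 5, 1],
  [0, 2, 4, 3, 2],
  [2, 2, 1, 2, 0],
  [3, 1, 2, 2, 0, 0],
  [4, 0, 5, 5, 5, 4],
  [0, 1, 1, 0, 5, 1],
  [2, 1, 5, 1, 2],
  [1, 3, 1, 0],
  [2, 2, 4, 5, 5, 0],
  [4, 3, 2, 3, 5, 5],
  [1, 2, 0, 2, 1, 2, 2],
  [5, 0, 2, 4, 0, 0],
  [5, 0, 4, 2, 1],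
  [0, 1, 2, 1, 2, 1],
  [0, 0, 2, 0, 4],
  [0, 2, 0, 2, 2, 1, 0],
  [5, 3, 5, 5, 0, 0],
  [3, 1, 2, 3, 4, 5, 1],
  [4, 0, 4, 2, 2],
  [5, 3, 1, 0, 1, 2],
  [5, 4, 0, 4, 3, 2, 0],
  [1, 0, 2, 4, 5, 1],
  [2, 1, 1],
  [3, 4, 0, 5, 4, 0],
  [1, 2, 0, 4, 5, 0, 0],
  [4, 5, 3, 5, 4, 3],
  [3, 2, 1, 1, 5, 1, 0],
  [3, 2, 2, 3, 1],
  [4, 5, 5, 3, 5, 0],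
  [4, 5, 5, 3, 1, 3],
  [1, 0, 2, 0, 5, 5, 0],
  [0, 2, 1, 2, 3],
  [4, 2, 2, 3, 2],
  [0, 2, 2, 1, 5, 1],
  [2, 3, 2, 2, 0, 4, 3],
  [2, 2, 2, 1, 3, 2],
  [2, 2, 1],
  [2, 1, 2, 3, 1, 1, 0],
  [4, 2, 2, 0],
  [1, 3, 1, 5, 4],
  [1, 0, 5, 3, 1, 1, 2],
  [4, 5, 0, 1, 3],
  [5, 1, 0, 1, 5, 0],
  [1, 1, 0, 4, 2, 1],
  [0, 0, 5, 0],
  [3, 2, 1, 1, 5, 4, 0],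
  [5, 3, 1],
  [1, 1, 0, 1, 1],
  [0, 5, 4, 5, 5, 4],
  [2, 0, 1, 2, 2, 2],
  [2, 4, 0, 2, 4, 5, 0],
  [5, 3, 1, 2, 2, 1],
  [2, 0, 2, 2, 3, 2],
  [5, 4, 3, 5, 0, 1, 2],
  [3, 2, 2, 4, 0],
  [3, 1, 5, 4, 0, 4],
  [5, 4, 3, 1, 0, 2, 1],
  [1, 3, 1, 3, 2, 1],
  [3, 2, 1, 5, 5, 1, 0],
  [4, 5, 5, 5, 4, 5, 0],
  [0, 1, 2, 3, 2, 1, 0],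
  [4, 3, 1, 3, 5, 5],
  [1, 0, 5, 0, 2],
  [0, 1, 0, 5, 4, 0],
  [2, 3, 4, 2, 2, 3],
  [0, 4, 0, 2, 0, 4],
  [0, 5, 5, 5, 4, 0],
  [1, 0, 5, 3, 1, 2, 1],
  [4, 0, 2, 2, 0, 1],
  [1, 1, 0, 4, 5, 4],
  [2, 0, 1, 5, 0, 0],
  [3, 2, 0, 2, 1, 5, 1],
  [5, 5, 0, 2, 2, 3],
  [0, 4, 5, 5, 4, 2],
  [2, 4, 2, 2, 2, 0, 1],
  [5, 0, 4, 2, 3, 2, 1],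
  [0, 0, 1, 5, 4],
  [0, 0, 2, 0, 4, 5],
  [4, 5, 5, 0, 1, 5, 4],
  [5, 3, 5, 4, 0, 5, 0, 0],
  [2, 1, 1, 5, 1, 0],
  [2, 0, 4, 5, 4, 0],
  [4, 5, 0, 1, 1, 2],
  [3, 1, 5, 5, 3],
  [5, 0, 5, 5, 1, 5, 0],
  [2, 1, 5, 5, 1, 1],
  [3, 1, 5, 4, 5, 5],
  [2, 1, 1, 0, 2, 1, 1],
  [1, 5, 4, 3, 2, 1],
  [5, 4, 0, 5, 1],
  [4, 0, 5, 1, 5, 1],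
  [2, 2, 1, 1, 5, 4],
  [5, 1, 1, 0, 2],
  [0, 2, 0, 0, 4, 3],
  [5, 4, 0, 2, 2, 2],
  [1, 3, 5, 4, 5],
  [5, 1, 2, 1, 5, 1, 0],
  [4, 5, 5, 5, 4, 0],
  [5, 4, 0, 4, 3, 2, 2],
  [5, 3, 1, 5, 1, 0],
  [3, 1, 5, 1, 5, 1, 0],
  [0, 1, 2, 2, 3],
  [0, 0, 2, 4, 5],
  [2, 1, 2, 2],
  [1, 5, 1, 3, 2, 1],
  [2, 4, 3, 4],
  [4, 3, 2, 0, 1, 0, 1],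
  [5, 0, 4],
  [1, 2, 3, 2, 4, 0],
  [1, 3, 5, 0, 1, 2, 0],
  [2, 0, 4, 3, 4, 5, 0],
  [4, 5, 4, 0, 2],
  [0, 4, 0, 5, 1, 0],
  [4, 0, 2, 0, 4, 2, 4],
  [1, 1, 3, 5, 0, 0],
  [2, 4, 5, 4, 5, 4],
  [2, 0, 1, 3, 1],
  [5, 4, 3, 5, 0],
  [3, 5, 3, 5, 3],
  [5, 0, 1, 3, 5, 0, 0],
  [0, 2, 4, 2, 2, 2, 0],
  [4, 2, 1, 2, 4, 5],
  [1, 0, 5, 3, 5, 0],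
  [0, 4, 5, 4, 5, 5, 4],
  [5, 5, 1, 0, 1],
  [1, 3, 2, 4, 3, 2, 2],
  [2, 2, 0, 5],
  [0, 2, 1, 1, 2],
  [1, 5, 4, 0, 5, 3, 2, 0],
  [2, 4, 5, 1, 0, 1],
  [5, 4, 5, 1, 0]]

/-- the blocks of the class -/
def vOrbCs : List (List (List ℕ)) := [vOrb0, vOrb1, vOrb2, vOrb3, vOrb4, vOrb5, vOrb6, vOrb7, vOrb8, vOrb9, vOrb10, vOrb11, vOrb12, vOrb13, vOrb14, vOrb15, vOrb16, vOrb17, vOrb18, vOrb19, vOrb20, vOrb21, vOrb22, vOrb23, vOrb24, vOrb25, vOrb26, vOrb27, vOrb28, vOrb29]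

end Cfsg.Agent.Spor.CoThreeCent
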