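import Cfsg.Agent.Lib.Spor.CoThreeCent.CheckDefs
import Cfsg.Agent.Lib.Spor.CoThreeCent.FusionData
import Cfsg.Agent.Lib.Spor.CoThreeCent.ClassData

/-!
Kernel checks for the involutions of a Sylow two-subgroup of the centralizer.
-/

set_option autoImplicit false
set_option maxRecDepth 100000
set_option maxHeartbeats 0
set_option Elab.async false

namespace Cfsg.Agent.Spor.CoThreeCent

open DCoset

/-- value of the `k`-th element of the Sylow subgroup -/
def sylV (k : ℕ) : ℕ := (look2 sylCs (0, 0, 0) k).2.2

/-- codes of the generators of the Sylow subgroup -/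
def sylG : List ℕ := sylW.map fun w => cert.ev mu w

/-- a row of the Sylow subgroup -/
def sylRow (k : ℕ) : Bool :=
  (bif Nat.beq k 0 then Nat.beq (sylV k) idC
   else Nat.blt (look2 sylCs (0, 0, 0) k).1 k && Nat.blt (look2 sylCs (0, 0, 0) k).2.1 sylG.length &&
     Nat.beq (sylV k) (mu (sylV (look2 sylCs (0, 0, 0) k).1) (sylG.getD (look2 sylCs (0, 0, 0) k).2.1 0))) &&
  (List.range sylG.length).all fun j =>
    Nat.blt ((look2 sylNCs [] k).getD j 1024) 1024 &&
      Nat.beq (sylV ((look2 sylNCs [] k).getD j 1024)) (mu (sylV k) (sylG.getD j 0))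

/-- an involution is central or listed -/
def invRow (k : ℕ) : Bool :=
  bif Nat.beq (mu (sylV k) (sylV k)) idC then
    Nat.beq (sylV k) idC || Nat.beq (sylV k) tC || invRows.any fun r => Nat.beq r.1 k
  else true

/-- a listed involution has its class -/
def classRow (r : ℕ × Bool × ℕ × List ℕ) : Bool :=
  bif r.2.1 then Nat.blt r.2.2.1 cert.pts.length && Nat.beq (cert.pts.getD r.2.2.1 0) (sylV r.1)
  else r.2.2.2.all (fun k => Nat.blt k 6) &&
    Nat.beq (mu (sylV r.1) (cert.ev mu r.2.2.2)) (mu (cert.ev mu r.2.2.2) vC)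

/-- a square is of the allowed kind -/
def sqRow (k : ℕ) : Bool :=
  match sqL.getD k 0 with
  | 0 => Nat.beq (mu (sylV k) (sylV k)) idC
  | 1 => Nat.beq (mu (sylV k) (sylV k)) tC
  | 2 => !Nat.beq (mu (mu (sylV k) (sylV k)) (mu (sylV k) (sylV k))) idC
  | p + 3 => Nat.blt p cert.pts.length && Nat.beq (mu (sylV k) (sylV k)) (cert.pts.getD p 0)

theorem sylRow0 : ((List.range' 0 512).all sylRow) = true := by decide +kernel

theorem sylRow1 : ((List.range' 512 512).all sylRow) = true := by decide +kernel

theorem invRow_all : ((List.range 1024).all invRow) = true := by decide +kernel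

theorem classRow_all : (invRows.all classRow) = true := by decide +kernel

theorem sqRow_all : ((List.range 1024).all sqRow) = true := by decide +kernel

theorem syl_inc : (Nat.beq sylSort.length 1024 && (sylSort.all fun k => Nat.blt k 1024) &&
    (sylSort.zip sylSort.tail).all fun x => Nat.blt (sylV x.1) (sylV x.2)) = true := by decide +kernel

theorem v_facts : cert.ev mu vW = vC ∧ mu vC vC = idC ∧ vC ≠ idC ∧ vC ≠ tC ∧ cert.pts.elem vC = false ∧
    cert.pts.elem tC = false ∧ mu uC uC = idC ∧ cert.pts.elem idC = false := by decide +kernel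

theorem root_facts : mu (cert.ev mu (rootW.getD 0 [])) (cert.ev mu (rootW.getD 0 [])) = tC ∧
    mu (cert.ev mu (rootW.getD 0 [])) uC = mu uC (cert.ev mu (rootW.getD 0 [])) ∧
    mu (cert.ev mu (rootW.getD 1 [])) (cert.ev mu (rootW.getD 1 [])) = tC ∧
    mu (cert.ev mu (rootW.getD 1 [])) vC = mu vC (cert.ev mu (rootW.getD 1 [])) := by decide +kernel

/-- inverse letters -/
def ivL : List ℕ := [3, 4, 5, 0, 1, 2]

/-- image of a point under a word -/
def imgL (w : List ℕ) (p : ℕ) : ℕ := w.foldr (fun k q => dig (cert.gens.getD k idC) q) p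

/-- key of the conjugate of the second involution by a word -/
def keyW (w : List ℕ) : ℕ :=
  (keyPts.map fun p => imgL w (dig vC (imgL (w.reverse.map fun k => ivL.getD k 0) p))).foldr (fun d r => d + 512 * r) 0

theorem iv_ok : ((List.range 6).all fun k => Nat.blt (ivL.getD k 0) 6 &&
    Nat.beq (mu (cert.gens.getD k idC) (cert.gens.getD (ivL.getD k 0) idC)) idC) = true := by decide +kernel

/-- the keys increase along a block, starting above the last key of the previous one -/
def keyBlock (j : ℕ) : Bool :=
  let ks := (vOrbCs.getD j []).map keyW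
  (vOrbCs.getD j []).all (fun w => w.all fun k => Nat.blt k 6) &&
  (ks.zip ks.tail).all (fun x => Nat.blt x.1 x.2) &&
    (Nat.beq j 0 || Nat.blt (keyW ((vOrbCs.getD (j - 1) []).getD 251 [])) (ks.headD 0))

theorem keys0 : ((List.range' 0 8).all keyBlock) = true := by decide +kernel

theorem keys1 : ((List.range' 8 8).all keyBlock) = true := by decide +kernel

theorem keys2 : ((List.range' 16 7).all keyBlock) = true := by decide +kernel

theorem keys3 : ((List.range' 23 7).all keyBlock) = true := by decide +kernel

theorem orb_shape : (Nat.beq vOrbCs.length 30 && vOrbCs.all fun b => Nat.beq b.length 252) = true := by decide +kernel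

end Cfsg.Agent.Spor.CoThreeCent
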