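import Cfsg.Agent.Lib.Spor.CoThreeCent.ModelSp
import Cfsg.Agent.Lib.Spor.CoThreeCent.FusionChecks
import Cfsg.Agent.Lib.Spor.CoThreeCent.Cert

/-!
The classes of involutions of the model of the centralizer, and an element which is no square.
-/

set_option autoImplicit false
set_option maxRecDepth 100000
set_option maxHeartbeats 1000000
set_option linter.style.haveILetI false

namespace Cfsg.Agent.Spor.CoThreeCent

open DCoset

attribute [local irreducible] mu pack cert idC tC sigC xL uC vC sylV sylG keyW imgL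

/-- an element of two-power order is conjugate into a subgroup whose order is the full two-part -/
theorem conj_two {K : Type*} [Group K] [Finite K] (S : Subgroup K) {n : ℕ} (hn : (Nat.card K).factorization 2 = n)
    (hS : Nat.card S = 2 ^ n) {z : K} {j : ℕ} (hz : z ^ 2 ^ j = 1) : ∃ g : K, g * z * g⁻¹ ∈ S := by
  haveI : Fact (Nat.Prime 2) := ⟨Nat.prime_two⟩
  let P : Sylow 2 K := Sylow.ofCard S (by rw [hS, hn])
  have hzp : IsPGroup 2 (Subgroup.zpowers z) := fun x => ⟨j, by
    obtain ⟨m, hm⟩ := Subgroup.mem_zpowers_iff.1 x.2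
    apply Subtype.ext
    rw [Subgroup.coe_pow, ← hm, Subgroup.coe_one, ← zpow_natCast (z ^ m), ← zpow_mul, mul_comm, zpow_mul,
      zpow_natCast, hz, one_zpow]⟩
  obtain ⟨Q, hQ⟩ := hzp.exists_le_sylow
  obtain ⟨g, hg⟩ := MulAction.exists_smul_eq K Q P
  refine ⟨g, ?_⟩
  have h1 : g * z * g⁻¹ ∈ (g • Q : Sylow 2 K) := ⟨z, hQ (Subgroup.mem_zpowers z), by simp [MulAut.conj]⟩
  rw [hg] at h1
  exact h1

theorem card_MA_two : (Nat.card MA).factorization 2 = 10 := by
  rw [card_MA, show (2903040 : ℕ) = 2 ^ 10 * 2835 by norm_num, Nat.factorization_mul (by norm_num) (by norm_num),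
    Nat.Prime.factorization_pow Nat.prime_two]
  simp [Nat.factorization_eq_zero_of_not_dvd (show ¬(2 ∣ 2835) by norm_num)]

instance finite_MA : Finite MA := Nat.finite_of_card_ne_zero (by rw [card_MA]; norm_num)

/-- the representative of the first class -/
noncomputable def uA : MA := RA.wel cert.u

/-- the representative of the second class -/
noncomputable def vA : MA := RA.wel vW

theorem cd_uA : RA.cd uA = uC := by rw [uA, RA.cd_wel, ev_u]

theorem cd_vA : RA.cd vA = vC := by rw [vA, RA.cd_wel, v_facts.1]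

theorem uA_sq : uA * uA = 1 := eqA (by rw [cd_mulA, cd_uA, v_facts.2.2.2.2.2.2.1, cd_oneA])

theorem vA_sq : vA * vA = 1 := eqA (by rw [cd_mulA, cd_vA, v_facts.2.1, cd_oneA])

theorem vA_ne : vA ≠ 1 ∧ vA ≠ tA :=
  ⟨fun h => v_facts.2.2.1 (by rw [← cd_vA, h, cd_oneA]), fun h => v_facts.2.2.2.1 (by rw [← cd_vA, h, cd_tA])⟩

theorem conj_in_pts {a : MA} (h : IsConj uA a) : RA.cd a ∈ cert.pts := by
  obtain ⟨c, hc⟩ := isConj_iff.1 h
  obtain ⟨k, hk, e⟩ := conj_point (R := RA) cert_ok.pts c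
  obtain ⟨hp, -, -, -⟩ := pts_spec (R := RA) cert_ok.pts
  have : a = RA.wel (cert.pw.getD k []) := by
    rw [← hc, uA]
    exact mul_inv_eq_iff_eq_mul.2 e.symm
  rw [this, ← hp k hk, List.getD_eq_getElem _ _ hk]
  exact List.getElem_mem hk

theorem conj_of_mem {a : MA} (h : RA.cd a ∈ cert.pts) : IsConj uA a := by
  obtain ⟨k, hk, e⟩ := List.mem_iff_getElem.1 h
  obtain ⟨hp, hrep, -, -⟩ := pts_spec (R := RA) cert_ok.pts
  have ha : a = RA.wel (cert.pw.getD k []) := eqA (by rw [← hp k hk, List.getD_eq_getElem _ _ hk, e])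
  refine isConj_iff.2 ⟨RA.wel (cert.reps.getD k []), ?_⟩
  rw [ha, mul_inv_eq_iff_eq_mul, uA]
  exact (hrep k hk).symm

theorem v_not_u : ¬ IsConj uA vA := fun h => by
  have h1 := conj_in_pts h
  have h2 := v_facts.2.2.2.2.1
  rw [cd_vA] at h1
  rw [List.elem_iff.2 h1] at h2
  exact Bool.noConfusion h2

theorem uA_ne : uA ≠ 1 ∧ uA ≠ tA := by
  have hm := conj_in_pts (IsConj.refl uA)
  constructor <;> intro h <;> rw [h] at hm
  · rw [cd_oneA] at hm
    exact Bool.noConfusion ((List.elem_iff.2 hm).symm.trans v_facts.2.2.2.2.2.2.2)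
  · rw [cd_tA] at hm
    exact Bool.noConfusion ((List.elem_iff.2 hm).symm.trans v_facts.2.2.2.2.2.1)

/-- the Sylow subgroup -/
noncomputable def sylA : Subgroup MA := Subgroup.closure {z | ∃ w ∈ sylW, RA.wel w = z}

theorem sylG_spec : ∀ j < sylG.length, ∃ z ∈ sylA, RA.cd z = sylG.getD j 0 := by
  intro j hj
  have hl : j < sylW.length := by rw [sylG, List.length_map] at hj; exact hj
  refine ⟨RA.wel sylW[j], Subgroup.subset_closure ⟨_, List.getElem_mem _, rfl⟩, ?_⟩
  rw [RA.cd_wel, sylG, List.getD_eq_getElem _ _ (by rwa [List.length_map]), List.getElem_map]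

theorem sylRow_all : ∀ k < 1024, sylRow k = true := by
  intro k hk
  rcases Nat.lt_or_ge k 512 with h | h
  · exact List.all_eq_true.1 sylRow0 k (List.mem_range'_1.2 ⟨Nat.zero_le k, by omega⟩)
  · exact List.all_eq_true.1 sylRow1 k (List.mem_range'_1.2 ⟨h, by omega⟩)

theorem sylV_mem : ∀ k < 1024, ∃ z ∈ sylA, RA.cd z = sylV k := by
  intro k
  induction k using Nat.strong_induction_on with
  | _ k ih =>
    intro hk
    have h := sylRow_all k hk
    simp only [sylRow, Bool.and_eq_true] at h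
    have h' := h.1
    rcases Nat.eq_zero_or_pos k with rfl | hk0
    · simp only [Nat.beq_refl, cond_true, Nat.beq_eq] at h'
      exact ⟨1, one_mem _, by rw [cd_oneA, h']⟩
    · rw [show Nat.beq k 0 = false from Bool.eq_false_iff.2 fun e => hk0.ne' (Nat.eq_of_beq_eq_true e)] at h'
      simp only [cond_false, Bool.and_eq_true, Nat.blt_eq, Nat.beq_eq] at h'
      obtain ⟨z, hz, ez⟩ := ih _ h'.1.1 (h'.1.1.trans hk)
      obtain ⟨y, hy, ey⟩ := sylG_spec _ h'.1.2
      exact ⟨z * y, mul_mem hz hy, by rw [cd_mulA, ez, ey, h'.2]⟩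

theorem syl_list (x : MA) (hx : x ∈ sylA) : ∃ k < 1024, RA.cd x = sylV k := by
  rw [sylA, ← Subgroup.mem_toSubmonoid, Subgroup.closure_toSubmonoid_of_finite] at hx
  induction hx using Submonoid.closure_induction_right with
  | one =>
    have h := sylRow_all 0 (by norm_num)
    simp only [sylRow, Bool.and_eq_true, Nat.beq_refl, cond_true, Nat.beq_eq] at h
    exact ⟨0, by norm_num, by rw [cd_oneA, h.1]⟩
  | mul_right x hx y hy ih =>
    obtain ⟨k, hk, ek⟩ := ih
    obtain ⟨w, hw, rfl⟩ := hy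
    obtain ⟨j, hj, rfl⟩ := List.mem_iff_getElem.1 hw
    have hjG : j < sylG.length := by rw [sylG, List.length_map]; exact hj
    have h := sylRow_all k hk
    simp only [sylRow, Bool.and_eq_true, List.all_eq_true, List.mem_range, Nat.blt_eq, Nat.beq_eq] at h
    obtain ⟨h1, h2⟩ := h.2 j hjG
    refine ⟨_, h1, ?_⟩
    rw [h2, cd_mulA, ek, RA.cd_wel, sylG, List.getD_eq_getElem _ _ (by rwa [List.length_map]), List.getElem_map]

theorem sylV_nodup : ∀ i < 1024, ∀ j < 1024, sylV i = sylV j → i = j := by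
  have h := syl_inc
  simp only [Bool.and_eq_true, Nat.beq_eq, List.all_eq_true, Nat.blt_eq] at h
  obtain ⟨⟨hlen, hlt⟩, hinc⟩ := h
  have hn : ((List.range 1024).map sylV).Nodup := by
    refine nodup_of_chain (q := sylSort.map sylV) (by simp [hlen]) (fun x hx => ?_) fun x hx => ?_
    · obtain ⟨k, hk, rfl⟩ := List.mem_map.1 hx
      exact List.mem_map.2 ⟨k, List.mem_range.2 (hlt k hk), rfl⟩
    · rw [zip_map_tail] at hx
      obtain ⟨y, hy, rfl⟩ := List.mem_map.1 hx
      exact hinc y hy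
  intro i hi j hj e
  exact (List.inj_on_of_nodup_map hn) (List.mem_range.2 hi) (List.mem_range.2 hj) e

theorem card_sylA : Nat.card sylA = 2 ^ 10 := by
  choose z hz ez using sylV_mem
  let e : Fin 1024 → sylA := fun k => ⟨z k.1 k.2, hz k.1 k.2⟩
  have he : Function.Bijective e := by
    refine ⟨fun a b h => Fin.ext (sylV_nodup _ a.2 _ b.2 ?_), fun x => ?_⟩
    · rw [← ez _ a.2, ← ez _ b.2, show z a.1 a.2 = z b.1 b.2 from congrArg Subtype.val h]
    · obtain ⟨k, hk, e'⟩ := syl_list x.1 x.2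
      exact ⟨⟨k, hk⟩, Subtype.ext (eqA (by rw [e']; exact ez k hk))⟩
  rw [← Nat.card_eq_of_bijective e he, Nat.card_fin]
  norm_num

theorem exists_syl {y : MA} {j : ℕ} (hy : y ^ 2 ^ j = 1) : ∃ g : MA, ∃ k < 1024, RA.cd (g * y * g⁻¹) = sylV k := by
  obtain ⟨g, hg⟩ := conj_two sylA card_MA_two card_sylA hy
  exact ⟨g, syl_list _ hg⟩

/-- the involutions -/
theorem invol_cases {y : MA} (hy : y * y = 1) : y = 1 ∨ y = tA ∨ IsConj uA y ∨ IsConj vA y := by
  obtain ⟨g, k, hk, e⟩ := exists_syl (j := 1) (by rw [pow_one, pow_two, hy])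
  set x := g * y * g⁻¹ with hx
  have xx : x * x = 1 := by rw [hx, show g * y * g⁻¹ * (g * y * g⁻¹) = g * (y * y) * g⁻¹ by group, hy, mul_one, mul_inv_cancel]
  have h := List.all_eq_true.1 invRow_all k (List.mem_range.2 hk)
  rw [invRow, ← e, ← cd_mulA, xx, cd_oneA, Nat.beq_refl, cond_true] at h
  simp only [Bool.or_eq_true, Nat.beq_eq, List.any_eq_true] at h
  have back : y = g⁻¹ * x * g := by rw [hx]; group
  rcases h with (h | h) | ⟨r, hr, hrk⟩
  · left
    rw [back, eqA (show RA.cd x = RA.cd 1 by rw [h, cd_oneA]), mul_one, inv_mul_cancel]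
  · right; left
    rw [back, eqA (show RA.cd x = RA.cd tA by rw [h, cd_tA]), tA_comm g⁻¹, mul_assoc, inv_mul_cancel, mul_one]
  · right; right
    have hyx : IsConj x y := isConj_iff.2 ⟨g⁻¹, by rw [back, inv_inv]⟩
    have hc := List.all_eq_true.1 classRow_all r hr
    cases hb : r.2.1 <;> simp only [classRow, hb, cond_true, cond_false, Bool.and_eq_true, Nat.beq_eq, Nat.blt_eq,
      List.all_eq_true] at hc
    · right
      refine IsConj.trans (isConj_iff.2 ⟨RA.wel r.2.2.2, ?_⟩) hyx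
      refine mul_inv_eq_iff_eq_mul.2 (eqA ?_)
      rw [cd_mulA, cd_mulA, RA.cd_wel, cd_vA, e, ← hrk, hc.2]
    · left
      refine (conj_of_mem ?_).trans hyx
      rw [e, ← hrk, ← hc.2, List.getD_eq_getElem _ _ hc.1]
      exact List.getElem_mem _

/-- the second class consists of no squares -/
theorem not_square {y z : MA} (hz : IsConj vA z) : y * y ≠ z := by
  intro hyz
  obtain ⟨c, hc⟩ := isConj_iff.1 hz
  have zz : z * z = 1 := by
    rw [← hc, show c * vA * c⁻¹ * (c * vA * c⁻¹) = c * (vA * vA) * c⁻¹ by group, vA_sq, mul_one, mul_inv_cancel]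
  obtain ⟨g, k, hk, e⟩ := exists_syl (y := y) (j := 2) (by
    rw [show 2 ^ 2 = 2 + 2 from rfl, pow_add, pow_two, hyz, zz])
  set x := g * y * g⁻¹ with hx
  have hxx : IsConj vA (x * x) := by
    refine hz.trans (isConj_iff.2 ⟨g, ?_⟩)
    rw [← hyz, hx]; group
  have h := List.all_eq_true.1 sqRow_all k (List.mem_range.2 hk)
  unfold sqRow at h
  split at h
  · rw [← e, ← cd_mulA, Nat.beq_eq] at h
    rw [eqA (show RA.cd (x * x) = RA.cd 1 by rw [h, cd_oneA])] at hxx
    exact vA_ne.1 (isConj_one_left.1 hxx)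
  · rw [← e, ← cd_mulA, Nat.beq_eq] at h
    rw [eqA (show RA.cd (x * x) = RA.cd tA by rw [h, cd_tA])] at hxx
    obtain ⟨d, hd⟩ := isConj_iff.1 hxx
    exact vA_ne.2 (by rw [show vA = d⁻¹ * (d * vA * d⁻¹) * d by group, hd, tA_comm d⁻¹, mul_assoc, inv_mul_cancel, mul_one])
  · obtain ⟨d, hd⟩ := isConj_iff.1 hxx
    rw [← e, ← cd_mulA, ← cd_mulA, ← hd, show d * vA * d⁻¹ * (d * vA * d⁻¹) = d * (vA * vA) * d⁻¹ by group, vA_sq,
      mul_one, mul_inv_cancel, cd_oneA, Nat.beq_refl] at h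
    exact Bool.noConfusion h
  · next p _ =>
    rw [← e, ← cd_mulA, Bool.and_eq_true, Nat.blt_eq, Nat.beq_eq] at h
    exact v_not_u ((conj_of_mem (h.2 ▸ by rw [List.getD_eq_getElem _ _ h.1]; exact List.getElem_mem _)).trans hxx.symm)

end Cfsg.Agent.Spor.CoThreeCent
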