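import Cfsg.Agent.Lib.Lie.PermNine

/-!
Packed permutations of 276 points and their composition.
-/

set_option autoImplicit false
set_option maxRecDepth 100000

namespace Cfsg.Agent.Spor.CoThreeCent

open Lie

/-- digit of a packed permutation -/
def dig (g i : ℕ) : ℕ := Nat.land (Nat.shiftRight g (Nat.mul 9 i)) 511

/-- composition of packed permutations -/
def mu (p q : ℕ) : ℕ :=
  Nat.rec (motive := fun _ => ℕ) 0 (fun i r => Nat.add r (Nat.shiftLeft (dig p (dig q i)) (Nat.mul 9 i))) 276

/-- packing of a permutation -/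
def pack (f : ℕ → ℕ) (n : ℕ) : ℕ :=
  Nat.rec (motive := fun _ => ℕ) 0 (fun i r => Nat.add r (Nat.shiftLeft (f i) (Nat.mul 9 i))) n

theorem pack_zero (f : ℕ → ℕ) : pack f 0 = 0 := rfl

theorem pack_succ (f : ℕ → ℕ) (n : ℕ) : pack f (n + 1) = Nat.add (pack f n) (Nat.shiftLeft (f n) (Nat.mul 9 n)) := rfl

theorem mu_pack (p q : ℕ) : mu p q = pack (fun i => dig p (dig q i)) 276 := by
  delta mu pack
  with_reducible rfl

attribute [local irreducible] pack mu

theorem pack_lt {f : ℕ → ℕ} (hf : ∀ i, f i < 512) : ∀ n, pack f n < 512 ^ n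
  | 0 => by simp [pack_zero]
  | n + 1 => by
    rw [pack_succ]
    show pack f n + f n <<< (9 * n) < _
    have h := pack_lt hf n
    have h9 : (2 : ℕ) ^ (9 * n) = 512 ^ n := by rw [pow_mul]; norm_num
    rw [Nat.shiftLeft_eq, h9, pow_succ]
    calc pack f n + f n * 512 ^ n < 512 ^ n + f n * 512 ^ n := by omega
      _ = (f n + 1) * 512 ^ n := by ring
      _ ≤ 512 * 512 ^ n := Nat.mul_le_mul_right _ (hf n)
      _ = 512 ^ n * 512 := by ring

theorem pg_pack {f : ℕ → ℕ} (hf : ∀ i, f i < 512) : ∀ n i, i < n → PermNine.pg (pack f n) i = f i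
  | 0, i, hi => absurd hi (Nat.not_lt_zero i)
  | n + 1, i, hi => by
    have h9 : ∀ k, (2 : ℕ) ^ (9 * k) = 512 ^ k := fun k => by rw [pow_mul]; norm_num
    rw [pack_succ]
    show ((pack f n + f n <<< (9 * n)) >>> (9 * i)) % 512 = f i
    rw [Nat.shiftLeft_eq, Nat.shiftRight_eq_div_pow, h9, h9]
    rcases Nat.lt_succ_iff_lt_or_eq.1 hi with h | rfl
    · have ih : (pack f n >>> (9 * i)) % 512 = f i := pg_pack hf n i h
      rw [Nat.shiftRight_eq_div_pow, h9] at ih
      obtain ⟨d, rfl⟩ : ∃ d, n = i + 1 + d := ⟨n - i - 1, by omega⟩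
      rw [show f (i + 1 + d) * 512 ^ (i + 1 + d) = 512 ^ i * (512 * (f (i + 1 + d) * 512 ^ d)) by
        rw [pow_add, pow_add, pow_one]; ring, Nat.add_mul_div_left _ _ (by positivity), Nat.add_mul_mod_self_left, ih]
    · rw [Nat.add_mul_div_right _ _ (by positivity), Nat.div_eq_of_lt (pack_lt hf i), Nat.zero_add,
        Nat.mod_eq_of_lt (hf i)]

/-- code of a permutation -/
def code (σ : Equiv.Perm (Fin 276)) : ℕ := pack (fun i => if h : i < 276 then (σ ⟨i, h⟩ : ℕ) else 0) 276

theorem code_digit (σ : Equiv.Perm (Fin 276)) (i : Fin 276) : PermNine.pg (code σ) i = σ i := by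
  rw [code, pg_pack (fun k => ?_) _ _ i.2, dif_pos i.2]
  split
  · omega
  · norm_num

theorem code_injective : Function.Injective code := fun σ τ h => Equiv.ext fun i => Fin.ext (by
  rw [← code_digit, ← code_digit, h])

theorem dig_eq (g i : ℕ) : dig g i = PermNine.pg g i := by
  show (g >>> (9 * i)) &&& 511 = _
  rw [show (511 : ℕ) = 2 ^ 9 - 1 by norm_num, Nat.and_two_pow_sub_one_eq_mod]
  rfl

theorem code_mul (σ τ : Equiv.Perm (Fin 276)) : code (σ * τ) = mu (code σ) (code τ) := by
  have key : ∀ n, n ≤ 276 → pack (fun i => if h : i < 276 then ((σ * τ) ⟨i, h⟩ : ℕ) else 0) n =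
      pack (fun i => dig (code σ) (dig (code τ) i)) n := by
    intro n
    induction n with
    | zero => intro _; rw [pack_zero, pack_zero]
    | succ n ih =>
      intro hn
      rw [pack_succ, pack_succ]
      rw [ih (by omega)]
      congr 2
      simp only [dig_eq]
      rw [dif_pos (by omega : n < 276), code_digit τ ⟨n, by omega⟩, code_digit σ]
      rfl
  rw [code, mu_pack]
  exact key 276 le_rfl

/-- a code from digits -/
theorem code_eq {σ : Equiv.Perm (Fin 276)} {p : ℕ} (hp : pack (fun i => dig p i) 276 = p)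
    (h : ∀ i : Fin 276, (σ i : ℕ) = PermNine.pg p i) : code σ = p := by
  refine Eq.trans ?_ hp
  have key : ∀ n, n ≤ 276 → pack (fun i => if h : i < 276 then (σ ⟨i, h⟩ : ℕ) else 0) n = pack (fun i => dig p i) n := by
    intro n
    induction n with
    | zero => intro _; rw [pack_zero, pack_zero]
    | succ n ih =>
      intro hn
      rw [pack_succ, pack_succ]
      rw [ih (by omega)]
      congr 2
      rw [dif_pos (by omega : n < 276), h, dig_eq]
  rw [code]
  exact key 276 le_rfl

end Cfsg.Agent.Spor.CoThreeCent
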