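import Cfsg.Agent.Lib.Spor.CoThreeCent.Four
import Cfsg.Agent.S0111
import Cfsg.Agent.S0223
import Cfsg.Agent.S1225

/-!
The centralizer of the four-group of the second class lies in the copy of the Conway group.
-/

set_option autoImplicit false
set_option maxRecDepth 100000
set_option maxHeartbeats 1000000
set_option linter.style.haveILetI false

namespace Cfsg.Agent.Spor.CoThreeCent

open DCoset
open Lie.ConwayThreeOut (CG)

theorem wP_vals : wP 0 = idC ∧ wP 1 = dh wIdx ∧ wP 2 = mu (dh wIdx) (dh wIdx) ∧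
    wP 3 = mu (mu (dh wIdx) (dh wIdx)) (dh wIdx) := ⟨rfl, rfl, rfl, rfl⟩

attribute [local irreducible] mu pack cert idC tC sigC xL uC vC vv dhL dh aC aIdx tauIdx wIdx hVals hgL hv hr coVal
  hTree hStep hWit ceSplit oFive oThree wP sqC

/-- the common centralizer in the model -/
noncomputable def CE0 : Subgroup CG := Subgroup.centralizer {(aA : CG), (vA : CG)}

theorem mem_CE0 {n : CG} : n ∈ CE0 ↔ Commute n (aA : CG) ∧ Commute n (vA : CG) := by
  rw [CE0, Subgroup.mem_centralizer_iff]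
  exact ⟨fun h => ⟨(h _ (by simp)).symm, (h _ (by simp)).symm⟩,
    fun h y hy => by rcases hy with rfl | rfl <;> [exact h.1.eq.symm; exact h.2.eq.symm]⟩

theorem coe_CE0 {z : MA} (h1 : Commute z aA) (h2 : Commute z vA) : (z : CG) ∈ CE0 :=
  mem_CE0.2 ⟨congrArg Subtype.val h1.eq, congrArg Subtype.val h2.eq⟩

theorem dA_CE0 {k : ℕ} (hk : k < 384) (h : mu (dh k) aC = mu aC (dh k)) : (dA k : CG) ∈ CE0 :=
  coe_CE0 ((cm_iff (cd_dA hk)).1 h) (dA_comm hk)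

theorem vE_CE0 {v : ℕ} (hv : v < 4) : (vE v : CG) ∈ CE0 := by
  have ha : Commute aA aA := Commute.refl _
  refine coe_CE0 ?_ ?_
  · interval_cases v <;> simp only [vE, List.getD_cons_zero, List.getD_cons_succ]
    exacts [Commute.one_left _, ha, aA_vA.symm, ha.mul_left aA_vA.symm]
  · interval_cases v <;> simp only [vE, List.getD_cons_zero, List.getD_cons_succ]
    exacts [Commute.one_left _, aA_vA, Commute.refl _, aA_vA.mul_left (Commute.refl _)]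

theorem vE_central {n : CG} (hn : n ∈ CE0) {v : ℕ} (hv : v < 4) : Commute n (vE v : CG) := by
  obtain ⟨ha, hb⟩ := mem_CE0.1 hn
  interval_cases v <;> simp only [vE, List.getD_cons_zero, List.getD_cons_succ]
  exacts [Commute.one_right _, ha, hb, by rw [Subgroup.coe_mul]; exact ha.mul_right hb]

theorem tA_CE0 : (tA : CG) ∈ CE0 := coe_CE0 (tA_comm aA).symm (tA_comm vA).symm

/-- the elements of the sixty cosets -/
theorem hr_exists : ∀ i < 60, ∃ n ∈ Subgroup.closure {g : CG | ∃ j < 3, cdG g = hgL.getD j 0}, cdG n = hr i := by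
  obtain ⟨-, hall⟩ := h_tree
  intro i
  induction i using Nat.strong_induction_on with
  | _ i ih =>
    intro hi
    cases i with
    | zero => exact ⟨1, one_mem _, by rw [cdG_one, hv_ok.2.2]⟩
    | succ i =>
      have h := List.all_eq_true.1 hall i (List.mem_range.2 (by omega))
      simp only [Bool.and_eq_true, Nat.blt_eq, Nat.beq_eq] at h
      obtain ⟨n, hn, en⟩ := ih _ h.1.1 (by omega)
      obtain ⟨g, eg, -⟩ := hg_exists h.1.2
      exact ⟨n * g, mul_mem hn (Subgroup.subset_closure ⟨_, h.1.2, eg⟩), by rw [cdG_mul, en, eg, h.2]⟩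

theorem hgen_CE0 {g : CG} (h : ∃ j < 3, cdG g = hgL.getD j 0) : g ∈ CE0 := by
  obtain ⟨j, hj, e⟩ := h
  obtain ⟨g', e', ha, hb, -⟩ := hg_exists hj
  rw [cdG_inj (e.trans e'.symm)]
  exact mem_CE0.2 ⟨ha, hb⟩

/-- a representative -/
noncomputable def hM (i : ℕ) : CG := if hi : i < 60 then (hr_exists i hi).choose else 1

theorem cd_hM {i : ℕ} (hi : i < 60) : cdG (hM i) = hr i := by
  rw [hM, dif_pos hi]; exact (hr_exists i hi).choose_spec.2

theorem hM_mem {i : ℕ} (hi : i < 60) : hM i ∈ Subgroup.closure {g : CG | ∃ j < 3, cdG g = hgL.getD j 0} := by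
  rw [hM, dif_pos hi]; exact (hr_exists i hi).choose_spec.1

theorem hM_CE0 {i : ℕ} (hi : i < 60) : hM i ∈ CE0 :=
  (Subgroup.closure_le _).2 (fun _ h => hgen_CE0 h) (hM_mem hi)

theorem cd_hv {n : ℕ} (hn : n < 240) : cdG (hM (n / 4) * (vE (n % 4) : CG)) = hv n := by
  have h := List.all_eq_true.1 hv_ok.2.1 n (List.mem_range.2 hn)
  rw [Nat.beq_eq] at h
  rw [cdG_mul, cd_hM (by omega), show cdG (vE (n % 4) : CG) = v4C (n % 4) from cd_vE (by omega), h]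

theorem closure_hM {n : CG} (hn : n ∈ Subgroup.closure {g : CG | ∃ j < 3, cdG g = hgL.getD j 0}) :
    ∃ i < 60, ∃ v < 4, n = hM i * (vE v : CG) := by
  haveI := Lie.ConwayThreeOut.finite_CG
  rw [← Subgroup.mem_toSubmonoid, Subgroup.closure_toSubmonoid_of_finite] at hn
  induction hn using Submonoid.closure_induction_right with
  | one =>
    refine ⟨0, by decide, 0, by decide, ?_⟩
    have : hM 0 = 1 := cdG_inj (by rw [cd_hM (by decide), hv_ok.2.2, cdG_one])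
    rw [this, one_mul]
    rfl
  | mul_right x hx y hy ih =>
    obtain ⟨i, hi, v, hv', rfl⟩ := ih
    obtain ⟨j, hj, ej⟩ := hy
    have h := List.all_eq_true.1 (List.all_eq_true.1 h_step i (List.mem_range.2 hi)) j (List.mem_range.2 hj)
    simp only [Bool.and_eq_true, Nat.blt_eq, Nat.beq_eq] at h
    obtain ⟨r, hr', e⟩ := vE_mul (Nat.mod_lt ((hStep.getD i []).getD j 240) (by norm_num : 4 > 0)) hv'
    refine ⟨(hStep.getD i []).getD j 240 / 4, by omega, r, hr', ?_⟩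
    rw [← e, Subgroup.coe_mul, ← mul_assoc, mul_assoc _ (vE v : CG) y, ← (vE_central (hgen_CE0 ⟨j, hj, ej⟩) hv').eq,
      ← mul_assoc]
    congr 1
    exact cdG_inj (by rw [cd_hv h.1, cdG_mul, cd_hM hi, ej, h.2])

namespace Emb

variable {G : Type*} [Group G] {E : Emb G} (K : E.Copy)

/-- the common centralizer in the group -/
noncomputable def Eg (E : Emb G) : Subgroup G := Subgroup.centralizer {E.φ aA, E.φ vA}

theorem mem_Eg {g : G} : g ∈ Eg E ↔ Commute g (E.φ aA) ∧ Commute g (E.φ vA) := by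
  rw [Eg, Subgroup.mem_centralizer_iff]
  exact ⟨fun h => ⟨(h _ (by simp)).symm, (h _ (by simp)).symm⟩,
    fun h y hy => by rcases hy with rfl | rfl <;> [exact h.1.eq.symm; exact h.2.eq.symm]⟩

theorem vE_comm {g : G} (hg : g ∈ Eg E) {v : ℕ} (hv : v < 4) : Commute g (E.φ (vE v)) := by
  obtain ⟨ha, hb⟩ := mem_Eg.1 hg
  interval_cases v <;> simp only [vE, List.getD_cons_zero, List.getD_cons_succ, map_one, map_mul]
  exacts [Commute.one_right _, ha, hb, ha.mul_right hb]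

/-- the four-group inside -/
noncomputable def VE (E : Emb G) : Subgroup ↥(Eg E) where
  carrier := {x | ∃ v < 4, E.φ (vE v) = (x : G)}
  one_mem' := ⟨0, by decide, by simp [vE]⟩
  mul_mem' := by
    rintro x y ⟨v, hv, hx⟩ ⟨w, hw, hy⟩
    obtain ⟨r, hr', e⟩ := vE_mul hv hw
    exact ⟨r, hr', by rw [← e, map_mul, hx, hy]; rfl⟩
  inv_mem' := by
    rintro x ⟨v, hv, hx⟩
    exact ⟨v, hv, by rw [← vE_inv hv, map_inv, hx]; rfl⟩

instance VE_normal : (VE E).Normal := ⟨by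
  rintro x ⟨v, hv, hx⟩ g
  refine ⟨v, hv, ?_⟩
  show _ = (g : G) * (x : G) * (g : G)⁻¹
  rw [← hx, (vE_comm g.2 hv).eq, mul_inv_cancel_right]⟩

/-- the common centralizer of the model in the quotient -/
noncomputable def Copy.q : ↥CE0 →* ↥(Eg E) ⧸ VE E :=
  (QuotientGroup.mk' (VE E)).comp ((K.ι.comp CE0.subtype).codRestrict (Eg E) fun n => by
    obtain ⟨ha, hb⟩ := mem_CE0.1 n.2
    rw [mem_Eg, ← K.on_MA, ← K.on_MA]
    exact ⟨ha.map K.ι, hb.map K.ι⟩)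

theorem Copy.q_eq {n m : ↥CE0} : K.q n = K.q m ↔ ∃ v < 4, (m : CG) = n * (vE v : CG) := by
  rw [Copy.q, MonoidHom.comp_apply, MonoidHom.comp_apply, QuotientGroup.mk'_apply, QuotientGroup.mk'_apply,
    QuotientGroup.eq]
  show (∃ v < 4, E.φ (vE v) = (K.ι n)⁻¹ * K.ι m) ↔ _
  refine exists_congr fun v => and_congr_right fun _ => ?_
  rw [← K.on_MA, eq_inv_mul_iff_mul_eq, ← map_mul]
  exact ⟨fun h => (K.inj h).symm, fun h => by rw [h]⟩

theorem Copy.q_eq_one {n : ↥CE0} : K.q n = 1 ↔ ∃ v < 4, (n : CG) = (vE v : CG) := by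
  rw [← map_one K.q, eq_comm, K.q_eq]
  simp

theorem Copy.q_mem {x : ↥(Eg E)} {n : ↥CE0} (h : (x : ↥(Eg E) ⧸ VE E) = K.q n) : (x : G) ∈ K.X := by
  rw [Copy.q, MonoidHom.comp_apply, QuotientGroup.mk'_apply, QuotientGroup.eq] at h
  obtain ⟨v, -, e⟩ := h
  have e' : E.φ (vE v) = (x : G)⁻¹ * K.ι n := e
  rw [show (x : G) = K.ι n * (E.φ (vE v))⁻¹ by rw [e']; group]
  exact mul_mem ⟨_, rfl⟩ (inv_mem (K.phi_mem _))

include K in
/-- the centralizer of the four-group lies in the copy -/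
theorem Copy.common_le [Finite G] {g : G} (ha : Commute g (E.φ aA)) (hb : Commute g (E.φ vA)) : g ∈ K.X := by
  classical
  obtain ⟨a1, a2, a3, -, -, -, -, -, hBt, hta, hBtau, hwa, -, -⟩ := a_ok
  obtain ⟨w2, w2t, wtau, tne, w1, w3, -⟩ := wt_ok
  have hqt : ∀ {z y : MA} (hz : (z : CG) ∈ CE0) (hy : (y : CG) ∈ CE0),
      K.q ⟨_, hz⟩ = K.q ⟨_, hy⟩ ↔ eqV (RA.cd y) (RA.cd z) = true := fun {z y} hz hy => by
    rw [K.q_eq, eqV_iff rfl rfl]
    exact exists_congr fun v => and_congr_right fun _ => ⟨fun h => Subtype.ext h, fun h => congrArg Subtype.val h⟩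
  -- the images
  let T : ↥(Eg E) ⧸ VE E := K.q ⟨_, tA_CE0⟩
  have hτ : (tauA : CG) ∈ CE0 := dA_CE0 a2 hta
  have hw : (wA : CG) ∈ CE0 := dA_CE0 a3 hwa
  let U : ↥(Eg E) ⧸ VE E := K.q ⟨_, hτ⟩
  let W : ↥(Eg E) ⧸ VE E := K.q ⟨_, hw⟩
  have ttA : E.φ tA = E.t := rfl
  have tEg : E.t ∈ Eg E := mem_Eg.2 ⟨(E.comm_t aA).symm, (E.comm_t vA).symm⟩
  have hT : T = ((⟨E.t, tEg⟩ : ↥(Eg E)) : ↥(Eg E) ⧸ VE E) := by
    show QuotientGroup.mk _ = _
    exact congrArg _ (Subtype.ext (K.on_MA tA))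
  -- the centralizer of the central involution
  have centT : ∀ x : ↥(Eg E) ⧸ VE E, x * T * x⁻¹ = T →
      ∃ k < 384, ∃ hk : (dA k : CG) ∈ CE0, mu (dh k) aC = mu aC (dh k) ∧ x = K.q ⟨_, hk⟩ := by
    intro x hx
    obtain ⟨y, rfl⟩ := QuotientGroup.mk_surjective x
    rw [hT, ← QuotientGroup.mk_inv, ← QuotientGroup.mk_mul, ← QuotientGroup.mk_mul, eq_comm, QuotientGroup.eq] at hx
    obtain ⟨v, hv, e⟩ := hx
    have e' : E.φ (vE v) = E.t⁻¹ * ((y : G) * E.t * (y : G)⁻¹) := e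
    have conj : IsConj E.t (E.φ (tA * vE v)) := isConj_iff.2 ⟨(y : G), by rw [map_mul, e', ttA]; group⟩
    have v0 : v = 0 := by
      by_contra h0
      have h := List.all_eq_true.1 hBt v (List.mem_range.2 hv)
      rw [show Nat.beq v 0 = false from Bool.eq_false_iff.2 fun e => h0 (Nat.eq_of_beq_eq_true e), cond_false,
        ← cd_vE hv, ← cd_tA, ← cd_mulA] at h
      exact not_AB conj (isB_G h)
    subst v0
    have hc : Commute (y : G) E.t := by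
      have : E.t⁻¹ * ((y : G) * E.t * (y : G)⁻¹) = 1 := by rw [← e']; simp [vE]
      exact mul_inv_eq_iff_eq_mul.1 (inv_mul_eq_one.1 this).symm
    obtain ⟨z, hz⟩ := E.mem_range hc
    obtain ⟨ya, yb⟩ := mem_Eg.1 y.2
    have za : Commute z aA := E.inj (by rw [map_mul, map_mul, hz]; exact ya.eq)
    have zb : Commute z vA := E.inj (by rw [map_mul, map_mul, hz]; exact yb.eq)
    obtain ⟨k, hk, rfl⟩ := cent_list zb
    refine ⟨k, hk, coe_CE0 za zb, (cm_iff (cd_dA hk)).2 za, ?_⟩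
    show QuotientGroup.mk y = QuotientGroup.mk _
    exact congrArg _ (Subtype.ext (by rw [← hz, ← K.on_MA]; rfl))
  let P : Subgroup (↥(Eg E) ⧸ VE E) := Subgroup.centralizer {T}
  have memP : ∀ x, x ∈ P ↔ x * T * x⁻¹ = T := fun x => by
    rw [Subgroup.mem_centralizer_singleton_iff, mul_inv_eq_iff_eq_mul]
  have sy : ∀ k < 384, mu (dh k) aC = mu aC (dh k) → Nat.beq (sqC (sqC (sqC (dh k)))) idC = true ∧
      ((List.range 4).any fun i => eqV (dh k) (wP i) || eqV (dh k) (mu (dh tauIdx) (wP i))) = true ∧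
      (eqV (mu (dh k) (dh wIdx)) (mu (dh wIdx) (dh k)) = true → eqV (mu (dh k) (dh tauIdx)) (mu (dh tauIdx) (dh k)) = true →
        eqV (dh k) idC = true ∨ eqV (dh k) tC = true) := by
    intro k hk hc
    have h := List.all_eq_true.1 sy_all k (List.mem_range.2 hk)
    rw [syRow, hc, Nat.beq_refl, cond_true, Bool.and_eq_true, Bool.and_eq_true] at h
    refine ⟨h.1.1, h.1.2, fun p q => ?_⟩
    have h3 := h.2
    rw [p, q, Bool.and_self, cond_true, Bool.or_eq_true] at h3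
    exact h3
  have cdW : ∀ i : ℕ, i < 4 → RA.cd (wA ^ i) = wP i := by
    intro i hi
    interval_cases i
    · rw [pow_zero, cd_oneA, wP_vals.1]
    · rw [pow_one, cd_wA, wP_vals.2.1]
    · rw [pow_two, cd_mulA, cd_wA, wP_vals.2.2.1]
    · rw [pow_succ, pow_two, cd_mulA, cd_mulA, cd_wA, wP_vals.2.2.2]
  have hWP : ∀ x ∈ P, ∃ i : ℕ, i < 4 ∧ (x = W ^ i ∨ x = U * W ^ i) := by
    intro x hx
    obtain ⟨k, hk, hkm, hc, rfl⟩ := centT x ((memP x).1 hx)
    obtain ⟨i, hi, h⟩ := List.any_eq_true.1 (sy k hk hc).2.1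
    rw [List.mem_range] at hi
    refine ⟨i, hi, ?_⟩
    have hwi : ((wA ^ i : MA) : CG) ∈ CE0 := by rw [Subgroup.coe_pow]; exact pow_mem hw i
    have eW : W ^ i = K.q ⟨_, hwi⟩ := by
      rw [← map_pow]; exact congrArg _ (Subtype.ext (Subgroup.coe_pow _ _ _).symm)
    rcases Bool.or_eq_true _ _ ▸ h with h | h
    · left; rw [eW, eq_comm]
      exact (hqt hwi hkm).2 (by rw [cd_dA hk, cdW i hi]; exact h)
    · right
      have hti : ((tauA * wA ^ i : MA) : CG) ∈ CE0 := by rw [Subgroup.coe_mul]; exact mul_mem hτ hwi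
      rw [eW, ← map_mul, eq_comm]
      exact (hqt hti hkm).2 (by rw [cd_dA hk, cd_mulA, cd_tauA, cdW i hi]; exact h)
  have hW2 : W ^ 2 = T := by
    rw [← map_pow]
    refine (K.q_eq.2 ?_).symm
    obtain ⟨v, hv, e⟩ := (eqV_iff (z := wA ^ 2) (y := tA) (cdW 2 (by decide)) cd_tA).1 w2t
    exact ⟨v, hv, by show ((wA : CG)) ^ 2 = _; rw [← Subgroup.coe_pow, e]; rfl⟩
  have hT1 : T ≠ 1 := fun h => by
    obtain ⟨v, hv, e⟩ := K.q_eq_one.1 h
    have := (eqV_iff (z := tA) (y := (1 : MA)) cd_tA cd_oneA).2 ⟨v, hv, Subtype.ext (by rw [one_mul]; exact e)⟩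
    rw [tne] at this
    exact Bool.noConfusion this
  have hTT : T * T = 1 := by
    rw [← map_mul]
    exact K.q_eq_one.2 ⟨0, by decide, by
      show (tA : CG) * (tA : CG) = _
      rw [← Subgroup.coe_mul, tA_sq]; rfl⟩
  have hW4 : W ^ 4 = 1 := by rw [show 4 = 2 + 2 from rfl, pow_add, hW2, hTT]
  have hWP' : W ∈ P := (memP W).2 (by rw [← hW2]; group)
  have hUP : U ∈ P := (memP U).2 (by
    rw [mul_inv_eq_iff_eq_mul, ← map_mul, ← map_mul]
    exact congrArg _ (Subtype.ext (by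
      show (tauA : CG) * (tA : CG) = (tA : CG) * (tauA : CG)
      rw [← Subgroup.coe_mul, tA_comm, Subgroup.coe_mul])))
  have hU2 : U * U = 1 := by
    rw [← map_mul]
    refine K.q_eq_one.2 ⟨0, by decide, ?_⟩
    have h := List.all_eq_true.1 hBtau 0 (List.mem_range.2 (by decide))
    have hv0 : v4C 0 = idC := by rw [v4C]; rfl
    have hz : RA.cd tauA = mu (dh tauIdx) (v4C 0) := by rw [hv0, ← cd_tauA, ← cd_oneA, ← cd_mulA, mul_one]
    rw [← hz] at h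
    simp only [isB, Bool.and_eq_true, Nat.beq_eq] at h
    show (tauA : CG) * (tauA : CG) = _
    rw [← Subgroup.coe_mul, eqA (show RA.cd (tauA * tauA) = RA.cd (1 : MA) by rw [cd_mulA, cd_oneA, h.1.1.1])]
    rfl
  have hUQ : ∀ i < 4, U ≠ W ^ i := by
    intro i hi h
    have hwi : ((wA ^ i : MA) : CG) ∈ CE0 := by rw [Subgroup.coe_pow]; exact pow_mem hw i
    rw [show W ^ i = K.q ⟨_, hwi⟩ by rw [← map_pow]; exact congrArg _ (Subtype.ext (Subgroup.coe_pow _ _ _).symm),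
      eq_comm, hqt hwi hτ, cd_tauA, cdW i hi] at h
    have := List.all_eq_true.1 wtau i (List.mem_range.2 hi)
    rw [h] at this
    exact Bool.noConfusion this
  have hPpg : IsPGroup 2 P := by
    rintro ⟨x, hx⟩
    refine ⟨3, Subtype.ext ?_⟩
    obtain ⟨k, hk, hkm, hc, rfl⟩ := centT x ((memP x).1 hx)
    show (K.q ⟨_, hkm⟩) ^ 2 ^ 3 = 1
    rw [← map_pow]
    refine K.q_eq_one.2 ⟨0, by decide, ?_⟩
    have h := (sy k hk hc).1
    rw [Nat.beq_eq, sqC, sqC, sqC, ← cd_dA hk, ← cd_mulA, ← cd_mulA, ← cd_mulA, ← cd_oneA] at h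
    show (dA k : CG) ^ 2 ^ 3 = _
    rw [← Subgroup.coe_pow, show dA k ^ 2 ^ 3 = 1 by
      rw [← eqA h, show 2 ^ 3 = 2 * 2 * 2 from rfl, pow_mul, pow_mul, pow_two, pow_two, pow_two]]
    rfl
  obtain ⟨S, hPS⟩ := hPpg.exists_le_sylow
  have hSP : (S : Subgroup (↥(Eg E) ⧸ VE E)) = P := by
    refine le_antisymm ?_ hPS
    haveI : Fact (Nat.Prime 2) := ⟨Nat.prime_two⟩
    haveI : Nontrivial S := ⟨⟨⟨T, hPS ((memP T).2 (by group))⟩, 1, fun h => hT1 (congrArg Subtype.val h)⟩⟩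
    haveI := S.2.center_nontrivial
    obtain ⟨⟨⟨c, hcS⟩, hc⟩, hc1⟩ := exists_ne (1 : Subgroup.center S)
    have hcomm : ∀ y ∈ (S : Subgroup (↥(Eg E) ⧸ VE E)), y * c = c * y := fun y hy =>
      congrArg Subtype.val (Subgroup.mem_center_iff.1 hc ⟨y, hy⟩)
    have hcP : c ∈ P := Subgroup.mem_centralizer_singleton_iff.2 (hcomm T (hPS ((memP T).2 (by group)))).symm
    obtain ⟨k, hk, hkm, hkc, rfl⟩ := centT c ((memP c).1 hcP)
    have cw := hcomm W (hPS hWP')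
    have cu := hcomm U (hPS hUP)
    have key : ∀ {z : MA} (hz : (z : CG) ∈ CE0), K.q ⟨_, hz⟩ * K.q ⟨_, hkm⟩ = K.q ⟨_, hkm⟩ * K.q ⟨_, hz⟩ →
        eqV (mu (dh k) (RA.cd z)) (mu (RA.cd z) (dh k)) = true := fun {z} hz h => by
      rw [← map_mul, ← map_mul] at h
      have h' := (hqt (z := z * dA k) (y := dA k * z) (by rw [Subgroup.coe_mul]; exact mul_mem hz hkm)
        (by rw [Subgroup.coe_mul]; exact mul_mem hkm hz)).1 h
      rwa [cd_mulA, cd_mulA, cd_dA hk] at h'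
    rcases (sy k hk hkc).2.2 (cd_wA ▸ key hw cw) (cd_tauA ▸ key hτ cu) with h | h
    · refine absurd (Subtype.ext (Subtype.ext ?_)) hc1
      obtain ⟨v, hv, e⟩ := (eqV_iff (y := (1 : MA)) (cd_dA hk) cd_oneA).1 h
      exact K.q_eq_one.2 ⟨v, hv, by show (dA k : CG) = _; rw [e, one_mul]⟩
    · have eT : K.q ⟨_, hkm⟩ = T := ((hqt tA_CE0 hkm).2 (by rw [cd_dA hk, cd_tA]; exact h)).symm
      intro y hy
      exact Subgroup.mem_centralizer_singleton_iff.2 (eT ▸ hcomm y hy)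
  let Q0 : Subgroup (↥(Eg E) ⧸ VE E) := Subgroup.zpowers W
  have memQ0 : ∀ x ∈ Q0, ∃ i < 4, x = W ^ i := by
    rintro x ⟨m, rfl⟩
    obtain ⟨i, hi⟩ : ∃ i : ℕ, (i : ℤ) = m % 4 := ⟨(m % 4).toNat, Int.toNat_of_nonneg (Int.emod_nonneg _ (by norm_num))⟩
    refine ⟨i, by omega, ?_⟩
    show W ^ m = W ^ i
    rw [← zpow_natCast W i, hi, ← Int.mul_ediv_add_emod m 4, zpow_add, zpow_mul]
    rw [show W ^ (4 : ℤ) = 1 by rw [show (4 : ℤ) = ((4 : ℕ) : ℤ) from rfl, zpow_natCast, hW4], one_zpow, one_mul]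
    congr 1
    omega
  have hUQ0 : U ∉ Q0 := fun h => by obtain ⟨i, hi, e⟩ := memQ0 U h; exact hUQ i hi e
  have hrel : Q0.relIndex S = 2 := by
    rw [hSP, Subgroup.relIndex, Subgroup.index_eq_two_iff]
    refine ⟨⟨U, hUP⟩, fun y => ?_⟩
    simp only [Subgroup.mem_subgroupOf, Subgroup.coe_mul]
    obtain ⟨i, -, e | e⟩ := hWP y y.2
    · refine Or.inr ⟨e ▸ pow_mem (Subgroup.mem_zpowers W) i, fun h => hUQ0 ?_⟩
      have := mul_mem (inv_mem (e ▸ pow_mem (Subgroup.mem_zpowers W) i : (y : ↥(Eg E) ⧸ VE E) ∈ Q0)) h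
      rwa [inv_mul_cancel_left] at this
    · refine Or.inl ⟨?_, fun h => hUQ0 ?_⟩
      · rw [e]
        obtain ⟨j, hj, e'⟩ : ∃ j, j < 4 ∧ (U * W ^ i * U = W ^ j ∨ U * W ^ i * U = U * W ^ j) :=
          hWP _ (mul_mem (mul_mem hUP (pow_mem hWP' i)) hUP)
        rcases e' with e' | e'
        · rw [e']; exact pow_mem (Subgroup.mem_zpowers W) j
        · exfalso
          rw [mul_assoc] at e'
          have hU' := mul_left_cancel e'
          exact hUQ0 (by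
            rw [show U = (W ^ i)⁻¹ * W ^ j by rw [← hU']; group]
            exact mul_mem (inv_mem (pow_mem (Subgroup.mem_zpowers W) i)) (pow_mem (Subgroup.mem_zpowers W) j))
      · rw [e] at h
        have := mul_mem h (inv_mem (pow_mem (Subgroup.mem_zpowers W) i))
        rwa [mul_inv_cancel_right] at this
  have hU : orderOf U = 2 := orderOf_eq_prime (by rw [pow_two, hU2]) (fun h => hUQ0 (h ▸ one_mem _))
  rcases Cfsg.Agent.S0111.result S Q0 (by rw [hSP]; exact Subgroup.zpowers_le.2 hWP') hrel U hU (hPS hUP) hUQ0 with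
    ⟨M, hMn, hMi, hUM⟩ | ⟨x, hx⟩
  swap
  · exfalso
    obtain ⟨i, hi, e⟩ := memQ0 _ hx
    have hsq : W ^ i * W ^ i = 1 := by
      rw [← e, show x * U * x⁻¹ * (x * U * x⁻¹) = x * (U * U) * x⁻¹ by group, hU2]; group
    interval_cases i
    · exact hUQ0 (by rw [show U = x⁻¹ * (x * U * x⁻¹) * x by group, e]; simp)
    · exact hT1 (by rw [← hW2, pow_two]; simpa using hsq)
    · rw [hW2] at e
      obtain ⟨y, rfl⟩ := QuotientGroup.mk_surjective x⁻¹ |>.imp fun y hy => show ((y⁻¹ : ↥(Eg E)) : ↥(Eg E) ⧸ VE E) = x by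
        rw [QuotientGroup.mk_inv, hy, inv_inv]
      have e2 : U = ((y * ⟨E.t, tEg⟩ * y⁻¹ : ↥(Eg E)) : ↥(Eg E) ⧸ VE E) := by
        rw [QuotientGroup.mk_mul, QuotientGroup.mk_mul, QuotientGroup.mk_inv, ← hT, ← e, QuotientGroup.mk_inv]
        group
      rw [show U = QuotientGroup.mk' (VE E) _ from rfl, QuotientGroup.mk'_apply, QuotientGroup.eq] at e2
      obtain ⟨v, hv, ev⟩ := e2
      have ev' : E.φ (vE v) = (K.ι (tauA : CG))⁻¹ * ((y : G) * E.t * (y : G)⁻¹) := ev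
      rw [K.on_MA] at ev'
      have h := List.all_eq_true.1 hBtau v (List.mem_range.2 hv)
      rw [← cd_vE hv, ← cd_tauA, ← cd_mulA] at h
      exact not_AB (isConj_iff.2 ⟨(y : G), by rw [map_mul, ev']; group⟩) (isB_G (E := E) h)
    · refine hT1 ?_
      rw [← hW2, show W ^ 2 = W ^ 3 * W ^ 3 * (W ^ 4)⁻¹ by group, hsq, hW4]; simp
  -- the subgroup of sixty cosets
  have hTM : T ∈ M := hW2 ▸ Subgroup.sq_mem_of_index_two hMi W
  let H : Subgroup (↥(Eg E) ⧸ VE E) :=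
    ((Subgroup.closure {g : CG | ∃ j < 3, cdG g = hgL.getD j 0}).subgroupOf CE0).map K.q
  have hq : ∀ i (hi : i < 60), K.q ⟨_, hM_CE0 hi⟩ ∈ H := fun i hi => ⟨_, hM_mem hi, rfl⟩
  have memH : ∀ x ∈ H, ∃ i, ∃ hi : i < 60, x = K.q ⟨_, hM_CE0 hi⟩ := by
    rintro _ ⟨⟨n, hn⟩, hn', rfl⟩
    obtain ⟨i, hi, v, hv', e⟩ := closure_hM hn'
    exact ⟨i, hi, (K.q_eq.2 ⟨v, hv', e⟩).symm⟩
  have hqinj : ∀ i (hi : i < 60) j (hj : j < 60), K.q ⟨_, hM_CE0 hi⟩ = K.q ⟨_, hM_CE0 hj⟩ → i = j := by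
    intro i hi j hj h
    obtain ⟨v, hv', e⟩ := K.q_eq.1 h
    have e' : cdG (hM (4 * j / 4) * (vE (4 * j % 4) : CG)) = cdG (hM ((4 * i + v) / 4) * (vE ((4 * i + v) % 4) : CG)) := by
      rw [show 4 * j / 4 = j by omega, show 4 * j % 4 = 0 by omega, show (4 * i + v) / 4 = i by omega,
        show (4 * i + v) % 4 = v by omega]
      congr 1
    rw [cd_hv (by omega), cd_hv (by omega), hv, hv, List.getD_eq_getElem _ _ (hv_ok.1.symm ▸ (by omega : 4 * j < 240)),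
      List.getD_eq_getElem _ _ (hv_ok.1.symm ▸ (by omega : 4 * i + v < 240))] at e'
    have := (nodup_of_nodupB hv_nodup).getElem_inj_iff.1 e'
    omega
  have cardH : Nat.card H = 60 := by
    rw [← Nat.card_fin 60]
    refine (Nat.card_eq_of_bijective (fun i : Fin 60 => (⟨_, hq i i.2⟩ : H)) ⟨fun i j h =>
      Fin.ext (hqinj i i.2 j j.2 (congrArg Subtype.val h)), fun ⟨x, hx⟩ => ?_⟩).symm
    obtain ⟨i, hi, e⟩ := memH x hx
    exact ⟨⟨i, hi⟩, Subtype.ext e.symm⟩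
  have hHM : H ≤ M := by
    rw [Subgroup.map_le_iff_le_comap]
    rintro ⟨n, hn⟩ hn'
    have key : ∀ n ∈ Subgroup.closure {g : CG | ∃ j < 3, cdG g = hgL.getD j 0}, ∃ hn : n ∈ CE0, K.q ⟨n, hn⟩ ∈ M := by
      intro n hn
      induction hn using Subgroup.closure_induction with
      | mem x hx =>
        obtain ⟨j, hj, ej⟩ := hx
        obtain ⟨g', eg', -, -, c, ca, cb, rfl⟩ := hg_exists hj
        obtain rfl := cdG_inj (ej.trans eg'.symm)
        refine ⟨hgen_CE0 ⟨j, hj, ej⟩, ?_⟩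
        have hc : c ∈ CE0 := mem_CE0.2 ⟨ca, cb⟩
        rw [show (⟨c * (tA : CG) * c⁻¹, _⟩ : ↥CE0) = ⟨c, hc⟩ * ⟨_, tA_CE0⟩ * ⟨c, hc⟩⁻¹ from Subtype.ext rfl,
          map_mul, map_mul, map_inv]
        exact hMn.conj_mem _ hTM _
      | one => exact ⟨one_mem _, by rw [show (⟨1, one_mem CE0⟩ : ↥CE0) = 1 from rfl, map_one]; exact one_mem _⟩
      | mul x y _ _ ihx ihy =>
        obtain ⟨p, p'⟩ := ihx; obtain ⟨r, r'⟩ := ihy
        exact ⟨mul_mem p r, by rw [show (⟨x * y, mul_mem p r⟩ : ↥CE0) = ⟨x, p⟩ * ⟨y, r⟩ from rfl, map_mul]; exact mul_mem p' r'⟩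
      | inv x _ ih =>
        obtain ⟨p, p'⟩ := ih
        exact ⟨inv_mem p, by rw [show (⟨x⁻¹, inv_mem p⟩ : ↥CE0) = ⟨x, p⟩⁻¹ from rfl, map_inv]; exact inv_mem p'⟩
    exact (key n hn').2
  have hTH : T ∈ H := by
    refine ⟨⟨_, tA_CE0⟩, Subgroup.subset_closure ⟨0, by decide, ?_⟩, rfl⟩
    rw [hgen_ok.2.1]; exact cd_tA
  have q60 : ∀ n : ℕ, n < 240 → ∀ (hh : hM (n / 4) * (vE (n % 4) : CG) ∈ CE0), K.q ⟨_, hh⟩ ∈ H := fun n hn hh => by
    rw [show K.q ⟨_, hh⟩ = K.q ⟨_, hM_CE0 (by omega : n / 4 < 60)⟩ from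
      (K.q_eq.2 ⟨n % 4, by omega, rfl⟩).symm]
    exact hq (n / 4) (by omega)
  have centH : ∀ x ∈ M, x * T * x⁻¹ = T → x ∈ H := by
    intro x hxM hx
    obtain ⟨k, hk, hkm, hc, rfl⟩ := centT x hx
    have h := List.all_eq_true.1 ce_all k (List.mem_range.2 hk)
    rw [ceRow, hc, Nat.beq_refl, cond_true, List.any_eq_true] at h
    obtain ⟨r, -, hr'⟩ := h
    simp only [Bool.and_eq_true, Nat.beq_eq, Nat.blt_eq] at hr'
    obtain ⟨⟨-, hn⟩, he⟩ := hr'
    have hh : hM (r.2.2 / 4) * (vE (r.2.2 % 4) : CG) ∈ CE0 :=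
      mul_mem (hM_CE0 (by omega)) (vE_CE0 (by omega))
    by_cases h0 : r.2.1 = 0
    · rw [h0, show Nat.beq 0 0 = true from rfl, cond_true, Nat.beq_eq, ← cd_hv hn] at he
      rw [show (⟨_, hkm⟩ : ↥CE0) = ⟨_, hh⟩ from Subtype.ext (cdG_inj ((cd_dA hk).trans he))]
      exact q60 _ hn hh
    · rw [show Nat.beq r.2.1 0 = false from Bool.eq_false_iff.2 fun e => h0 (Nat.eq_of_beq_eq_true e), cond_false,
        Nat.beq_eq, ← cd_hv hn, ← cd_tauA, ← cd_dA hk, ← cd_mulA] at he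
      exfalso
      have h2 : K.q (⟨_, hτ⟩ * ⟨_, hkm⟩) ∈ M := hHM (by
        rw [show (⟨_, hτ⟩ * ⟨_, hkm⟩ : ↥CE0) = ⟨_, hh⟩ from Subtype.ext (cdG_inj he)]
        exact q60 _ hn hh)
      rw [map_mul] at h2
      exact hUM (by
        have := mul_mem h2 (inv_mem hxM)
        rwa [mul_inv_cancel_right] at this)
  have invH : ∀ x ∈ H, x * x = 1 → x ≠ 1 → ∃ k ∈ H, k * T * k⁻¹ = x := by
    intro x hx xx x1
    obtain ⟨i, hi, rfl⟩ := memH x hx
    rw [← map_mul] at xx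
    obtain ⟨v, hv', e⟩ := K.q_eq_one.1 xx
    have h := List.all_eq_true.1 h_inv i (List.mem_range.2 hi)
    have e2 : cdG (hM i * hM i) = mu (hr i) (hr i) := by rw [cdG_mul, cd_hM hi]
    rw [hInvRow, (inV4_iff e2).2 ⟨v, hv', e⟩, cond_true, Bool.or_eq_true, Nat.beq_eq] at h
    rcases h with h | h
    · subst h
      exact absurd (K.q_eq_one.2 ⟨0, by decide, show hM 0 = ((vE 0 : MA) : CG) from
        cdG_inj (by rw [cd_hM hi, hv_ok.2.2]; exact cd_oneA.symm)⟩) x1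
    · obtain ⟨r, -, hr'⟩ := List.any_eq_true.1 h
      simp only [Bool.and_eq_true, Nat.beq_eq, Nat.blt_eq] at hr'
      obtain ⟨⟨⟨⟨-, hj⟩, hdiv⟩, hn⟩, he⟩ := hr'
      refine ⟨_, hq _ hj, ?_⟩
      have ee : hM r.2.1 * (tA : CG) = hM (r.2.2 / 4) * (vE (r.2.2 % 4) : CG) * hM r.2.1 := cdG_inj (by
        rw [cdG_mul, cdG_mul _ (hM r.2.1), cd_hv hn, cd_hM hj, show cdG (tA : CG) = tC from cd_tA]; exact he)
      rw [← map_inv, ← map_mul, ← map_mul, K.q_eq]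
      refine ⟨r.2.2 % 4, by omega, ?_⟩
      show hM i = hM r.2.1 * (tA : CG) * (hM r.2.1)⁻¹ * _
      rw [ee, mul_inv_cancel_right, hdiv, mul_assoc, ← Subgroup.coe_mul, show vE (r.2.2 % 4) * vE (r.2.2 % 4) = 1 from by
        nth_rewrite 1 [← vE_inv (Nat.mod_lt _ (by norm_num : 4 > 0))]; exact inv_mul_cancel _, Subgroup.coe_one, mul_one]
  suffices hEq : ∀ x ∈ M, x ∈ H by
    have hgE : g ∈ Eg E := mem_Eg.2 ⟨ha, hb⟩
    by_cases hgM : ((⟨g, hgE⟩ : ↥(Eg E)) : ↥(Eg E) ⧸ VE E) ∈ M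
    · obtain ⟨i, hi, e⟩ := memH _ (hEq _ hgM)
      exact K.q_mem e
    · have h2 : U * ((⟨g, hgE⟩ : ↥(Eg E)) : ↥(Eg E) ⧸ VE E) ∈ M :=
        (Subgroup.mul_mem_iff_of_index_two hMi).2 (iff_of_false hUM hgM)
      obtain ⟨i, hi, e⟩ := memH _ (hEq _ h2)
      refine K.q_mem (x := ⟨g, hgE⟩) (n := (⟨_, hτ⟩ : ↥CE0)⁻¹ * ⟨_, hM_CE0 hi⟩) ?_
      rw [map_mul, map_inv, ← e, inv_mul_cancel_left]
  by_contra hne
  push Not at hne
  obtain ⟨m0, hm0, hm0H⟩ := hne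
  let H' : Subgroup M := H.subgroupOf M
  have hT' : orderOf (⟨T, hTM⟩ : M) = 2 := by rw [Subgroup.orderOf_mk]; exact orderOf_eq_prime (by rw [pow_two, hTT]) hT1
  have inv' : ∀ s ∈ H', orderOf s = 2 → ∃ k ∈ H', k * ⟨T, hTM⟩ * k⁻¹ = s := by
    intro s hs hs2
    have ss : (s : ↥(Eg E) ⧸ VE E) * s = 1 := by rw [← pow_two, ← hs2, ← Subgroup.orderOf_coe, pow_orderOf_eq_one]
    have s1 : (s : ↥(Eg E) ⧸ VE E) ≠ 1 := fun h => by
      rw [← Subgroup.orderOf_coe, h, orderOf_one] at hs2; omega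
    obtain ⟨k, hk, e⟩ := invH _ hs ss s1
    exact ⟨⟨k, hHM hk⟩, hk, Subtype.ext e⟩
  have hproper : H' ≠ ⊤ := fun h => hm0H (show (⟨m0, hm0⟩ : M) ∈ H' from h ▸ Subgroup.mem_top _)
  have heven : Even (Nat.card H') := even_iff_two_dvd.2 (by
    have := orderOf_dvd_natCard (⟨⟨T, hTM⟩, hTH⟩ : H')
    rwa [← Subgroup.orderOf_coe, hT'] at this)
  have hSE : Cfsg.IsStronglyEmbedded H' := by
    refine (Cfsg.Agent.S0223.result H' hproper heven).2 ⟨fun s hs hs2 x hx => ?_, fun s hs s' hs' hs2 hs2' _ => ?_⟩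
    · obtain ⟨k, hk, rfl⟩ := inv' s hs hs2
      rw [Subgroup.mem_centralizer_singleton_iff] at hx
      have hc : (k⁻¹ * x * k) * ⟨T, hTM⟩ * (k⁻¹ * x * k)⁻¹ = ⟨T, hTM⟩ := by
        calc (k⁻¹ * x * k) * ⟨T, hTM⟩ * (k⁻¹ * x * k)⁻¹ = k⁻¹ * (x * (k * ⟨T, hTM⟩ * k⁻¹)) * x⁻¹ * k := by group
          _ = k⁻¹ * (k * ⟨T, hTM⟩ * k⁻¹ * x) * x⁻¹ * k := by rw [hx]
          _ = _ := by group
      have hm : k⁻¹ * x * k ∈ H' := centH _ (k⁻¹ * x * k).2 (congrArg Subtype.val hc)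
      have := mul_mem (mul_mem hk hm) (inv_mem hk)
      rwa [show k * (k⁻¹ * x * k) * k⁻¹ = x by group] at this
    · obtain ⟨k, hk, rfl⟩ := inv' s hs hs2
      obtain ⟨l, hl, rfl⟩ := inv' s' hs' hs2'
      exact ⟨l * k⁻¹, mul_mem hl (inv_mem hk), by group⟩
  obtain ⟨u, hu, huH⟩ : ∃ u : M, orderOf u = 2 ∧ u ∉ H' := by
    by_contra hno
    push Not at hno
    refine hm0H ?_
    have hconj : orderOf ((⟨m0, hm0⟩ : M) * ⟨T, hTM⟩ * (⟨m0, hm0⟩ : M)⁻¹) = 2 :=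
      Cfsg.Agent.Fusion.SEPairs.conj_involution hT' _
    obtain ⟨k, hk, e⟩ := inv' _ (hno _ hconj) hconj
    have hm : k⁻¹ * ⟨m0, hm0⟩ ∈ H' := centH ((k⁻¹ * (⟨m0, hm0⟩ : ↥M) : ↥M) : ↥(Eg E) ⧸ VE E) (SetLike.coe_mem _) (congrArg Subtype.val (by
      calc k⁻¹ * ⟨m0, hm0⟩ * ⟨T, hTM⟩ * (k⁻¹ * ⟨m0, hm0⟩)⁻¹ = k⁻¹ * (⟨m0, hm0⟩ * ⟨T, hTM⟩ * (⟨m0, hm0⟩ : M)⁻¹) * k := by group
        _ = ⟨T, hTM⟩ := by rw [← e]; group))
    have := mul_mem hk hm
    rw [mul_inv_cancel_left] at this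
    exact this
  set D := H' ⊓ H'.map (MulAut.conj u).toMonoidHom with hD
  have hDodd : Odd (Nat.card D) := hSE.2.2 u huH
  have cardH' : Nat.card H' = 60 := by
    rw [← cardH]; exact Nat.card_congr (Subgroup.subgroupOfEquivOfLe hHM).toEquiv
  obtain ⟨hwl, hwn, hwa, h5l, h3l⟩ := hwit_ok
  have hidx : ∀ n : Fin 15, (hWit.getD n (0, 0, 0)).1 < 60 ∧ (hWit.getD n (0, 0, 0)).1 ≠ 0 ∧
      inV4 (sqC (hr (hWit.getD n (0, 0, 0)).1)) = true := fun n => by
    have h := List.all_eq_true.1 hwa (hWit.getD n (0, 0, 0)) (by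
      rw [List.getD_eq_getElem _ _ (hwl.symm ▸ n.2)]; exact List.getElem_mem _)
    simp only [Bool.and_eq_true, Nat.blt_eq, Bool.not_eq_true'] at h
    exact ⟨h.1.1, fun e => by rw [e] at h; exact Bool.noConfusion h.1.2, h.2⟩
  have hd15 : ∀ n : Fin 15, ∃ d : D, ((d : M) * ⟨T, hTM⟩ * (d : M)⁻¹).1 = K.q ⟨_, hM_CE0 (hidx n).1⟩ := by
    intro n
    obtain ⟨hi, hi0, hs⟩ := hidx n
    set i := (hWit.getD n (0, 0, 0)).1
    have hord : orderOf (⟨_, hHM (hq i hi)⟩ : M) = 2 := by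
      rw [Subgroup.orderOf_mk]
      refine orderOf_eq_prime ?_ fun h => hi0 ?_
      · rw [pow_two, ← map_mul]
        exact K.q_eq_one.2 ((inV4_iff (z := hM i * hM i) (by rw [cdG_mul, cd_hM hi, sqC])).1 hs)
      · refine hqinj i hi 0 (by decide) (h.trans ?_)
        exact (K.q_eq_one.2 ⟨0, by decide, cdG_inj (by rw [cd_hM (by decide), hv_ok.2.2]; exact cd_oneA.symm)⟩).symm
    obtain ⟨⟨d, hd, e⟩, -⟩ := Cfsg.Agent.S1225.result H' hSE u hu huH ⟨T, hTM⟩ ⟨_, hHM (hq i hi)⟩ hT' hTH hord (hq i hi)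
    exact ⟨⟨d, hd⟩, congrArg Subtype.val e⟩
  choose dd hdd using hd15
  have ddinj : Function.Injective dd := fun n m h => by
    have e := (hdd n).symm.trans ((congrArg (fun d : D => ((d : M) * ⟨T, hTM⟩ * (d : M)⁻¹).1) h).trans (hdd m))
    have e2 := hqinj _ (hidx n).1 _ (hidx m).1 e
    rw [List.getD_eq_getElem _ _ (hwl.symm ▸ n.2), List.getD_eq_getElem _ _ (hwl.symm ▸ m.2)] at e2
    exact Fin.ext ((List.Nodup.getElem_inj_iff hwn (hi := by simp [hwl, n.2]) (hj := by simp [hwl, m.2])).1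
      (by simpa using e2))
  have hge : 15 ≤ Nat.card D := by
    have := Nat.card_le_card_of_injective dd ddinj; rwa [Nat.card_fin] at this
  have hdvd : Nat.card D ∣ 60 := cardH' ▸ Subgroup.card_dvd_of_le inf_le_left
  have h15 : Nat.card D = 15 := by
    have hle : Nat.card D ≤ 60 := Nat.le_of_dvd (by norm_num) hdvd
    rw [Nat.odd_iff] at hDodd
    generalize Nat.card D = c at hdvd hge hle hDodd
    interval_cases c <;> revert hdvd hDodd <;> decide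
  haveI : Fact (Nat.Prime 5) := ⟨by norm_num⟩
  haveI : Fact (Nat.Prime 3) := ⟨by norm_num⟩
  obtain ⟨d, hd⟩ := exists_prime_orderOf_dvd_card' (G := D) 5 (by rw [h15]; norm_num)
  obtain ⟨e, he⟩ := exists_prime_orderOf_dvd_card' (G := D) 3 (by rw [h15]; norm_num)
  have lift : ∀ (x : D) (p : ℕ), orderOf x = p → p ≠ 1 → ∃ i, ∃ hi : i < 60, i ≠ 0 ∧
      ((x : M) : ↥(Eg E) ⧸ VE E) = K.q ⟨_, hM_CE0 hi⟩ ∧ inV4 (cdG (hM i ^ p)) = true := by
    intro x p hp hp1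
    obtain ⟨i, hi, ex⟩ := memH _ (Subgroup.mem_subgroupOf.1 x.2.1)
    refine ⟨i, hi, fun h0 => hp1 ?_, ex, (inV4_iff rfl).2 ?_⟩
    · subst h0
      rw [← hp, orderOf_eq_one_iff]
      refine Subtype.ext (Subtype.ext ?_)
      rw [ex]
      exact K.q_eq_one.2 ⟨0, by decide, cdG_inj (by rw [cd_hM (by decide), hv_ok.2.2]; exact cd_oneA.symm)⟩
    · refine (K.q_eq_one (n := ⟨_, hM_CE0 hi⟩ ^ p)).1 ?_
      rw [map_pow, ← ex, ← Subgroup.coe_pow, ← Subgroup.coe_pow, ← hp, pow_orderOf_eq_one]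
      rfl
  obtain ⟨i, hi, hi0, exd, hi5⟩ := lift d 5 hd (by norm_num)
  obtain ⟨j, hj, hj0, exe, hj3⟩ := lift e 3 he (by norm_num)
  have ho := List.all_eq_true.1 orders_ok i (List.mem_range.2 hi)
  have ho' := List.all_eq_true.1 orders_ok j (List.mem_range.2 hj)
  rw [pow_succ, pow_succ, pow_succ, pow_two, cdG_mul, cdG_mul, cdG_mul, cdG_mul, cd_hM hi] at hi5
  rw [pow_succ, pow_two, cdG_mul, cdG_mul, cd_hM hj] at hj3
  simp only [Bool.and_eq_true, Bool.or_eq_true, Nat.beq_eq, hi5, hi0, Bool.not_true, Bool.false_eq_true, or_false,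
    false_or] at ho
  simp only [Bool.and_eq_true, Bool.or_eq_true, Nat.beq_eq, hj3, hj0, Bool.not_true, Bool.false_eq_true, or_false,
    false_or] at ho'
  have hp := List.all_eq_true.1 (List.all_eq_true.1 pair_ok i (List.mem_of_elem_eq_true ho.1)) j
    (List.mem_of_elem_eq_true ho'.2)
  have key : ∀ (a b : ℕ) (n : CG), 0 < b → b < 3 → n = hM i ^ a * hM j ^ b → inV4 (cdG (n * n)) = true → False := by
    intro a b n hb0 hb hn hV
    have hne : n ∈ CE0 := hn ▸ mul_mem (pow_mem (hM_CE0 hi) a) (pow_mem (hM_CE0 hj) b)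
    have hx : ((d ^ a * e ^ b : D) : M).1 = K.q ⟨n, hne⟩ := by
      rw [show (⟨n, hne⟩ : ↥CE0) = ⟨_, hM_CE0 hi⟩ ^ a * ⟨_, hM_CE0 hj⟩ ^ b from Subtype.ext hn, map_mul, map_pow,
        map_pow, ← exd, ← exe]
      rfl
    have hsq : (d ^ a * e ^ b) ^ 2 = 1 := by
      refine Subtype.ext (Subtype.ext ?_)
      rw [pow_two]
      show ((d ^ a * e ^ b : D) : M).1 * ((d ^ a * e ^ b : D) : M).1 = 1
      rw [hx, ← map_mul]
      exact K.q_eq_one.2 ((inV4_iff rfl).1 hV)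
    have h1 : d ^ a * e ^ b = 1 := by
      rw [← orderOf_eq_one_iff]
      have h2 := orderOf_dvd_of_pow_eq_one hsq
      have h3 := orderOf_dvd_natCard (d ^ a * e ^ b)
      rw [h15] at h3
      exact Nat.dvd_one.1 (Nat.dvd_gcd h2 h3)
    have h5 : (e ^ b) ^ 5 = 1 := by
      rw [eq_inv_of_mul_eq_one_right h1, inv_pow, ← pow_mul, mul_comm, pow_mul, ← hd, pow_orderOf_eq_one, one_pow,
        inv_one]
    rw [← pow_mul] at h5
    have := orderOf_dvd_of_pow_eq_one h5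
    rw [he] at this
    omega
  simp only [Bool.or_eq_true] at hp
  rcases hp with ((hp | hp) | hp) | hp
  · exact key 1 1 _ (by norm_num) (by norm_num) rfl (by rw [pow_one, pow_one, cdG_mul, cdG_mul, cd_hM hi, cd_hM hj]; exact hp)
  · exact key 2 1 _ (by norm_num) (by norm_num) rfl (by
      rw [pow_two, pow_one, cdG_mul, cdG_mul, cdG_mul, cd_hM hi, cd_hM hj]; exact hp)
  · exact key 1 2 _ (by norm_num) (by norm_num) rfl (by
      rw [pow_one, pow_two, cdG_mul, cdG_mul, cdG_mul, cd_hM hi, cd_hM hj]; exact hp)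
  · exact key 2 2 _ (by norm_num) (by norm_num) rfl (by
      rw [pow_two, pow_two, cdG_mul, cdG_mul, cdG_mul, cdG_mul, cd_hM hi, cd_hM hj]; exact hp)

end Emb

end Cfsg.Agent.Spor.CoThreeCent
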