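import Cfsg.Agent.Lib.Spor.CoThreeCent.ModelSp
import Cfsg.Prelude.Def_SporadicB

/-!
A non-split double cover of the symplectic group of dimension six over two elements is the model.
-/

set_option autoImplicit false
set_option maxHeartbeats 1000000
set_option linter.style.haveILetI false

open scoped commutatorElement

namespace Cfsg.Agent.Spor.CoThreeCent

/-- A group covered by a subgroup and its centre has the commutators of that subgroup. -/
theorem commutator_le_cover {H : Type*} [Group H] (K : Subgroup H)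
    (h : ∀ x : H, ∃ k ∈ K, k⁻¹ * x ∈ Subgroup.center H) : commutator H ≤ ⁅K, K⁆ := by
  rw [commutator_def, Subgroup.commutator_le]
  intro a _ b _
  obtain ⟨k, hk, hkc⟩ := h a
  obtain ⟨l, hl, hlc⟩ := h b
  obtain ⟨c, hc, rfl⟩ : ∃ c ∈ Subgroup.center H, a = k * c := ⟨_, hkc, by group⟩
  obtain ⟨d, hd, rfl⟩ : ∃ d ∈ Subgroup.center H, b = l * d := ⟨_, hlc, by group⟩
  have hcc := Subgroup.mem_center_iff.1 hc
  have hdc := Subgroup.mem_center_iff.1 hd
  have e : ⁅k * c, l * d⁆ = ⁅k, l⁆ := by
    rw [commutatorElement_def, commutatorElement_def, mul_inv_rev, mul_inv_rev]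
    calc k * c * (l * d) * (c⁻¹ * k⁻¹) * (d⁻¹ * l⁻¹)
        = k * c * (l * d * c⁻¹) * k⁻¹ * (d⁻¹ * l⁻¹) := by group
      _ = k * (l * d * c⁻¹ * c) * k⁻¹ * (d⁻¹ * l⁻¹) := by rw [hcc (l * d * c⁻¹)]; group
      _ = k * l * (d * k⁻¹) * (d⁻¹ * l⁻¹) := by group
      _ = k * l * (k⁻¹ * d) * (d⁻¹ * l⁻¹) := by rw [hdc k⁻¹]
      _ = _ := by group
  rw [e]
  exact Subgroup.commutator_mem_commutator hk hl

/-- the model is perfect -/
theorem perfect_MA : commutator MA = ⊤ := by
  rw [← Abelianization.ker_of MA, MonoidHom.ker_eq_top_iff]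
  set φ := (Abelianization.of : MA →* Abelianization MA)
  have hcomm : ∀ x y : Abelianization MA, x * y = y * x := mul_comm
  have ht : φ tA = 1 := by
    have h : xa 0 * xa 1 = xa 1 * xa 0 * tA := eqA (by
      rw [cd_mulA, cd_mulA _ tA, cd_mulA, cd_xa (by decide), cd_xa (by decide), cd_tA, t_facts.2.2.2.1])
    have e := congrArg φ h
    rw [map_mul, map_mul _ (xa 1 * xa 0), map_mul, hcomm (φ (xa 1))] at e
    exact (mul_eq_left.1 e.symm)
  have htp : ∀ s, φ (tp s) = 1 := fun s => by
    cases s
    · exact map_one φ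
    · exact ht
  have hx : ∀ i < 63, φ (xa i) = φ (xa 0) := by
    refine tree_induct rfl fun i k hi hk ih => ?_
    obtain ⟨-, e⟩ := gen_conj hk hi
    have e' := congrArg φ e
    rw [map_mul, map_mul _ (xa _ * tp _), map_mul, htp, mul_one, hcomm, ih] at e'
    exact (mul_right_cancel e').symm
  have hp : ∀ w : List ℕ, (∀ i ∈ w, i < 63) → φ (xprod w) = φ (xa 0) ^ w.length := by
    intro w hw
    induction w with
    | nil => simp [xprod]
    | cons i w ih =>
      rw [xprod, List.map_cons, List.prod_cons, ← xprod, map_mul, hx i (hw i List.mem_cons_self),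
        ih fun x hx' => hw x (List.mem_cons_of_mem _ hx'), List.length_cons, pow_succ']
  have h2 : φ (xa 0) ^ 2 = 1 := by rw [pow_two, ← map_mul]; exact ht
  obtain ⟨ho, h7⟩ := odd_word
  obtain ⟨hw2, hwl2⟩ := ga_xprod (k := 2) (by decide)
  have e2 := hp _ hwl2
  rw [← hw2, ← Nat.mod_add_div (genXW.getD 2 []).length 2, Nat.eq_of_beq_eq_true ho, pow_add, pow_one, pow_mul, h2,
    one_pow, mul_one] at e2
  have e7 : ga 2 ^ 7 = 1 := eqA (by
    rw [cd_oneA, ← Nat.eq_of_beq_eq_true h7, ← RA.cd_wel]
    congr 1)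
  have hc : φ (xa 0) = 1 := by
    have h := congrArg φ e7
    rw [map_pow, e2, map_one, show 7 = 2 * 3 + 1 from rfl, pow_succ, pow_mul, h2, one_pow, one_mul] at h
    exact h
  refine MonoidHom.ext fun a => ?_
  rw [MonoidHom.one_apply]
  induction a using induct with
  | h1 => exact map_one φ
  | hm a k hk ih =>
    obtain ⟨hw, hwl⟩ := ga_xprod hk
    rw [map_mul, ih, hw, hp _ hwl, hc, one_pow, one_mul]

theorem perfect_Sp : commutator Sp6 = ⊤ := by
  rw [← MonoidHom.range_eq_top.2 piA_surj, MonoidHom.range_eq_map, ← perfect_MA, commutator_def, commutator_def,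
    Subgroup.map_commutator, ← MonoidHom.range_eq_map, MonoidHom.range_eq_top.2 piA_surj]

theorem map_comm_surj {P T : Type*} [Group P] [Group T] (f : P →* T) (hf : Function.Surjective f) :
    (commutator P).map f = commutator T := by
  rw [commutator_def, Subgroup.map_commutator, ← MonoidHom.range_eq_map, MonoidHom.range_eq_top.2 hf, commutator_def]

/-- a non-split double cover is the model -/
theorem cover_iso {H : Type*} [Group H] [Finite H] (hH : Cfsg.IsNonsplitDoubleCover H Sp6) : Nonempty (H ≃* MA) := by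
  classical
  haveI : Finite Sp6 := Nat.finite_of_card_ne_zero (by rw [Lie.SymplecticSix.card_sp hF2]; norm_num)
  haveI : Finite MA := Nat.finite_of_card_ne_zero (by rw [card_MA]; norm_num)
  obtain ⟨hc, ⟨e⟩, hns⟩ := hH
  let π : H →* Sp6 := e.toMonoidHom.comp (QuotientGroup.mk' (Subgroup.center H))
  have hπ : Function.Surjective π := e.surjective.comp (QuotientGroup.mk'_surjective _)
  have hker : π.ker = Subgroup.center H := by
    ext x
    rw [MonoidHom.mem_ker]
    show e (QuotientGroup.mk' _ x) = 1 ↔ _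
    rw [MulEquiv.map_eq_one_iff, ← MonoidHom.mem_ker, QuotientGroup.ker_mk']
  have hperf : commutator H = ⊤ := by
    have hsup : commutator H ⊔ Subgroup.center H = ⊤ := by
      rw [← hker, eq_top_iff]
      intro x _
      obtain ⟨k, hk, hkx⟩ : π x ∈ (commutator H).map π := by
        rw [commutator_def, Subgroup.map_commutator, ← MonoidHom.range_eq_map, MonoidHom.range_eq_top.2 hπ,
          ← commutator_def, perfect_Sp]
        trivial
      have : k⁻¹ * x ∈ π.ker := by rw [MonoidHom.mem_ker, map_mul, map_inv, hkx, inv_mul_cancel]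
      have h := mul_mem (Subgroup.mem_sup_left hk : k ∈ commutator H ⊔ π.ker) (Subgroup.mem_sup_right this)
      rwa [mul_inv_cancel_left] at h
    by_contra hne
    refine hns (commutator H) (Subgroup.isComplement'_of_disjoint_and_mul_eq_univ ?_ ?_)
    · rw [Subgroup.disjoint_def]
      intro x hx hxc
      by_contra hx1
      refine hne (eq_top_iff.2 (hsup ▸ sup_le le_rfl fun y hy => ?_))
      obtain ⟨z, hz, huniv⟩ := (Nat.card_eq_two_iff' (1 : Subgroup.center H)).1 hc
      rcases eq_or_ne y 1 with rfl | hy1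
      · exact one_mem _
      · have e1 := huniv ⟨x, hx⟩ fun h => hx1 (congrArg Subtype.val h)
        have e2 := huniv ⟨y, hy⟩ fun h => hy1 (congrArg Subtype.val h)
        rwa [show y = x from congrArg Subtype.val (e2.trans e1.symm)]
    · rw [← Subgroup.mul_normal, sup_comm, hsup, Subgroup.coe_top]
  have hMc : ∀ a : MA, piA a = 1 → a ∈ Subgroup.center MA := fun a ha =>
    Subgroup.mem_center_iff.2 fun b => (ker_central ha b).symm
  let P : Subgroup (H × MA) := (π.comp (MonoidHom.fst H MA)).eqLocus (piA.comp (MonoidHom.snd H MA))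
  let f1 : P →* H := (MonoidHom.fst H MA).comp P.subtype
  let f2 : P →* MA := (MonoidHom.snd H MA).comp P.subtype
  let πP : P →* Sp6 := π.comp f1
  have hP : ∀ w : P, π (f1 w) = piA (f2 w) := fun w => w.2
  have hf1 : Function.Surjective f1 := fun a => by
    obtain ⟨b, hb⟩ := piA_surj (π a)
    exact ⟨⟨(a, b), hb.symm⟩, rfl⟩
  have hf2 : Function.Surjective f2 := fun b => by
    obtain ⟨a, ha⟩ := hπ (piA b)
    exact ⟨⟨(a, b), ha⟩, rfl⟩
  have hπP : Function.Surjective πP := hπ.comp hf1
  have hPc : ∀ w : P, πP w = 1 → w ∈ Subgroup.center P := fun w hw => by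
    refine Subgroup.mem_center_iff.2 fun v => Subtype.ext (Prod.ext ?_ ?_)
    · exact Subgroup.mem_center_iff.1 (hker ▸ MonoidHom.mem_ker.2 hw) (f1 v)
    · exact Subgroup.mem_center_iff.1 (hMc (f2 w) ((hP w).symm.trans hw)) (f2 v)
  set K : Subgroup P := commutator P with hK
  have hcov : ∀ w : P, ∃ k ∈ K, k⁻¹ * w ∈ Subgroup.center P := fun w => by
    obtain ⟨k, hk, hkw⟩ : πP w ∈ K.map πP := by rw [map_comm_surj πP hπP, perfect_Sp]; trivial
    exact ⟨k, hk, hPc _ (by rw [map_mul, map_inv, hkw, inv_mul_cancel])⟩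
  have hKK : ⁅K, K⁆ = K := le_antisymm
    (Subgroup.commutator_mono le_top le_top |>.trans_eq (commutator_def P).symm) (commutator_le_cover K hcov)
  have hKtop : commutator K = ⊤ := by
    refine Subgroup.map_injective K.subtype_injective ?_
    rw [commutator_def, Subgroup.map_commutator, ← MonoidHom.range_eq_map, Subgroup.range_subtype, hKK]
  let πK : K →* Sp6 := πP.comp K.subtype
  have hπK : Function.Surjective πK := by
    rw [← MonoidHom.range_eq_top, MonoidHom.range_comp, Subgroup.range_subtype, map_comm_surj πP hπP, perfect_Sp]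
  have hstem : Cfsg.IsStemExtension πK := ⟨hπK, fun w hw => Subgroup.mem_center_iff.2 fun v => Subtype.ext
    (Subgroup.mem_center_iff.1 (hPc (w : P) hw) (v : P)), by rw [hKtop]; exact le_top⟩
  obtain ⟨g, hg, hgen⟩ := Lie.SymplecticSix.upper hF2 K πK hstem
  have hk2 : Nat.card πK.ker ≤ 2 := by
    rw [← Subgroup.card_top, ← (Subgroup.eq_top_iff' _).2 hgen, Nat.card_zpowers]
    exact Nat.le_of_dvd (by norm_num) (orderOf_dvd_of_pow_eq_one hg)
  have hcK : Nat.card K ≤ 2903040 := by
    rw [← Subgroup.card_mul_index πK.ker, Subgroup.index_ker, MonoidHom.range_eq_top.2 hπK, Subgroup.card_top,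
      Lie.SymplecticSix.card_sp hF2]
    omega
  have hcH : Nat.card H = 2903040 := by
    rw [← Subgroup.card_mul_index π.ker, Subgroup.index_ker, MonoidHom.range_eq_top.2 hπ, Subgroup.card_top,
      Lie.SymplecticSix.card_sp hF2, hker, hc]
  let g1 : K →* H := f1.comp K.subtype
  let g2 : K →* MA := f2.comp K.subtype
  have hg1 : Function.Surjective g1 := by
    rw [← MonoidHom.range_eq_top, MonoidHom.range_comp, Subgroup.range_subtype, map_comm_surj f1 hf1, hperf]
  have hg2 : Function.Surjective g2 := by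
    rw [← MonoidHom.range_eq_top, MonoidHom.range_comp, Subgroup.range_subtype, map_comm_surj f2 hf2, perfect_MA]
  have b1 := (Nat.bijective_iff_surjective_and_card g1).2
    ⟨hg1, le_antisymm (hcK.trans hcH.ge) (Nat.card_le_card_of_surjective g1 hg1)⟩
  have b2 := (Nat.bijective_iff_surjective_and_card g2).2
    ⟨hg2, le_antisymm (hcK.trans card_MA.ge) (Nat.card_le_card_of_surjective g2 hg2)⟩
  exact ⟨(MulEquiv.ofBijective g1 b1).symm.trans (MulEquiv.ofBijective g2 b2)⟩

end Cfsg.Agent.Spor.CoThreeCent
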