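import Cfsg.Agent.Lib.Spor.MclCent.Engine

/-!
Certificate data for the double cosets of the centralizer of a 2A-involution in Co3: coverings.
-/

set_option autoImplicit false
set_option maxRecDepth 100000
set_option maxHeartbeats 0

namespace Cfsg.Agent.Spor.CoThreeCent

open DCoset

/-- part 0 of coverings -/
def covL0 : List (List (ℕ × Src)) := [
  [(0, Src.edge (6, [])), (1, Src.par 0 0), (2, Src.par 0 1), (3, Src.par 0 2), (4, Src.par 0 3), (5, Src.par 0 5), (6, Src.par 1 1), (7, Src.par 1 2), (8, Src.par 1 4), (9, Src.par 1 5), (10, Src.par 2 2), (11, Src.par 2 5), (12, Src.par 3 0), (13, Src.par 3 2), (14, Src.par 3 3), (15, Src.par 4 1), (16, Src.par 4 2), (17, Src.par 4 4), (18, Src.par 4 5), (19, Src.par 5 5), (20, Src.par 6 2), (21, Src.par 6 3), (22, Src.par 6 5), (23, Src.par 7 0), (24, Src.par 7 2), (25, Src.par 7 3), (26, Src.par 8 0), (27, Src.par 8 2), (28, Src.par 8 5), (29, Src.par 9 1), (30, Src.par 9 3), (31, Src.par 9 4), (32, Src.par 9 5), (33, Src.par 10 0), (34, Src.par 10 2), (35, Src.par 10 3), (36, Src.par 11 5), (37, Src.par 12 0), (38, Src.par 12 1), (39, Src.par 12 2), (40, Src.par 12 4), (41,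 Src.par 12 5), (42, Src.par 13 0), (43, Src.par 13 2), (44, Src.par 13 3), (45, Src.par 14 1), (46, Src.par 14 2), (47, Src.par 14 4), (48, Src.par 14 5), (49, Src.par 15 2), (50, Src.par 15 3), (51, Src.par 15 5), (52, Src.par 16 0), (53, Src.par 16 2), (54, Src.par 16 3), (55, Src.par 17 0), (56, Src.par 17 2), (57, Src.par 18 1), (58, Src.par 18 4), (59, Src.par 18 5), (60, Src.par 19 1), (61, Src.par 19 4), (62, Src.par 19 5), (63, Src.par 20 0), (64, Src.par 20 2), (65, Src.par 20 3), (66, Src.par 21 5), (67, Src.par 22 1), (68, Src.par 22 4), (69, Src.par 22 5), (70, Src.par 23 1), (71, Src.par 23 2), (72, Src.par 23 4), (73, Src.par 23 5), (74, Src.par 24 0), (75, Src.par 24 2), (76, Src.par 24 3), (77, Src.par 25 1), (78, Src.par 25 2), (79, Src.par 25 4), (80, Src.par 25 5), (81, Src.par 26 2), (82, Src.par 26 5), (83, Src.par 27 2), (84, Src.par 28 1), (85, Src.par 28 4), (86, Src.par 28 5), (87, Src.par 29 0), (88, Src.par 29 1), (89, Src.par 29 2), (90, Src.par 29 3), (91, Src.par 29 5), (92, Src.par 30 1), (93, Src.par 30 4), (94, Src.par 30 5), (95, Src.par 31 0), (96, Src.par 31 2), (97, Src.par 31 3), (98, Src.par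 31 5), (99, Src.par 32 0), (100, Src.par 32 1), (101, Src.par 32 3), (102, Src.par 32 4), (103, Src.par 32 5), (104, Src.par 33 0), (105, Src.par 33 1), (106, Src.par 33 2), (107, Src.par 33 4), (108, Src.par 33 5), (109, Src.par 34 0), (110, Src.par 34 2), (111, Src.par 34 3), (112, Src.par 35 1), (113, Src.par 35 2), (114, Src.par 35 4), (115, Src.par 35 5), (116, Src.par 36 1), (117, Src.par 36 4), (118, Src.par 36 5), (119, Src.par 37 2), (120, Src.par 38 1), (121, Src.par 38 2), (122, Src.par 38 3), (123, Src.par 38 5), (124, Src.par 39 0), (125, Src.par 39 2), (126, Src.par 39 3), (127, Src.par 40 0), (128, Src.par 40 2), (129, Src.par 40 3), (130, Src.par 40 5), (131, Src.par 41 0), (132, Src.par 41 1), (133, Src.par 41 3), (134, Src.par 41 4), (135, Src.par 41 5), (136, Src.par 42 0), (137, Src.par 42 1), (138, Src.par 42 2), (139, Src.par 42 5), (140, Src.par 43 0), (141, Src.par 43 3), (142, Src.par 43 4), (143, Src.par 44 2), (144, Src.par 44 4), (145, Src.par 44 5), (146, Src.par 45 0), (147, Src.par 45 1), (148, Src.par 45 2), (149, Src.par 45 3), (150, Src.par 45 5), (151, Src.par 46 0), (152, Src.par 46 2), (153,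 Src.par 46 3), (154, Src.par 47 0), (155, Src.par 47 2), (156, Src.par 47 5), (157, Src.par 48 0), (158, Src.par 48 1), (159, Src.par 48 3), (160, Src.par 48 5), (161, Src.par 50 5), (162, Src.par 51 1), (163, Src.par 51 4), (164, Src.par 51 5), (165, Src.par 52 2), (166, Src.par 52 4), (167, Src.par 52 5), (168, Src.par 53 0), (169, Src.par 53 2), (170, Src.par 53 3), (171, Src.par 54 1), (172, Src.par 54 2), (173, Src.par 54 4), (174, Src.par 54 5), (175, Src.par 55 2), (176, Src.par 55 5), (177, Src.par 56 2), (178, Src.par 57 0), (179, Src.par 57 1), (180, Src.par 57 2), (181, Src.par 58 0), (182, Src.par 58 2), (183, Src.par 58 3), (184, Src.par 58 5), (185, Src.par 59 1), (186, Src.par 59 4), (187, Src.par 59 5), (188, Src.par 60 0), (189, Src.par 60 1), (190, Src.par 61 0), (191, Src.par 61 2), (192, Src.par 61 3), (193, Src.par 61 5), (194, Src.par 62 4), (195, Src.par 64 0), (196, Src.par 64 2), (197, Src.par 66 1), (198, Src.par 66 4), (199, Src.par 67 0), (200, Src.par 67 1), (201, Src.par 67 2), (202, Src.par 67 5), (203, Src.par 68 2), (204, Src.par 68 3), (205, Src.par 68 5), (206, Src.par 69 1), (207, Src.par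 69 4), (208, Src.par 69 5), (209, Src.par 70 1), (210, Src.par 70 3), (211, Src.par 70 5), (212, Src.par 71 0), (213, Src.par 71 3), (214, Src.par 72 0), (215, Src.par 72 2), (216, Src.par 72 3), (217, Src.par 73 0), (218, Src.par 73 1), (219, Src.par 73 3), (220, Src.par 73 5), (221, Src.par 74 0), (222, Src.par 74 1), (223, Src.par 74 2), (224, Src.par 74 4), (225, Src.par 74 5), (226, Src.par 75 0), (227, Src.par 76 1), (228, Src.par 76 4), (229, Src.par 76 5), (230, Src.par 77 0), (231, Src.par 77 1), (232, Src.par 77 2), (233, Src.par 77 3), (234, Src.par 77 5), (235, Src.par 78 0), (236, Src.par 78 2), (237, Src.par 78 3), (238, Src.par 79 0), (239, Src.par 80 1), (240, Src.par 80 4), (241, Src.par 80 5), (242, Src.par 81 0), (243, Src.par 81 2), (244, Src.par 83 0), (245, Src.par 83 2), (246, Src.par 84 0), (247, Src.par 84 1), (248, Src.par 84 2), (249, Src.par 84 3), (250, Src.par 84 5), (251, Src.par 85 3), (252, Src.par 85 5), (253, Src.par 86 4), (254, Src.par 87 0), (255, Src.par 87 4), (256, Src.par 87 5), (257, Src.par 88 0), (258, Src.par 88 2), (259, Src.par 88 3), (260, Src.par 88 5), (261, Src.par 89 2),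 (262, Src.par 89 3), (263, Src.par 90 1), (264, Src.par 91 1), (265, Src.par 91 4), (266, Src.par 91 5), (267, Src.par 92 0), (268, Src.par 92 1), (269, Src.par 92 2), (270, Src.par 92 3), (271, Src.par 93 3), (272, Src.par 93 5), (273, Src.par 94 1), (274, Src.par 94 4), (275, Src.par 95 0), (276, Src.par 96 0), (277, Src.par 96 2), (278, Src.par 96 3), (279, Src.par 97 1), (280, Src.par 98 0), (281, Src.par 98 3), (282, Src.par 98 4), (283, Src.par 98 5), (284, Src.par 99 1), (285, Src.par 99 4), (286, Src.par 100 0), (287, Src.par 100 1), (288, Src.par 100 3), (289, Src.par 100 5), (290, Src.par 101 1), (291, Src.par 101 5), (292, Src.par 102 0), (293, Src.par 102 2), (294, Src.par 102 3), (295, Src.par 103 3), (296, Src.par 103 4), (297, Src.par 104 2), (298, Src.par 105 1), (299, Src.par 105 2), (300, Src.par 105 3), (301, Src.par 106 0), (302, Src.par 106 2), (303, Src.par 106 3), (304, Src.par 107 2), (305, Src.par 108 1), (306, Src.par 108 5), (307, Src.par 109 0), (308, Src.par 109 2), (309, Src.par 109 5), (310, Src.par 110 0), (311, Src.par 110 3), (312, Src.par 110 4), (313, Src.par 111 4), (314, Src.par 111 5),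 (315, Src.par 112 1), (316, Src.par 112 2), (317, Src.par 113 3), (318, Src.par 114 0), (319, Src.par 114 5), (320, Src.par 115 1), (321, Src.par 115 5), (322, Src.par 116 0), (323, Src.par 116 1), (324, Src.par 117 0), (325, Src.par 117 2), (326, Src.par 117 3), (327, Src.par 117 5), (328, Src.par 118 4), (329, Src.par 119 0), (330, Src.par 119 2), (331, Src.par 119 3), (332, Src.par 120 2), (333, Src.par 121 2), (334, Src.par 122 5), (335, Src.par 123 4), (336, Src.par 123 5), (337, Src.par 124 0), (338, Src.par 124 4), (339, Src.par 126 1), (340, Src.par 126 2), (341, Src.par 126 5), (342, Src.par 127 0), (343, Src.par 127 2), (344, Src.par 128 0), (345, Src.par 129 2), (346, Src.par 129 4), (347, Src.par 130 0), (348, Src.par 130 1), (349, Src.par 131 1), (350, Src.par 131 4), (351, Src.par 131 5), (352, Src.par 132 0), (353, Src.par 132 1), (354, Src.par 132 2), (355, Src.par 132 3), (356, Src.par 133 1), (357, Src.par 133 4), (358, Src.par 133 5), (359, Src.par 134 2), (360, Src.par 134 5), (361, Src.par 135 0), (362, Src.par 135 1), (363, Src.par 135 3), (364, Src.par 136 4), (365, Src.par 137 2), (366, Src.par 137 5),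 (367, Src.par 138 1), (368, Src.par 138 2), (369, Src.par 139 0), (370, Src.par 139 1), (371, Src.par 139 3), (372, Src.par 139 4), (373, Src.par 139 5), (374, Src.par 140 2), (375, Src.par 141 2), (376, Src.par 141 5), (377, Src.par 142 2), (378, Src.par 143 1), (379, Src.par 143 3), (380, Src.par 144 0), (381, Src.par 144 2), (382, Src.par 144 5), (383, Src.par 145 5), (384, Src.par 146 0), (385, Src.par 146 2), (386, Src.par 147 2), (387, Src.par 147 5), (388, Src.par 148 3), (389, Src.par 150 1), (390, Src.par 150 4), (391, Src.par 150 5), (392, Src.par 151 2), (393, Src.par 151 4), (394, Src.par 151 5), (395, Src.par 153 2), (396, Src.par 153 5), (397, Src.par 154 2), (398, Src.par 154 5), (399, Src.par 155 0), (400, Src.par 157 1), (401, Src.par 157 5), (402, Src.par 158 0), (403, Src.par 158 2), (404, Src.par 158 5), (405, Src.par 160 1), (406, Src.par 160 3), (407, Src.par 160 4), (408, Src.par 162 1), (409, Src.par 163 2), (410, Src.par 163 3), (411, Src.par 163 5), (412, Src.par 164 1), (413, Src.par 164 4), (414, Src.par 164 5), (415, Src.par 165 0), (416, Src.par 165 3), (417, Src.par 166 0), (418, Src.par 166 2),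 (419, Src.par 166 3), (420, Src.par 167 1), (421, Src.par 168 0), (422, Src.par 168 1), (423, Src.par 170 4), (424, Src.par 171 1), (425, Src.par 171 3), (426, Src.par 172 2), (427, Src.par 172 3), (428, Src.par 173 0), (429, Src.par 174 1), (430, Src.par 177 0), (431, Src.par 178 4), (432, Src.par 178 5), (433, Src.par 179 0), (434, Src.par 179 2), (435, Src.par 179 3), (436, Src.par 180 3), (437, Src.par 182 0), (438, Src.par 184 4), (439, Src.par 184 5), (440, Src.par 185 3), (441, Src.par 185 5), (442, Src.par 186 0), (443, Src.par 186 2), (444, Src.par 186 3), (445, Src.par 187 3), (446, Src.par 187 4), (447, Src.par 188 2), (448, Src.par 188 5), (449, Src.par 189 3), (450, Src.par 190 0), (451, Src.par 190 2), (452, Src.par 190 4), (453, Src.par 191 0), (454, Src.par 191 3), (455, Src.par 192 2), (456, Src.par 192 5), (457, Src.par 193 0), (458, Src.par 193 4), (459, Src.par 193 5), (460, Src.par 194 0), (461, Src.par 194 2), (462, Src.par 194 3), (463, Src.par 194 5), (464, Src.par 195 2), (465, Src.par 195 4), (466, Src.par 197 2), (467, Src.par 200 5), (468, Src.par 202 1), (469, Src.par 202 4), (470, Src.par 202 5),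 (471, Src.par 203 0), (472, Src.par 205 4), (473, Src.par 207 0), (474, Src.par 207 3), (475, Src.par 207 5), (476, Src.par 210 5), (477, Src.par 211 1), (478, Src.par 211 5), (479, Src.par 212 4), (480, Src.par 212 5), (481, Src.par 213 1), (482, Src.par 213 2), (483, Src.par 213 5), (484, Src.par 214 2), (485, Src.par 215 0), (486, Src.par 215 2), (487, Src.par 215 3), (488, Src.par 218 2), (489, Src.par 218 3), (490, Src.par 218 5), (491, Src.par 219 4), (492, Src.par 220 3), (493, Src.par 220 5), (494, Src.par 221 1), (495, Src.par 221 4), (496, Src.par 222 0), (497, Src.par 222 1), (498, Src.par 223 3), (499, Src.par 224 3), (500, Src.par 225 1), (501, Src.par 225 5), (502, Src.par 226 2), (503, Src.par 226 5), (504, Src.par 227 0), (505, Src.par 227 1), (506, Src.par 227 5), (507, Src.par 228 2), (508, Src.par 230 0), (509, Src.par 231 5), (510, Src.par 232 3), (511, Src.par 234 1), (512, Src.par 234 5), (513, Src.par 235 5), (514, Src.par 236 0), (515, Src.par 236 2), (516, Src.par 237 1), (517, Src.par 238 2), (518, Src.par 238 4), (519, Src.par 239 0), (520, Src.par 239 2), (521, Src.par 239 3), (522, Src.par 239 5),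 (523, Src.par 240 5), (524, Src.par 241 5), (525, Src.par 244 1), (526, Src.par 244 4), (527, Src.par 244 5), (528, Src.par 246 5), (529, Src.par 247 2), (530, Src.par 250 4), (531, Src.par 252 4), (532, Src.par 253 3), (533, Src.par 253 5), (534, Src.par 254 1), (535, Src.par 254 5), (536, Src.par 255 2), (537, Src.par 255 5), (538, Src.par 256 1), (539, Src.par 256 4), (540, Src.par 257 2), (541, Src.par 260 5), (542, Src.par 262 5), (543, Src.par 264 0), (544, Src.par 264 1), (545, Src.par 265 2), (546, Src.par 265 3), (547, Src.par 266 0), (548, Src.par 266 1), (549, Src.par 267 0), (550, Src.par 268 2), (551, Src.par 272 4), (552, Src.par 273 1), (553, Src.par 274 3), (554, Src.par 274 5), (555, Src.par 275 2), (556, Src.par 276 1), (557, Src.par 277 2), (558, Src.par 282 0), (559, Src.par 282 2), (560, Src.par 282 3), (561, Src.par 283 0), (562, Src.par 283 3), (563, Src.par 284 2), (564, Src.par 284 3), (565, Src.par 285 3), (566, Src.par 285 5), (567, Src.par 287 5), (568, Src.par 289 0), (569, Src.par 289 1), (570, Src.par 289 4), (571, Src.par 290 0), (572, Src.par 290 5), (573, Src.par 291 0), (574, Src.par 291 1),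 (575, Src.par 291 4), (576, Src.par 291 5), (577, Src.par 292 4), (578, Src.par 292 5), (579, Src.par 293 2), (580, Src.par 294 1), (581, Src.par 294 2), (582, Src.par 294 5), (583, Src.par 295 5), (584, Src.par 296 0), (585, Src.par 296 2), (586, Src.par 296 3), (587, Src.par 303 2), (588, Src.par 304 0), (589, Src.par 305 2), (590, Src.par 309 3), (591, Src.par 310 2), (592, Src.par 311 2), (593, Src.par 312 2), (594, Src.par 313 5), (595, Src.par 324 2), (596, Src.par 325 0), (597, Src.par 326 2), (598, Src.par 327 4), (599, Src.par 328 2), (600, Src.par 328 3), (601, Src.par 328 5), (602, Src.par 329 0), (603, Src.par 334 0), (604, Src.par 335 5), (605, Src.par 339 3), (606, Src.par 349 0), (607, Src.par 351 4), (608, Src.par 353 0), (609, Src.par 355 1), (610, Src.par 357 2), (611, Src.par 357 5), (612, Src.par 365 1), (613, Src.par 365 3), (614, Src.par 370 5), (615, Src.par 374 3), (616, Src.par 389 5), (617, Src.par 391 1), (618, Src.par 417 2), (619, Src.par 418 3), (620, Src.par 436 5), (621, Src.par 439 0), (622, Src.par 439 3), (623, Src.par 441 4), (624, Src.par 444 5), (625, Src.par 458 2), (626, Src.par 460 1),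 (627, Src.par 462 5), (628, Src.par 469 5), (629, Src.par 483 1)]]

/-- part 1 of coverings -/
def covL1 : List (List (ℕ × Src)) := [
  [(0, Src.edge (6, [Op.S])), (2, Src.edge (8, [])), (9, Src.edge (44, [])), (21, Src.edge (7, [])), (32, Src.edge (86, [])), (41, Src.edge (124, [])), (242, Src.edge (45, [])), (68, Src.par 2 41), (360, Src.par 2 42), (623, Src.par 2 43), (4, Src.par 3 41), (20, Src.par 3 42), (435, Src.par 3 43), (616, Src.par 4 42), (521, Src.par 4 43), (282, Src.par 5 41), (513, Src.par 5 42), (253, Src.par 5 43), (324, Src.par 6 41), (267, Src.par 6 42), (299, Src.par 6 43), (322, Src.par 7 41), (128, Src.par 7 42), (585, Src.par 7 43), (484, Src.par 8 41), (337, Src.par 8 43), (381, Src.par 9 41), (372, Src.par 9 42), (33, Src.par 9 43), (17, Src.par 10 41), (10, Src.par 10 42), (386, Src.par 10 43), (27, Src.par 11 41), (175, Src.par 11 43), (376, Src.par 12 41), (26, Src.par 12 43), (44, Src.par 13 41), (525, Src.par 13 43), (457, Src.par 14 41), (76, Src.par 14 42), (406, Src.par 14 43), (395, Src.par 15 41), (156, Src.par 15 42), (184, Src.par 15 43), (305, Src.par 16 41), (219, Src.par 16 43), (143,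 Src.par 17 41), (320, Src.par 17 42), (572, Src.par 17 43), (425, Src.par 18 41), (279, Src.par 18 43), (82, Src.par 19 41), (249, Src.par 19 43), (180, Src.par 20 41), (97, Src.par 20 42), (66, Src.par 20 43), (555, Src.par 21 42), (507, Src.par 21 43), (540, Src.par 22 41), (135, Src.par 22 43), (610, Src.par 23 41), (45, Src.par 23 43), (536, Src.par 24 41), (384, Src.par 24 42), (148, Src.par 24 43), (297, Src.par 25 41), (112, Src.par 25 42), (13, Src.par 25 43), (294, Src.par 26 41), (612, Src.par 26 42), (271, Src.par 26 43), (454, Src.par 27 41), (116, Src.par 27 43), (40, Src.par 28 41), (306, Src.par 28 42), (613, Src.par 28 43), (37, Src.par 29 42), (257, Src.par 29 43), (49, Src.par 30 41), (259, Src.par 31 41), (333, Src.par 31 42), (11, Src.par 31 43), (3, Src.par 32 41), (6, Src.par 32 42), (528, Src.par 34 41), (15, Src.par 34 43), (332, Src.par 35 43), (202, Src.par 36 41), (485, Src.par 36 42), (222, Src.par 36 43), (115, Src.par 37 41), (340, Src.par 37 42), (302, Src.par 37 43), (357, Src.par 38 41), (91, Src.par 38 42), (367, Src.par 38 43), (152, Src.par 39 41), (158, Src.par 39 43), (522, Src.par 40 41),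 (575, Src.par 40 42), (328, Src.par 40 43), (213, Src.par 41 43), (207, Src.par 42 41), (369, Src.par 42 43), (151, Src.par 43 41), (80, Src.par 43 42), (500, Src.par 43 43), (227, Src.par 44 41), (290, Src.par 44 42), (264, Src.par 44 43), (533, Src.par 45 41), (599, Src.par 45 42), (169, Src.par 45 43), (206, Src.par 46 41), (458, Src.par 46 42), (211, Src.par 46 43), (244, Src.par 47 41), (111, Src.par 48 41), (59, Src.par 48 42), (615, Src.par 48 43), (89, Src.par 49 43), (517, Src.par 50 42), (230, Src.par 50 43), (419, Src.par 51 41), (452, Src.par 51 43), (417, Src.par 52 41), (95, Src.par 52 42), (183, Src.par 52 43), (64, Src.par 53 41), (346, Src.par 54 41), (216, Src.par 54 43), (198, Src.par 55 41), (214, Src.par 55 42), (203, Src.par 55 43), (455, Src.par 56 41), (373, Src.par 56 43), (600, Src.par 57 41), (493, Src.par 57 42), (195, Src.par 57 43), (325, Src.par 58 41), (14, Src.par 58 42), (483, Src.par 58 43), (345, Src.par 59 41), (12, Src.par 59 42), (292, Src.par 60 41), (120, Src.par 60 43), (275, Src.par 61 41), (501, Src.par 61 42), (145, Src.par 61 43), (114, Src.par 62 42), (113, Src.par 62 43), (30,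 Src.par 63 41), (562, Src.par 63 43), (404, Src.par 64 41), (204, Src.par 64 42), (620, Src.par 64 43), (261, Src.par 65 41), (200, Src.par 65 42), (421, Src.par 65 43), (277, Src.par 66 41), (314, Src.par 66 43), (316, Src.par 67 41), (189, Src.par 67 42), (499, Src.par 67 43), (596, Src.par 68 42), (107, Src.par 68 43), (547, Src.par 69 41), (262, Src.par 69 43), (388, Src.par 70 42), (442, Src.par 70 43), (524, Src.par 71 41), (532, Src.par 71 42), (88, Src.par 71 43), (431, Src.par 72 41), (504, Src.par 72 42), (254, Src.par 73 41), (398, Src.par 74 41), (597, Src.par 74 43), (514, Src.par 75 41), (503, Src.par 75 42), (19, Src.par 75 43), (7, Src.par 76 41), (16, Src.par 76 43), (471, Src.par 77 41), (56, Src.par 78 41), (50, Src.par 78 42), (81, Src.par 78 43), (55, Src.par 79 43), (1, Src.par 82 42), (104, Src.par 82 43), (5, Src.par 84 43), (433, Src.par 86 41), (205, Src.par 87 42), (505, Src.par 87 43), (308, Src.par 88 43), (167, Src.par 89 41), (482, Src.par 89 42), (319, Src.par 89 43), (551, Src.par 90 41), (544, Src.par 90 42), (380, Src.par 90 43), (393, Src.par 91 41), (285, Src.par 92 41), (378, Src.par 92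 43), (335, Src.par 93 42), (391, Src.par 93 43), (43, Src.par 94 41), (481, Src.par 94 43), (236, Src.par 95 41), (124, Src.par 95 43), (361, Src.par 96 41), (293, Src.par 96 42), (359, Src.par 96 43), (430, Src.par 97 41), (274, Src.par 97 42), (412, Src.par 97 43), (75, Src.par 98 41), (252, Src.par 98 43), (486, Src.par 99 41), (511, Src.par 100 41), (491, Src.par 100 42), (260, Src.par 100 43), (558, Src.par 101 41), (445, Src.par 101 42), (363, Src.par 102 42), (133, Src.par 102 43), (220, Src.par 103 41), (604, Src.par 103 43), (601, Src.par 104 41), (349, Src.par 104 42), (515, Src.par 104 43), (472, Src.par 105 41), (497, Src.par 105 43), (229, Src.par 106 43), (565, Src.par 107 42), (470, Src.par 107 43), (468, Src.par 108 43), (331, Src.par 110 41), (400, Src.par 110 43), (427, Src.par 111 41), (74, Src.par 111 43), (506, Src.par 112 41), (392, Src.par 112 42), (126, Src.par 112 43), (590, Src.par 113 43), (422, Src.par 114 41), (415, Src.par 114 43), (336, Src.par 115 42), (581, Src.par 115 43), (628, Src.par 116 41), (353, Src.par 116 43), (519, Src.par 118 43), (48, Src.par 119 41), (587, Src.par 119 42), (125,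 Src.par 119 43), (127, Src.par 120 41), (65, Src.par 121 43), (192, Src.par 122 41), (246, Src.par 123 43), (270, Src.par 124 41), (199, Src.par 124 42), (63, Src.par 124 43), (161, Src.par 125 42), (243, Src.par 126 41), (149, Src.par 126 43), (447, Src.par 127 41), (121, Src.par 127 42), (129, Src.par 128 43), (197, Src.par 129 41), (233, Src.par 131 43), (181, Src.par 132 43), (397, Src.par 133 43), (550, Src.par 134 41), (39, Src.par 134 43), (466, Src.par 135 41), (495, Src.par 135 43), (582, Src.par 136 41), (276, Src.par 136 42), (475, Src.par 137 41), (122, Src.par 137 43), (460, Src.par 138 43), (629, Src.par 139 43), (607, Src.par 140 43), (258, Src.par 141 41), (173, Src.par 141 42), (172, Src.par 141 43), (160, Src.par 142 41), (518, Src.par 142 42), (584, Src.par 143 43), (441, Src.par 144 42), (171, Src.par 145 41), (71, Src.par 145 42), (537, Src.par 145 43), (263, Src.par 146 41), (119, Src.par 147 41), (34, Src.par 147 43), (446, Src.par 148 41), (85, Src.par 148 43), (549, Src.par 149 41), (364, Src.par 150 41), (231, Src.par 150 42), (321, Src.par 150 43), (117, Src.par 151 41), (627, Src.par 151 43), (553,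 Src.par 152 41), (351, Src.par 152 42), (410, Src.par 152 43), (38, Src.par 153 42), (247, Src.par 154 41), (221, Src.par 155 41), (318, Src.par 155 42), (405, Src.par 155 43), (334, Src.par 156 43), (84, Src.par 157 41), (545, Src.par 157 43), (67, Src.par 158 42), (529, Src.par 158 43), (209, Src.par 159 41), (494, Src.par 159 42), (567, Src.par 159 43), (296, Src.par 160 41), (93, Src.par 160 43), (201, Src.par 161 41), (542, Src.par 161 43), (29, Src.par 162 41), (626, Src.par 162 43), (46, Src.par 163 41), (57, Src.par 163 42), (210, Src.par 165 41), (570, Src.par 166 42), (60, Src.par 166 43), (25, Src.par 167 41), (407, Src.par 167 42), (403, Src.par 167 43), (248, Src.par 168 41), (535, Src.par 168 43), (583, Src.par 169 41), (289, Src.par 169 42), (465, Src.par 169 43), (576, Src.par 170 42), (436, Src.par 170 43), (559, Src.par 171 41), (166, Src.par 171 43), (24, Src.par 172 42), (432, Src.par 172 43), (179, Src.par 173 41), (539, Src.par 173 43), (78, Src.par 174 41), (589, Src.par 175 43), (618, Src.par 176 43), (106, Src.par 177 43), (154, Src.par 178 43), (163, Src.par 179 43), (449, Src.par 183 41), (8, Src.par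 188 41), (456, Src.par 190 43), (240, Src.par 192 41), (355, Src.par 192 43), (108, Src.par 193 41), (416, Src.par 193 43), (288, Src.par 194 41), (101, Src.par 194 43), (598, Src.par 195 41), (568, Src.par 195 43), (592, Src.par 196 41), (554, Src.par 196 43), (413, Src.par 197 41), (438, Src.par 197 42), (241, Src.par 197 43), (358, Src.par 198 42), (467, Src.par 198 43), (153, Src.par 199 41), (348, Src.par 200 42), (496, Src.par 201 41), (312, Src.par 201 42), (62, Src.par 201 43), (591, Src.par 203 42), (477, Src.par 204 43), (109, Src.par 205 42), (224, Src.par 206 41), (287, Src.par 206 42), (218, Src.par 206 43), (225, Src.par 207 41), (303, Src.par 208 41), (273, Src.par 208 43), (186, Src.par 209 42), (283, Src.par 209 43), (131, Src.par 210 42), (339, Src.par 210 43), (593, Src.par 211 41), (237, Src.par 212 43), (611, Src.par 213 41), (266, Src.par 214 41), (284, Src.par 215 42), (371, Src.par 215 43), (341, Src.par 217 42), (132, Src.par 217 43), (245, Src.par 218 43), (489, Src.par 220 41), (69, Src.par 220 43), (137, Src.par 221 43), (159, Src.par 222 43), (411, Src.par 223 43), (110, Src.par 226 42), (487, Src.par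 226 43), (138, Src.par 227 43), (144, Src.par 228 42), (100, Src.par 229 41), (42, Src.par 229 43), (130, Src.par 230 42), (73, Src.par 230 43), (226, Src.par 231 41), (94, Src.par 231 42), (375, Src.par 232 41), (228, Src.par 233 41), (439, Src.par 233 42), (265, Src.par 233 43), (566, Src.par 234 41), (327, Src.par 234 43), (531, Src.par 235 42), (164, Src.par 236 42), (426, Src.par 237 43), (317, Src.par 238 42), (509, Src.par 238 43), (347, Src.par 239 42), (142, Src.par 240 41), (402, Src.par 240 42), (530, Src.par 240 43), (479, Src.par 241 41), (194, Src.par 241 43), (150, Src.par 242 41), (563, Src.par 243 41), (234, Src.par 243 42), (429, Src.par 244 41), (344, Src.par 244 43), (480, Src.par 246 43), (170, Src.par 247 41), (490, Src.par 247 43), (223, Src.par 248 42), (118, Src.par 250 43), (330, Src.par 252 43), (548, Src.par 254 43), (326, Src.par 256 42), (190, Src.par 257 43), (176, Src.par 258 41), (155, Src.par 260 43), (409, Src.par 262 43), (146, Src.par 264 43), (269, Src.par 272 43), (476, Src.par 273 41), (418, Src.par 273 43), (177, Src.par 274 41), (77, Src.par 274 42), (53, Src.par 274 43), (602, Src.par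 275 41), (571, Src.par 276 42), (35, Src.par 276 43), (268, Src.par 277 43), (437, Src.par 278 41), (162, Src.par 278 43), (52, Src.par 279 41), (96, Src.par 279 42), (556, Src.par 279 43), (580, Src.par 280 41), (473, Src.par 280 42), (87, Src.par 280 43), (310, Src.par 281 41), (383, Src.par 281 43), (520, Src.par 282 41), (309, Src.par 282 42), (196, Src.par 283 41), (385, Src.par 283 43), (370, Src.par 284 43), (147, Src.par 285 42), (451, Src.par 285 43), (61, Src.par 286 42), (459, Src.par 286 43), (379, Src.par 287 43), (366, Src.par 288 42), (36, Src.par 288 43), (401, Src.par 289 41), (399, Src.par 289 43), (534, Src.par 290 41), (408, Src.par 294 42), (323, Src.par 295 42), (498, Src.par 295 43), (488, Src.par 296 41), (18, Src.par 296 43), (512, Src.par 297 43), (450, Src.par 299 42), (105, Src.par 300 41), (561, Src.par 302 43), (492, Src.par 303 41), (577, Src.par 304 41), (72, Src.par 304 43), (208, Src.par 305 41), (382, Src.par 307 43), (83, Src.par 308 42), (603, Src.par 308 43), (165, Src.par 309 41), (478, Src.par 310 43), (595, Src.par 311 41), (182, Src.par 312 43), (307, Src.par 313 42), (462, Src.par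 313 43), (621, Src.par 314 42), (424, Src.par 314 43), (474, Src.par 315 43), (557, Src.par 316 41), (28, Src.par 316 42), (453, Src.par 317 43), (191, Src.par 318 43), (606, Src.par 319 41), (538, Src.par 319 42), (300, Src.par 319 43), (178, Src.par 321 41), (215, Src.par 321 42), (444, Src.par 324 43), (298, Src.par 325 43), (342, Src.par 327 41), (354, Src.par 328 43), (255, Src.par 330 41), (141, Src.par 331 42), (502, Src.par 331 43), (343, Src.par 332 43), (70, Src.par 334 42), (136, Src.par 335 41), (238, Src.par 335 42), (508, Src.par 337 43), (622, Src.par 338 43), (251, Src.par 339 43), (54, Src.par 340 41), (140, Src.par 342 42), (232, Src.par 343 41), (256, Src.par 345 43), (541, Src.par 346 42), (188, Src.par 346 43), (315, Src.par 347 42), (564, Src.par 349 41), (304, Src.par 352 42), (523, Src.par 358 42), (295, Src.par 359 42), (212, Src.par 362 43), (217, Src.par 364 43), (526, Src.par 365 41), (389, Src.par 366 41), (98, Src.par 367 43), (390, Src.par 370 41), (461, Src.par 370 43), (560, Src.par 371 41), (157, Src.par 372 41), (185, Src.par 372 43), (86, Src.par 375 41), (239, Src.par 375 42), (574, Src.par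 376 41), (134, Src.par 377 42), (578, Src.par 379 42), (619, Src.par 380 43), (168, Src.par 381 41), (546, Src.par 382 41), (174, Src.par 386 43), (280, Src.par 388 42), (193, Src.par 394 42), (588, Src.par 394 43), (356, Src.par 395 41), (329, Src.par 396 41), (423, Src.par 397 41), (443, Src.par 401 42), (235, Src.par 402 41), (352, Src.par 402 43), (420, Src.par 403 43), (440, Src.par 405 41), (516, Src.par 406 41), (102, Src.par 407 41), (291, Src.par 408 42), (609, Src.par 408 43), (469, Src.par 409 43), (338, Src.par 410 43), (123, Src.par 413 43), (286, Src.par 414 43), (99, Src.par 416 43), (281, Src.par 424 41), (387, Src.par 426 41), (272, Src.par 428 43), (350, Src.par 429 43), (301, Src.par 431 43), (617, Src.par 433 43), (374, Src.par 434 43), (552, Src.par 438 43), (90, Src.par 448 42), (428, Src.par 449 42), (543, Src.par 450 43), (394, Src.par 454 43), (368, Src.par 455 41), (47, Src.par 456 41), (586, Src.par 456 43), (569, Src.par 457 43), (608, Src.par 459 43), (362, Src.par 460 42), (594, Src.par 462 41), (527, Src.par 465 43), (573, Src.par 466 41), (365, Src.par 469 41), (278, Src.par 472 41), (624, Src.par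 472 42), (92, Src.par 472 43), (58, Src.par 474 42), (464, Src.par 476 43), (434, Src.par 479 42), (22, Src.par 481 41), (103, Src.par 482 43), (448, Src.par 483 43), (187, Src.par 489 43), (414, Src.par 493 42), (23, Src.par 493 43), (31, Src.par 496 43), (510, Src.par 497 41), (605, Src.par 498 42), (311, Src.par 501 43), (396, Src.par 503 43), (79, Src.par 507 43), (625, Src.par 509 43), (614, Src.par 511 43), (139, Src.par 520 41), (51, Src.par 523 43), (250, Src.par 540 43), (579, Src.par 543 43), (313, Src.par 551 43), (463, Src.par 555 41), (377, Src.par 567 41)]]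

/-- part 2 of coverings -/
def covL2 : List (List (ℕ × Src)) := [
  [(0, Src.edge (44, [Op.S])), (2, Src.edge (50, [])), (3, Src.edge (87, [Op.S])), (12, Src.edge (286, [])), (17, Src.edge (49, [])), (26, Src.edge (68, [])), (55, Src.edge (45, [Op.S])), (56, Src.edge (131, [Op.S])), (175, Src.edge (51, [])), (196, Src.edge (168, [])), (256, Src.edge (122, [])), (268, Src.edge (159, [])), (269, Src.edge (164, [])), (333, Src.edge (125, [Op.S])), (373, Src.edge (298, [])), (528, Src.edge (94, [Op.S])), (557, Src.edge (170, [])), (584, Src.edge (123, [])), (597, Src.edge (311, [])), (626, Src.edge (178, [])), (154, Src.par 0 85), (318, Src.par 1 85), (433, Src.par 2 84), (85, Src.par 2 85), (30, Src.par 3 82), (51, Src.par 3 83), (117, Src.par 3 84), (153, Src.par 3 85), (15, Src.par 4 82), (5, Src.par 4 84), (534, Src.par 4 85), (104, Src.par 7 82), (471, Src.par 7 84), (330, Src.par 7 85), (20, Src.par 8 82), (449, Src.par 8 84), (357, Src.par 8 85), (405, Src.par 9 82), (345, Src.par 9 83), (187, Src.par 9 84), (240, Src.par 9 85), (610, Src.par 10 82), (307, Src.par 10 84), (120, Src.par 11 82), (209, Src.par 11 83), (45,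 Src.par 11 84), (312, Src.par 11 85), (483, Src.par 12 82), (536, Src.par 12 83), (623, Src.par 12 84), (497, Src.par 12 85), (376, Src.par 13 82), (16, Src.par 13 84), (90, Src.par 13 85), (334, Src.par 14 82), (494, Src.par 14 83), (442, Src.par 14 84), (499, Src.par 14 85), (37, Src.par 15 84), (174, Src.par 15 85), (325, Src.par 16 82), (96, Src.par 16 83), (612, Src.par 16 84), (377, Src.par 16 85), (446, Src.par 17 83), (464, Src.par 17 84), (341, Src.par 17 85), (385, Src.par 18 82), (337, Src.par 18 83), (502, Src.par 18 84), (358, Src.par 18 85), (432, Src.par 19 82), (221, Src.par 19 84), (100, Src.par 19 85), (465, Src.par 20 82), (399, Src.par 20 83), (21, Src.par 20 85), (384, Src.par 21 82), (508, Src.par 21 83), (50, Src.par 21 85), (257, Src.par 22 82), (18, Src.par 22 85), (67, Src.par 23 82), (84, Src.par 23 83), (14, Src.par 23 84), (149, Src.par 23 85), (23, Src.par 24 83), (29, Src.par 24 84), (294, Src.par 24 85), (60, Src.par 25 84), (608, Src.par 25 85), (116, Src.par 26 82), (57, Src.par 26 83), (24, Src.par 26 85), (32, Src.par 27 82), (260, Src.par 27 83), (390, Src.par 27 84), (230, Src.par 27 85),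 (4, Src.par 28 84), (64, Src.par 28 85), (417, Src.par 29 85), (188, Src.par 30 82), (178, Src.par 30 83), (87, Src.par 30 84), (1, Src.par 30 85), (386, Src.par 31 84), (530, Src.par 31 85), (73, Src.par 32 85), (349, Src.par 33 82), (220, Src.par 33 83), (170, Src.par 33 84), (262, Src.par 33 85), (259, Src.par 34 84), (265, Src.par 34 85), (332, Src.par 35 82), (48, Src.par 35 85), (389, Src.par 36 82), (359, Src.par 36 83), (526, Src.par 36 84), (122, Src.par 36 85), (484, Src.par 37 83), (520, Src.par 37 84), (207, Src.par 37 85), (354, Src.par 38 84), (381, Src.par 39 82), (622, Src.par 39 83), (219, Src.par 39 85), (217, Src.par 40 82), (273, Src.par 40 83), (212, Src.par 40 84), (374, Src.par 40 85), (421, Src.par 41 84), (185, Src.par 41 85), (595, Src.par 42 82), (160, Src.par 42 83), (124, Src.par 42 85), (408, Src.par 43 83), (173, Src.par 43 84), (529, Src.par 43 85), (114, Src.par 44 84), (434, Src.par 44 85), (47, Src.par 45 82), (79, Src.par 45 83), (503, Src.par 45 85), (489, Src.par 46 82), (525, Src.par 46 83), (222, Src.par 46 84), (190, Src.par 46 85), (201, Src.par 47 83), (613, Src.par 47 84), (609, Src.par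 47 85), (296, Src.par 48 84), (559, Src.par 49 83), (480, Src.par 49 85), (599, Src.par 50 82), (516, Src.par 50 83), (563, Src.par 50 84), (7, Src.par 51 84), (70, Src.par 51 85), (315, Src.par 52 85), (107, Src.par 53 82), (166, Src.par 53 83), (179, Src.par 53 84), (97, Src.par 53 85), (383, Src.par 54 83), (562, Src.par 54 84), (441, Src.par 54 85), (576, Src.par 55 84), (241, Src.par 55 85), (589, Src.par 56 82), (556, Src.par 56 83), (304, Src.par 57 82), (215, Src.par 57 83), (569, Src.par 57 84), (158, Src.par 57 85), (27, Src.par 58 82), (491, Src.par 58 85), (76, Src.par 59 82), (588, Src.par 59 83), (511, Src.par 59 84), (204, Src.par 59 85), (614, Src.par 60 83), (514, Src.par 60 84), (586, Src.par 60 85), (379, Src.par 61 84), (575, Src.par 61 85), (492, Src.par 62 82), (538, Src.par 62 83), (501, Src.par 62 85), (253, Src.par 63 82), (548, Src.par 63 83), (184, Src.par 63 84), (515, Src.par 63 85), (564, Src.par 64 84), (248, Src.par 65 82), (404, Src.par 65 83), (560, Src.par 65 85), (367, Src.par 66 82), (482, Src.par 66 83), (339, Src.par 66 84), (140, Src.par 67 83), (627, Src.par 67 84), (351, Src.par 67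 85), (624, Src.par 68 84), (274, Src.par 68 85), (607, Src.par 69 82), (182, Src.par 69 85), (218, Src.par 70 82), (496, Src.par 70 83), (406, Src.par 70 84), (566, Src.par 70 85), (136, Src.par 71 84), (321, Src.par 72 82), (451, Src.par 72 83), (110, Src.par 73 82), (151, Src.par 73 83), (234, Src.par 73 84), (206, Src.par 73 85), (428, Src.par 74 83), (238, Src.par 77 83), (10, Src.par 80 84), (9, Src.par 80 85), (25, Src.par 81 83), (162, Src.par 81 84), (326, Src.par 81 85), (68, Src.par 82 83), (19, Src.par 83 84), (35, Src.par 83 85), (36, Src.par 84 83), (54, Src.par 84 85), (192, Src.par 85 83), (243, Src.par 85 84), (163, Src.par 85 85), (58, Src.par 86 84), (213, Src.par 86 85), (31, Src.par 87 82), (61, Src.par 87 83), (356, Src.par 87 85), (475, Src.par 88 82), (370, Src.par 88 83), (135, Src.par 88 84), (161, Src.par 88 85), (264, Src.par 89 85), (372, Src.par 90 82), (208, Src.par 90 83), (459, Src.par 90 84), (176, Src.par 90 85), (22, Src.par 91 84), (284, Src.par 91 85), (28, Src.par 92 84), (468, Src.par 92 85), (543, Src.par 93 83), (547, Src.par 93 84), (419, Src.par 93 85), (245, Src.par 94 83), (303,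 Src.par 95 84), (540, Src.par 95 85), (237, Src.par 96 83), (362, Src.par 96 85), (198, Src.par 97 82), (129, Src.par 97 83), (66, Src.par 97 84), (229, Src.par 97 85), (275, Src.par 98 85), (267, Src.par 99 82), (246, Src.par 99 83), (199, Src.par 99 84), (6, Src.par 99 85), (279, Src.par 100 83), (11, Src.par 100 85), (277, Src.par 101 83), (450, Src.par 102 84), (80, Src.par 105 85), (400, Src.par 106 82), (439, Src.par 106 83), (223, Src.par 106 84), (549, Src.par 106 85), (601, Src.par 107 83), (251, Src.par 107 85), (458, Src.par 108 83), (440, Src.par 109 84), (509, Src.par 110 83), (344, Src.par 110 85), (410, Src.par 111 83), (531, Src.par 111 85), (435, Src.par 112 82), (108, Src.par 112 85), (143, Src.par 113 82), (552, Src.par 113 83), (111, Src.par 113 84), (210, Src.par 113 85), (81, Src.par 114 84), (115, Src.par 114 85), (604, Src.par 115 83), (290, Src.par 115 84), (255, Src.par 115 85), (579, Src.par 116 83), (280, Src.par 117 84), (331, Src.par 117 85), (302, Src.par 118 83), (291, Src.par 118 85), (195, Src.par 119 83), (300, Src.par 119 84), (438, Src.par 119 85), (493, Src.par 120 84), (128, Src.par 120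 85), (289, Src.par 121 82), (292, Src.par 121 83), (101, Src.par 121 85), (320, Src.par 122 83), (42, Src.par 122 84), (159, Src.par 122 85), (437, Src.par 123 85), (495, Src.par 124 84), (364, Src.par 125 84), (603, Src.par 125 85), (487, Src.par 126 83), (305, Src.par 126 84), (102, Src.par 126 85), (616, Src.par 127 83), (617, Src.par 128 85), (319, Src.par 129 83), (510, Src.par 129 85), (445, Src.par 130 83), (327, Src.par 130 84), (602, Src.par 130 85), (43, Src.par 132 82), (134, Src.par 132 83), (157, Src.par 132 84), (412, Src.par 132 85), (537, Src.par 133 84), (453, Src.par 134 84), (554, Src.par 135 85), (77, Src.par 136 84), (628, Src.par 136 85), (171, Src.par 137 82), (112, Src.par 137 83), (522, Src.par 137 85), (172, Src.par 138 82), (113, Src.par 138 83), (580, Src.par 138 84), (299, Src.par 138 85), (443, Src.par 139 85), (165, Src.par 140 82), (106, Src.par 140 83), (401, Src.par 140 84), (517, Src.par 140 85), (263, Src.par 141 84), (293, Src.par 141 85), (298, Src.par 142 84), (479, Src.par 142 85), (561, Src.par 143 83), (71, Src.par 143 84), (249, Src.par 143 85), (393, Src.par 144 83), (371, Src.par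 145 84), (512, Src.par 145 85), (523, Src.par 146 83), (621, Src.par 146 85), (180, Src.par 147 82), (89, Src.par 147 83), (121, Src.par 147 84), (353, Src.par 147 85), (490, Src.par 150 82), (228, Src.par 150 84), (147, Src.par 157 85), (40, Src.par 158 82), (72, Src.par 158 83), (88, Src.par 158 84), (183, Src.par 158 85), (189, Src.par 159 83), (233, Src.par 159 85), (105, Src.par 160 83), (424, Src.par 161 84), (231, Src.par 162 83), (323, Src.par 162 85), (425, Src.par 163 83), (38, Src.par 163 85), (336, Src.par 164 85), (567, Src.par 165 82), (103, Src.par 165 83), (193, Src.par 166 85), (130, Src.par 167 85), (132, Src.par 168 82), (75, Src.par 168 83), (574, Src.par 168 84), (252, Src.par 168 85), (398, Src.par 169 84), (276, Src.par 169 85), (407, Src.par 170 84), (150, Src.par 170 85), (504, Src.par 171 83), (368, Src.par 172 84), (343, Src.par 172 85), (448, Src.par 173 83), (619, Src.par 173 85), (295, Src.par 174 82), (413, Src.par 174 83), (152, Src.par 174 84), (572, Src.par 174 85), (456, Src.par 175 84), (380, Src.par 175 85), (283, Src.par 176 83), (224, Src.par 176 84), (518, Src.par 176 85), (457, Src.par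 177 83), (598, Src.par 178 84), (477, Src.par 178 85), (551, Src.par 179 83), (287, Src.par 179 85), (436, Src.par 180 83), (271, Src.par 180 84), (288, Src.par 180 85), (478, Src.par 181 84), (473, Src.par 182 82), (460, Src.par 182 83), (506, Src.par 182 85), (365, Src.par 183 82), (310, Src.par 183 84), (133, Src.par 183 85), (592, Src.par 185 82), (236, Src.par 185 83), (313, Src.par 185 84), (99, Src.par 185 85), (476, Src.par 186 84), (74, Src.par 186 85), (542, Src.par 187 84), (455, Src.par 188 83), (582, Src.par 188 84), (429, Src.par 189 83), (587, Src.par 190 84), (466, Src.par 190 85), (227, Src.par 191 83), (546, Src.par 191 85), (194, Src.par 192 82), (470, Src.par 192 83), (411, Src.par 192 84), (316, Src.par 192 85), (570, Src.par 194 84), (577, Src.par 195 84), (544, Src.par 196 83), (423, Src.par 196 84), (461, Src.par 197 83), (541, Src.par 200 85), (98, Src.par 201 85), (507, Src.par 202 82), (527, Src.par 202 83), (629, Src.par 202 84), (500, Src.par 202 85), (620, Src.par 203 85), (593, Src.par 204 82), (239, Src.par 204 83), (168, Src.par 204 84), (426, Src.par 204 85), (202, Src.par 205 85), (555, Src.par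 206 83), (488, Src.par 206 84), (558, Src.par 206 85), (328, Src.par 207 83), (205, Src.par 208 84), (148, Src.par 208 85), (91, Src.par 209 83), (329, Src.par 209 85), (581, Src.par 210 82), (144, Src.par 210 83), (524, Src.par 210 85), (301, Src.par 211 85), (596, Src.par 212 84), (454, Src.par 213 84), (211, Src.par 214 83), (533, Src.par 216 83), (93, Src.par 220 85), (92, Src.par 223 85), (119, Src.par 233 85), (164, Src.par 234 82), (347, Src.par 234 83), (286, Src.par 234 84), (197, Src.par 234 85), (52, Src.par 235 84), (297, Src.par 235 85), (33, Src.par 236 84), (53, Src.par 236 85), (62, Src.par 237 83), (69, Src.par 237 84), (397, Src.par 237 85), (532, Src.par 238 83), (83, Src.par 239 84), (335, Src.par 239 85), (13, Src.par 240 83), (118, Src.par 240 85), (65, Src.par 241 82), (63, Src.par 241 83), (155, Src.par 241 84), (553, Src.par 241 85), (94, Src.par 242 83), (59, Src.par 242 84), (600, Src.par 243 83), (34, Src.par 244 84), (281, Src.par 244 85), (177, Src.par 245 83), (86, Src.par 245 85), (242, Src.par 246 83), (146, Src.par 246 84), (462, Src.par 246 85), (474, Src.par 247 85), (444, Src.par 249 85),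 (350, Src.par 252 85), (467, Src.par 257 84), (322, Src.par 263 83), (8, Src.par 263 85), (127, Src.par 264 83), (214, Src.par 265 84), (49, Src.par 285 84), (41, Src.par 285 85), (391, Src.par 286 83), (266, Src.par 286 84), (342, Src.par 286 85), (282, Src.par 287 83), (125, Src.par 288 84), (44, Src.par 288 85), (387, Src.par 289 83), (485, Src.par 289 85), (431, Src.par 290 83), (254, Src.par 290 84), (472, Src.par 290 85), (469, Src.par 291 85), (348, Src.par 294 85), (498, Src.par 305 82), (169, Src.par 305 85), (261, Src.par 306 84), (361, Src.par 308 83), (272, Src.par 310 83), (545, Src.par 310 85), (244, Src.par 311 82), (278, Src.par 312 83), (369, Src.par 313 85), (418, Src.par 317 85), (131, Src.par 326 83), (594, Src.par 333 85), (519, Src.par 334 82), (226, Src.par 334 83), (395, Src.par 334 84), (181, Src.par 334 85), (200, Src.par 335 84), (382, Src.par 335 85), (247, Src.par 336 84), (366, Src.par 336 85), (308, Src.par 337 83), (521, Src.par 337 84), (203, Src.par 337 85), (396, Src.par 338 83), (139, Src.par 339 84), (505, Src.par 339 85), (314, Src.par 340 83), (138, Src.par 340 85), (447, Src.par 341 82),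 (346, Src.par 341 83), (324, Src.par 341 84), (573, Src.par 341 85), (352, Src.par 342 83), (402, Src.par 342 84), (394, Src.par 343 83), (145, Src.par 344 84), (422, Src.par 344 85), (309, Src.par 345 83), (355, Src.par 345 85), (409, Src.par 346 83), (95, Src.par 346 84), (360, Src.par 346 85), (258, Src.par 347 85), (550, Src.par 349 85), (615, Src.par 352 85), (137, Src.par 357 84), (156, Src.par 378 82), (618, Src.par 379 84), (250, Src.par 380 85), (430, Src.par 381 83), (591, Src.par 381 84), (235, Src.par 382 83), (123, Src.par 382 84), (186, Src.par 383 83), (415, Src.par 384 85), (109, Src.par 386 83), (167, Src.par 400 85), (463, Src.par 403 85), (486, Src.par 413 85), (232, Src.par 414 84), (420, Src.par 419 84), (578, Src.par 419 85), (481, Src.par 422 83), (625, Src.par 424 85), (403, Src.par 443 83), (375, Src.par 443 85), (565, Src.par 444 85), (535, Src.par 446 84), (191, Src.par 447 83), (388, Src.par 449 83), (378, Src.par 450 83), (340, Src.par 452 85), (539, Src.par 453 85), (311, Src.par 473 83), (606, Src.par 473 84), (363, Src.par 474 83), (427, Src.par 475 84), (306, Src.par 475 85), (126, Src.par 476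 83), (141, Src.par 476 85), (216, Src.par 477 83), (82, Src.par 477 84), (225, Src.par 477 85), (416, Src.par 478 85), (317, Src.par 480 85), (571, Src.par 483 85), (414, Src.par 488 84), (285, Src.par 512 85), (392, Src.par 515 85), (583, Src.par 538 83), (78, Src.par 538 84), (338, Src.par 539 83), (513, Src.par 540 84), (605, Src.par 540 85), (590, Src.par 541 83), (585, Src.par 541 85), (270, Src.par 542 83), (452, Src.par 542 84), (568, Src.par 542 85), (611, Src.par 543 85), (142, Src.par 545 85), (46, Src.par 548 85), (39, Src.par 553 84)]]

/-- part 3 of coverings -/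
def covL3 : List (List (ℕ × Src)) := [
  [(0, Src.edge (86, [Op.S])), (2, Src.edge (130, [Op.S])), (8, Src.edge (94, [])), (37, Src.edge (92, [])), (79, Src.edge (177, [])), (104, Src.edge (87, [])), (198, Src.edge (299, [])), (230, Src.edge (210, [])), (270, Src.edge (288, [Op.S])), (386, Src.edge (134, [])), (598, Src.par 0 121), (458, Src.par 1 121), (3, Src.par 2 118), (21, Src.par 2 119), (528, Src.par 2 120), (53, Src.par 2 121), (26, Src.par 3 118), (333, Src.par 3 119), (175, Src.par 3 120), (382, Src.par 3 121), (119, Src.par 4 118), (210, Src.par 4 119), (502, Src.par 4 120), (177, Src.par 4 121), (55, Src.par 5 118), (376, Src.par 5 119), (81, Src.par 5 120), (594, Src.par 5 121), (199, Src.par 6 118), (127, Src.par 6 119), (452, Src.par 6 120), (213, Src.par 6 121), (326, Src.par 7 118), (192, Src.par 7 119), (82, Src.par 7 120), (142, Src.par 7 121), (214, Src.par 8 118), (246, Src.par 8 119), (161, Src.par 8 120), (366, Src.par 8 121), (49, Src.par 9 119), (17, Src.par 9 120), (282, Src.par 9 121), (463, Src.par 10 118), (185, Src.par 10 121), (601, Src.par 11 118), (100, Src.par 11 121), (332, Src.par 12 119),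 (367, Src.par 12 121), (27, Src.par 13 118), (257, Src.par 13 120), (132, Src.par 13 121), (20, Src.par 14 119), (438, Src.par 14 121), (72, Src.par 15 118), (612, Src.par 15 119), (204, Src.par 15 121), (15, Src.par 16 119), (484, Src.par 16 121), (435, Src.par 17 118), (579, Src.par 17 121), (4, Src.par 18 118), (456, Src.par 18 119), (378, Src.par 18 121), (292, Src.par 19 118), (421, Src.par 19 119), (428, Src.par 19 120), (186, Src.par 19 121), (493, Src.par 20 119), (297, Src.par 20 120), (575, Src.par 20 121), (337, Src.par 21 118), (372, Src.par 21 120), (254, Src.par 21 121), (586, Src.par 22 118), (373, Src.par 22 119), (365, Src.par 22 121), (47, Src.par 23 118), (187, Src.par 23 119), (83, Src.par 23 120), (6, Src.par 24 119), (618, Src.par 24 121), (259, Src.par 25 118), (472, Src.par 25 121), (1, Src.par 26 118), (471, Src.par 26 119), (548, Src.par 26 121), (442, Src.par 27 118), (221, Src.par 27 119), (238, Src.par 27 120), (102, Src.par 27 121), (89, Src.par 28 119), (233, Src.par 28 120), (324, Src.par 29 118), (64, Src.par 29 120), (578, Src.par 29 121), (65, Src.par 30 118), (517, Src.par 30 119), (390,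 Src.par 30 121), (581, Src.par 31 118), (445, Src.par 31 119), (387, Src.par 31 120), (413, Src.par 31 121), (155, Src.par 32 119), (355, Src.par 32 121), (352, Src.par 33 121), (176, Src.par 34 118), (415, Src.par 34 121), (353, Src.par 35 118), (419, Src.par 36 119), (183, Src.par 36 120), (519, Src.par 36 121), (197, Src.par 37 118), (614, Src.par 37 121), (203, Src.par 38 118), (58, Src.par 38 121), (460, Src.par 39 118), (504, Src.par 39 119), (275, Src.par 39 120), (294, Src.par 39 121), (5, Src.par 40 118), (56, Src.par 40 120), (524, Src.par 40 121), (10, Src.par 41 118), (50, Src.par 41 119), (24, Src.par 41 121), (422, Src.par 42 118), (531, Src.par 42 119), (563, Src.par 42 120), (381, Src.par 42 121), (339, Src.par 43 119), (380, Src.par 43 121), (131, Src.par 44 119), (544, Src.par 44 121), (490, Src.par 45 119), (330, Src.par 45 121), (211, Src.par 46 119), (480, Src.par 46 121), (11, Src.par 47 120), (551, Src.par 47 121), (554, Src.par 48 118), (407, Src.par 48 121), (611, Src.par 49 121), (424, Src.par 50 121), (391, Src.par 51 118), (134, Src.par 51 120), (28, Src.par 51 121), (222, Src.par 53 118), (576,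 Src.par 53 121), (518, Src.par 54 119), (584, Src.par 54 120), (34, Src.par 54 121), (606, Src.par 55 118), (595, Src.par 55 121), (29, Src.par 56 119), (474, Src.par 56 120), (486, Src.par 56 121), (7, Src.par 57 118), (153, Src.par 57 121), (54, Src.par 58 118), (577, Src.par 58 119), (273, Src.par 58 121), (329, Src.par 60 118), (174, Src.par 60 121), (68, Src.par 62 121), (335, Src.par 63 118), (477, Src.par 63 121), (434, Src.par 64 119), (200, Src.par 64 120), (154, Src.par 64 121), (399, Src.par 65 118), (319, Src.par 65 121), (564, Src.par 66 118), (619, Src.par 66 121), (356, Src.par 67 119), (241, Src.par 67 120), (167, Src.par 67 121), (547, Src.par 68 118), (209, Src.par 68 120), (374, Src.par 68 121), (173, Src.par 69 118), (567, Src.par 69 119), (558, Src.par 69 121), (591, Src.par 70 118), (158, Src.par 70 119), (546, Src.par 70 120), (501, Src.par 70 121), (414, Src.par 71 119), (261, Src.par 71 120), (252, Src.par 71 121), (466, Src.par 72 119), (120, Src.par 72 121), (114, Src.par 74 120), (103, Src.par 75 121), (607, Src.par 76 118), (510, Src.par 76 119), (300, Src.par 77 119), (149, Src.par 77 121), (16,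 Src.par 80 118), (317, Src.par 80 121), (25, Src.par 81 118), (559, Src.par 81 119), (130, Src.par 81 121), (227, Src.par 83 118), (80, Src.par 83 121), (163, Src.par 85 121), (286, Src.par 86 118), (349, Src.par 86 121), (258, Src.par 87 119), (408, Src.par 87 120), (318, Src.par 87 121), (508, Src.par 88 118), (156, Src.par 88 121), (536, Src.par 89 118), (487, Src.par 89 121), (468, Src.par 90 119), (369, Src.par 90 120), (73, Src.par 90 121), (63, Src.par 91 120), (190, Src.par 92 119), (429, Src.par 92 121), (425, Src.par 93 119), (346, Src.par 93 120), (129, Src.par 94 119), (416, Src.par 95 118), (239, Src.par 95 119), (295, Src.par 95 120), (48, Src.par 95 121), (180, Src.par 96 120), (281, Src.par 97 121), (280, Src.par 98 119), (377, Src.par 98 121), (115, Src.par 99 121), (552, Src.par 100 118), (143, Src.par 100 121), (411, Src.par 101 118), (617, Src.par 101 121), (266, Src.par 102 118), (225, Src.par 102 119), (313, Src.par 102 120), (430, Src.par 102 121), (312, Src.par 103 121), (361, Src.par 104 118), (212, Src.par 104 120), (336, Src.par 105 118), (395, Src.par 107 118), (393, Src.par 108 121), (97, Src.par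 109 118), (277, Src.par 109 121), (216, Src.par 110 118), (624, Src.par 110 121), (126, Src.par 111 118), (347, Src.par 111 120), (569, Src.par 111 121), (397, Src.par 112 120), (125, Src.par 112 121), (33, Src.par 113 118), (582, Src.par 113 119), (96, Src.par 113 121), (78, Src.par 115 118), (67, Src.par 115 121), (573, Src.par 116 119), (179, Src.par 116 120), (534, Src.par 116 121), (188, Src.par 117 118), (507, Src.par 117 121), (455, Src.par 118 118), (459, Src.par 118 121), (538, Src.par 119 118), (418, Src.par 119 119), (342, Src.par 119 120), (70, Src.par 119 121), (449, Src.par 120 120), (151, Src.par 120 121), (433, Src.par 121 119), (628, Src.par 121 121), (475, Src.par 122 118), (231, Src.par 122 120), (451, Src.par 122 121), (305, Src.par 124 121), (166, Src.par 125 118), (410, Src.par 125 121), (615, Src.par 126 119), (99, Src.par 126 120), (497, Src.par 126 121), (609, Src.par 127 118), (600, Src.par 127 121), (533, Src.par 128 118), (405, Src.par 128 121), (306, Src.par 129 119), (51, Src.par 129 120), (296, Src.par 129 121), (224, Src.par 131 118), (223, Src.par 135 118), (560, Src.par 139 118), (462, Src.par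 139 121), (522, Src.par 140 119), (481, Src.par 140 120), (285, Src.par 140 121), (256, Src.par 141 119), (160, Src.par 141 120), (98, Src.par 141 121), (193, Src.par 142 118), (543, Src.par 142 121), (232, Src.par 143 118), (610, Src.par 143 121), (592, Src.par 144 119), (525, Src.par 144 120), (43, Src.par 144 121), (588, Src.par 145 118), (60, Src.par 145 121), (22, Src.par 146 119), (562, Src.par 146 120), (436, Src.par 146 121), (91, Src.par 147 120), (482, Src.par 147 121), (135, Src.par 148 119), (446, Src.par 148 121), (248, Src.par 149 118), (218, Src.par 149 121), (40, Src.par 151 118), (478, Src.par 151 119), (404, Src.par 152 119), (315, Src.par 152 121), (398, Src.par 153 120), (523, Src.par 153 121), (152, Src.par 154 121), (308, Src.par 155 121), (76, Src.par 156 119), (124, Src.par 156 120), (485, Src.par 158 118), (412, Src.par 158 121), (488, Src.par 159 120), (307, Src.par 159 121), (537, Src.par 160 118), (260, Src.par 160 121), (217, Src.par 161 119), (461, Src.par 161 121), (511, Src.par 162 119), (288, Src.par 162 120), (274, Src.par 162 121), (32, Src.par 163 119), (101, Src.par 163 120), (605, Src.par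 163 121), (71, Src.par 164 118), (237, Src.par 164 121), (341, Src.par 165 120), (357, Src.par 165 121), (109, Src.par 166 119), (620, Src.par 166 121), (45, Src.par 167 118), (464, Src.par 169 118), (85, Src.par 169 119), (139, Src.par 169 120), (77, Src.par 170 119), (621, Src.par 170 120), (196, Src.par 170 121), (157, Src.par 171 119), (457, Src.par 171 120), (247, Src.par 171 121), (535, Src.par 172 120), (287, Src.par 173 119), (403, Src.par 173 121), (465, Src.par 175 121), (86, Src.par 176 119), (406, Src.par 176 120), (385, Src.par 177 119), (298, Src.par 177 121), (263, Src.par 178 119), (250, Src.par 178 121), (565, Src.par 179 119), (272, Src.par 179 120), (320, Src.par 182 119), (208, Src.par 185 121), (383, Src.par 186 120), (122, Src.par 187 120), (121, Src.par 187 121), (95, Src.par 188 121), (243, Src.par 192 121), (181, Src.par 197 118), (604, Src.par 199 118), (206, Src.par 199 121), (379, Src.par 200 120), (136, Src.par 200 121), (454, Src.par 201 118), (350, Src.par 201 121), (123, Src.par 202 119), (599, Src.par 202 121), (400, Src.par 203 119), (440, Src.par 203 120), (253, Src.par 203 121), (59, Src.par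 204 119), (150, Src.par 204 120), (580, Src.par 204 121), (165, Src.par 205 118), (427, Src.par 205 121), (516, Src.par 206 120), (469, Src.par 206 121), (42, Src.par 207 119), (542, Src.par 207 121), (112, Src.par 208 118), (483, Src.par 210 118), (93, Src.par 210 119), (309, Src.par 210 120), (171, Src.par 211 119), (561, Src.par 211 120), (343, Src.par 211 121), (234, Src.par 212 119), (509, Src.par 212 120), (268, Src.par 212 121), (476, Src.par 213 120), (220, Src.par 214 119), (514, Src.par 214 121), (384, Src.par 216 121), (94, Src.par 217 119), (506, Src.par 217 120), (447, Src.par 218 119), (244, Src.par 220 118), (133, Src.par 220 121), (279, Src.par 221 120), (207, Src.par 224 121), (202, Src.par 225 121), (348, Src.par 226 118), (118, Src.par 227 119), (363, Src.par 227 120), (593, Src.par 229 121), (205, Src.par 230 118), (574, Src.par 230 121), (144, Src.par 231 119), (62, Src.par 232 119), (505, Src.par 242 120), (146, Src.par 247 119), (417, Src.par 247 120), (597, Src.par 248 118), (31, Src.par 248 119), (503, Src.par 248 120), (540, Src.par 248 121), (409, Src.par 249 120), (278, Src.par 250 118), (629, Src.par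 250 119), (18, Src.par 250 121), (470, Src.par 251 119), (587, Src.par 251 120), (69, Src.par 251 121), (392, Src.par 252 118), (128, Src.par 252 121), (603, Src.par 253 118), (325, Src.par 253 119), (84, Src.par 253 120), (529, Src.par 253 121), (242, Src.par 254 118), (602, Src.par 254 121), (443, Src.par 255 118), (431, Src.par 255 121), (354, Src.par 256 120), (498, Src.par 256 121), (368, Src.par 257 118), (9, Src.par 257 121), (448, Src.par 258 119), (583, Src.par 258 121), (627, Src.par 259 121), (364, Src.par 260 121), (512, Src.par 261 121), (494, Src.par 262 121), (140, Src.par 263 118), (61, Src.par 263 119), (314, Src.par 263 120), (38, Src.par 264 119), (401, Src.par 264 120), (555, Src.par 264 121), (444, Src.par 265 118), (141, Src.par 265 119), (36, Src.par 265 120), (328, Src.par 265 121), (495, Src.par 266 120), (162, Src.par 267 118), (492, Src.par 267 119), (168, Src.par 267 121), (311, Src.par 268 119), (19, Src.par 268 120), (194, Src.par 268 121), (195, Src.par 269 118), (371, Src.par 269 121), (215, Src.par 270 118), (389, Src.par 270 121), (178, Src.par 271 119), (276, Src.par 271 120), (344, Src.par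 273 118), (116, Src.par 273 121), (327, Src.par 275 118), (362, Src.par 275 121), (201, Src.par 276 119), (549, Src.par 276 120), (147, Src.par 276 121), (388, Src.par 277 118), (626, Src.par 277 121), (608, Src.par 278 119), (345, Src.par 278 120), (513, Src.par 278 121), (291, Src.par 279 118), (30, Src.par 279 121), (613, Src.par 280 120), (13, Src.par 280 121), (57, Src.par 281 119), (500, Src.par 281 121), (515, Src.par 282 118), (301, Src.par 284 118), (169, Src.par 284 119), (265, Src.par 284 120), (420, Src.par 285 119), (479, Src.par 285 120), (338, Src.par 285 121), (321, Src.par 286 119), (251, Src.par 286 120), (402, Src.par 286 121), (566, Src.par 287 120), (432, Src.par 288 119), (184, Src.par 288 121), (170, Src.par 289 121), (148, Src.par 291 119), (107, Src.par 291 120), (568, Src.par 294 121), (271, Src.par 295 120), (489, Src.par 295 121), (236, Src.par 296 118), (491, Src.par 298 119), (316, Src.par 299 121), (496, Src.par 305 121), (75, Src.par 308 120), (423, Src.par 312 121), (571, Src.par 313 120), (526, Src.par 324 121), (245, Src.par 330 121), (394, Src.par 335 121), (453, Src.par 336 121), (44, Src.par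 337 119), (283, Src.par 338 118), (35, Src.par 341 121), (289, Src.par 342 121), (570, Src.par 344 121), (39, Src.par 348 121), (219, Src.par 368 121), (299, Src.par 373 121), (229, Src.par 380 121), (360, Src.par 385 121), (596, Src.par 386 121), (111, Src.par 387 119), (439, Src.par 388 118), (14, Src.par 391 121), (441, Src.par 392 121), (623, Src.par 394 121), (106, Src.par 398 121), (267, Src.par 431 118), (302, Src.par 431 121), (249, Src.par 432 118), (521, Src.par 432 121), (145, Src.par 433 121), (172, Src.par 434 118), (541, Src.par 435 118), (527, Src.par 436 119), (74, Src.par 436 121), (66, Src.par 437 118), (467, Src.par 437 121), (105, Src.par 438 120), (117, Src.par 438 121), (12, Src.par 439 118), (182, Src.par 439 121), (235, Src.par 440 121), (108, Src.par 443 119), (137, Src.par 443 120), (572, Src.par 444 120), (255, Src.par 445 118), (532, Src.par 445 119), (189, Src.par 445 121), (191, Src.par 446 119), (92, Src.par 446 120), (550, Src.par 446 121), (437, Src.par 447 121), (539, Src.par 449 119), (113, Src.par 449 120), (322, Src.par 451 118), (304, Src.par 453 118), (556, Src.par 453 121), (87, Src.par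 455 118), (240, Src.par 457 121), (545, Src.par 458 118), (284, Src.par 458 121), (310, Src.par 459 119), (616, Src.par 462 121), (358, Src.par 463 121), (585, Src.par 464 119), (334, Src.par 464 120), (303, Src.par 465 121), (293, Src.par 466 121), (520, Src.par 468 118), (23, Src.par 469 118), (359, Src.par 469 121), (90, Src.par 470 121), (46, Src.par 471 121), (52, Src.par 472 121), (553, Src.par 473 121), (323, Src.par 474 118), (473, Src.par 476 121), (264, Src.par 480 119), (590, Src.par 480 120), (290, Src.par 481 121), (499, Src.par 485 118), (625, Src.par 486 118), (426, Src.par 488 121), (375, Src.par 489 120), (530, Src.par 489 121), (622, Src.par 490 119), (269, Src.par 490 121), (262, Src.par 491 118), (351, Src.par 493 120), (138, Src.par 496 121), (331, Src.par 497 121), (228, Src.par 498 120), (110, Src.par 499 121), (159, Src.par 503 121), (370, Src.par 513 121), (450, Src.par 556 120), (589, Src.par 557 119), (396, Src.par 557 120), (88, Src.par 558 120), (340, Src.par 563 121), (557, Src.par 580 121), (164, Src.par 592 121), (41, Src.par 593 121), (226, Src.par 596 121)]]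

/-- part 4 of coverings -/
def covL4 : List (List (ℕ × Src)) := [
  [(0, Src.edge (124, [Op.S])), (2, Src.edge (130, [])), (26, Src.edge (125, [])), (42, Src.edge (504, [])), (59, Src.edge (294, [])), (69, Src.edge (168, [Op.S])), (81, Src.edge (134, [Op.S])), (91, Src.edge (194, [])), (94, Src.edge (183, [])), (99, Src.edge (210, [Op.S])), (138, Src.edge (177, [Op.S])), (156, Src.edge (506, [])), (173, Src.edge (296, [])), (178, Src.edge (159, [Op.S])), (181, Src.edge (178, [Op.S])), (199, Src.edge (162, [])), (246, Src.edge (163, [])), (255, Src.edge (181, [])), (285, Src.edge (326, [])), (291, Src.edge (295, [])), (308, Src.edge (176, [])), (319, Src.edge (285, [Op.S])), (322, Src.edge (165, [])), (332, Src.edge (131, [])), (352, Src.edge (179, [])), (355, Src.edge (186, [])), (364, Src.edge (297, [])), (381, Src.edge (339, [Op.S])), (384, Src.edge (166, [Op.S])), (389, Src.edge (285, [])), (412, Src.edge (301, [])), (413, Src.edge (170, [Op.S])), (433, Src.edge (135, [])), (439, Src.edge (183, [Op.S])), (465, Src.edge (166, [])), (517, Src.edge (164, [Op.S])), (527, Src.edge (179, [Op.S])), (612, Src.edge (171, [])), (10,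 Src.par 2 282), (1, Src.par 2 283), (104, Src.par 2 284), (392, Src.par 3 282), (531, Src.par 3 283), (615, Src.par 4 282), (375, Src.par 4 283), (207, Src.par 4 284), (526, Src.par 5 282), (339, Src.par 5 283), (8, Src.par 6 282), (333, Src.par 6 283), (5, Src.par 6 284), (98, Src.par 7 282), (558, Src.par 8 282), (516, Src.par 8 283), (206, Src.par 8 284), (184, Src.par 9 282), (102, Src.par 10 282), (369, Src.par 10 283), (229, Src.par 10 284), (563, Src.par 11 282), (429, Src.par 11 283), (535, Src.par 12 282), (360, Src.par 12 284), (362, Src.par 13 282), (408, Src.par 13 283), (307, Src.par 13 284), (161, Src.par 14 282), (95, Src.par 14 283), (425, Src.par 14 284), (192, Src.par 15 282), (409, Src.par 15 283), (197, Src.par 15 284), (447, Src.par 16 283), (129, Src.par 16 284), (39, Src.par 17 282), (315, Src.par 17 283), (321, Src.par 17 284), (124, Src.par 18 282), (574, Src.par 18 283), (485, Src.par 18 284), (347, Src.par 19 282), (479, Src.par 19 283), (336, Src.par 19 284), (186, Src.par 20 282), (241, Src.par 20 283), (245, Src.par 20 284), (367, Src.par 21 282), (239, Src.par 21 283), (135, Src.par 22 282), (247,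 Src.par 22 283), (221, Src.par 22 284), (471, Src.par 23 282), (27, Src.par 23 283), (376, Src.par 23 284), (100, Src.par 24 282), (548, Src.par 24 283), (169, Src.par 24 284), (185, Src.par 25 282), (378, Src.par 25 283), (75, Src.par 25 284), (40, Src.par 26 282), (561, Src.par 26 283), (19, Src.par 26 284), (582, Src.par 27 282), (160, Src.par 27 283), (314, Src.par 27 284), (459, Src.par 28 282), (189, Src.par 28 283), (602, Src.par 28 284), (619, Src.par 29 282), (359, Src.par 29 283), (76, Src.par 30 282), (218, Src.par 30 283), (86, Src.par 30 284), (224, Src.par 31 282), (525, Src.par 31 283), (32, Src.par 31 284), (20, Src.par 32 283), (435, Src.par 32 284), (111, Src.par 33 282), (400, Src.par 33 283), (118, Src.par 33 284), (540, Src.par 34 282), (323, Src.par 34 283), (504, Src.par 34 284), (230, Src.par 35 282), (183, Src.par 35 283), (570, Src.par 36 282), (304, Src.par 36 283), (139, Src.par 36 284), (368, Src.par 37 282), (269, Src.par 37 283), (585, Src.par 37 284), (528, Src.par 38 283), (15, Src.par 38 284), (49, Src.par 39 284), (259, Src.par 40 283), (290, Src.par 41 283), (151, Src.par 43 284), (443, Src.par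 44 282), (48, Src.par 44 284), (223, Src.par 45 282), (523, Src.par 46 283), (212, Src.par 46 284), (205, Src.par 47 282), (250, Src.par 47 284), (16, Src.par 48 284), (449, Src.par 49 284), (56, Src.par 50 282), (21, Src.par 50 283), (235, Src.par 52 284), (599, Src.par 53 282), (338, Src.par 53 284), (170, Src.par 54 282), (420, Src.par 54 283), (422, Src.par 56 283), (317, Src.par 58 283), (377, Src.par 59 284), (497, Src.par 60 284), (401, Src.par 61 283), (30, Src.par 61 284), (210, Src.par 62 282), (437, Src.par 62 283), (586, Src.par 63 283), (58, Src.par 63 284), (564, Src.par 64 282), (407, Src.par 64 284), (14, Src.par 65 282), (379, Src.par 65 283), (66, Src.par 66 284), (233, Src.par 67 284), (299, Src.par 69 283), (419, Src.par 69 284), (249, Src.par 70 282), (397, Src.par 71 282), (190, Src.par 72 282), (82, Src.par 72 284), (65, Src.par 73 282), (180, Src.par 73 283), (627, Src.par 74 283), (84, Src.par 74 284), (618, Src.par 75 284), (576, Src.par 76 283), (174, Src.par 77 283), (62, Src.par 78 282), (511, Src.par 79 282), (393, Src.par 79 283), (480, Src.par 80 283), (327, Src.par 81 282), (133, Src.par 81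 284), (415, Src.par 82 282), (440, Src.par 82 283), (222, Src.par 83 283), (153, Src.par 85 283), (593, Src.par 86 284), (482, Src.par 87 284), (502, Src.par 88 283), (61, Src.par 88 284), (483, Src.par 89 282), (345, Src.par 89 284), (54, Src.par 90 282), (403, Src.par 90 283), (7, Src.par 91 283), (11, Src.par 92 282), (50, Src.par 92 284), (175, Src.par 93 283), (320, Src.par 94 283), (470, Src.par 94 284), (227, Src.par 95 282), (349, Src.par 95 284), (468, Src.par 96 282), (123, Src.par 96 283), (158, Src.par 97 283), (358, Src.par 97 284), (329, Src.par 98 282), (477, Src.par 98 284), (356, Src.par 99 282), (217, Src.par 99 283), (107, Src.par 100 283), (550, Src.par 100 284), (605, Src.par 101 282), (567, Src.par 101 284), (385, Src.par 102 282), (549, Src.par 102 283), (165, Src.par 103 283), (625, Src.par 103 284), (147, Src.par 104 282), (431, Src.par 104 284), (484, Src.par 105 283), (584, Src.par 106 283), (93, Src.par 106 284), (140, Src.par 107 282), (325, Src.par 107 284), (12, Src.par 108 282), (520, Src.par 108 283), (491, Src.par 109 283), (109, Src.par 110 282), (611, Src.par 111 283), (496, Src.par 111 284),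 (240, Src.par 112 282), (588, Src.par 112 284), (575, Src.par 113 282), (341, Src.par 113 283), (371, Src.par 114 283), (284, Src.par 114 284), (134, Src.par 115 284), (592, Src.par 116 283), (6, Src.par 117 282), (4, Src.par 117 284), (386, Src.par 118 282), (37, Src.par 118 283), (142, Src.par 119 283), (282, Src.par 119 284), (604, Src.par 120 282), (281, Src.par 120 284), (617, Src.par 121 282), (566, Src.par 121 283), (613, Src.par 122 283), (85, Src.par 122 284), (310, Src.par 123 282), (191, Src.par 123 284), (33, Src.par 124 282), (556, Src.par 124 283), (97, Src.par 125 284), (155, Src.par 126 284), (78, Src.par 127 283), (559, Src.par 127 284), (263, Src.par 128 282), (204, Src.par 128 284), (309, Src.par 129 282), (557, Src.par 129 283), (434, Src.par 130 283), (28, Src.par 131 282), (122, Src.par 131 284), (512, Src.par 132 282), (542, Src.par 132 283), (257, Src.par 135 283), (487, Src.par 137 282), (126, Src.par 138 282), (601, Src.par 139 283), (590, Src.par 139 284), (264, Src.par 141 284), (152, Src.par 142 282), (361, Src.par 143 282), (167, Src.par 143 283), (193, Src.par 144 283), (456, Src.par 146 283),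 (41, Src.par 150 283), (286, Src.par 151 283), (628, Src.par 151 284), (344, Src.par 152 283), (515, Src.par 153 284), (150, Src.par 157 283), (583, Src.par 159 282), (351, Src.par 159 284), (248, Src.par 160 282), (404, Src.par 161 284), (441, Src.par 163 282), (545, Src.par 163 284), (232, Src.par 164 282), (90, Src.par 164 283), (442, Src.par 165 283), (277, Src.par 165 284), (372, Src.par 166 283), (316, Src.par 167 284), (216, Src.par 171 282), (121, Src.par 172 282), (127, Src.par 173 284), (324, Src.par 175 283), (417, Src.par 175 284), (243, Src.par 176 283), (63, Src.par 177 284), (562, Src.par 179 282), (624, Src.par 179 284), (343, Src.par 180 282), (67, Src.par 180 283), (145, Src.par 181 283), (486, Src.par 183 282), (481, Src.par 184 283), (283, Src.par 184 284), (390, Src.par 185 284), (272, Src.par 187 284), (411, Src.par 188 283), (73, Src.par 188 284), (159, Src.par 189 283), (331, Src.par 190 284), (101, Src.par 194 283), (292, Src.par 196 282), (569, Src.par 196 284), (148, Src.par 197 282), (38, Src.par 197 283), (289, Src.par 198 283), (450, Src.par 198 284), (414, Src.par 199 283), (388, Src.par 200 284),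 (17, Src.par 202 284), (469, Src.par 206 282), (587, Src.par 206 284), (609, Src.par 207 282), (519, Src.par 207 283), (472, Src.par 208 283), (213, Src.par 208 284), (552, Src.par 209 283), (228, Src.par 210 284), (357, Src.par 212 282), (340, Src.par 212 284), (560, Src.par 213 282), (521, Src.par 213 283), (579, Src.par 214 283), (416, Src.par 214 284), (348, Src.par 215 283), (423, Src.par 216 284), (334, Src.par 218 282), (529, Src.par 218 284), (518, Src.par 219 282), (454, Src.par 219 283), (494, Src.par 220 283), (187, Src.par 220 284), (501, Src.par 221 283), (436, Src.par 222 284), (342, Src.par 224 282), (162, Src.par 224 284), (622, Src.par 225 282), (106, Src.par 225 283), (460, Src.par 229 282), (626, Src.par 229 284), (261, Src.par 230 282), (77, Src.par 230 283), (473, Src.par 231 283), (428, Src.par 231 284), (475, Src.par 232 283), (510, Src.par 233 284), (551, Src.par 236 283), (302, Src.par 237 282), (461, Src.par 237 284), (616, Src.par 238 282), (157, Src.par 238 283), (108, Src.par 239 283), (568, Src.par 240 283), (236, Src.par 243 282), (293, Src.par 243 284), (43, Src.par 244 282), (303, Src.par 244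 283), (115, Src.par 245 283), (3, Src.par 247 284), (55, Src.par 248 283), (509, Src.par 251 284), (533, Src.par 252 282), (244, Src.par 252 283), (353, Src.par 253 283), (265, Src.par 253 284), (500, Src.par 254 283), (301, Src.par 255 284), (541, Src.par 257 282), (610, Src.par 257 284), (383, Src.par 258 282), (171, Src.par 258 283), (539, Src.par 259 283), (238, Src.par 259 284), (606, Src.par 260 283), (373, Src.par 261 284), (452, Src.par 263 283), (251, Src.par 265 282), (57, Src.par 265 284), (538, Src.par 266 282), (113, Src.par 266 283), (410, Src.par 267 283), (555, Src.par 267 284), (209, Src.par 268 283), (492, Src.par 269 284), (47, Src.par 271 284), (254, Src.par 272 283), (476, Src.par 272 284), (22, Src.par 273 283), (478, Src.par 274 284), (530, Src.par 277 283), (445, Src.par 279 282), (426, Src.par 280 282), (110, Src.par 281 282), (202, Src.par 282 283), (288, Src.par 282 284), (391, Src.par 283 284), (522, Src.par 285 282), (565, Src.par 288 282), (234, Src.par 288 284), (125, Src.par 289 282), (572, Src.par 291 282), (620, Src.par 293 283), (524, Src.par 293 284), (300, Src.par 295 284), (51, Src.par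 296 282), (464, Src.par 297 283), (294, Src.par 297 284), (13, Src.par 298 283), (25, Src.par 299 284), (365, Src.par 301 282), (532, Src.par 301 284), (24, Src.par 302 282), (117, Src.par 304 282), (270, Src.par 305 283), (326, Src.par 305 284), (242, Src.par 306 284), (64, Src.par 307 282), (346, Src.par 308 282), (214, Src.par 308 284), (149, Src.par 309 282), (198, Src.par 311 282), (451, Src.par 312 283), (366, Src.par 312 284), (71, Src.par 313 283), (424, Src.par 314 284), (457, Src.par 318 282), (44, Src.par 319 282), (430, Src.par 320 282), (490, Src.par 322 282), (513, Src.par 322 284), (219, Src.par 323 282), (164, Src.par 325 282), (536, Src.par 327 283), (553, Src.par 327 284), (53, Src.par 328 283), (35, Src.par 329 284), (607, Src.par 331 282), (444, Src.par 331 284), (34, Src.par 332 282), (31, Src.par 334 282), (506, Src.par 336 283), (581, Src.par 336 284), (330, Src.par 337 283), (427, Src.par 338 284), (374, Src.par 340 282), (144, Src.par 340 284), (458, Src.par 341 282), (194, Src.par 343 282), (406, Src.par 344 283), (578, Src.par 344 284), (380, Src.par 345 283), (237, Src.par 346 284), (591, Src.par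 348 282), (313, Src.par 348 284), (598, Src.par 349 282), (328, Src.par 351 282), (621, Src.par 352 283), (36, Src.par 352 284), (537, Src.par 353 283), (337, Src.par 354 284), (166, Src.par 356 282), (18, Src.par 356 284), (453, Src.par 357 282), (573, Src.par 359 282), (231, Src.par 360 283), (595, Src.par 360 284), (92, Src.par 361 283), (503, Src.par 362 284), (597, Src.par 364 283), (462, Src.par 364 284), (177, Src.par 365 283), (23, Src.par 366 284), (446, Src.par 368 282), (474, Src.par 368 284), (119, Src.par 369 282), (163, Src.par 371 282), (335, Src.par 374 283), (546, Src.par 375 284), (260, Src.par 379 283), (280, Src.par 379 284), (463, Src.par 380 283), (489, Src.par 381 284), (80, Src.par 389 284), (455, Src.par 393 283), (600, Src.par 393 284), (83, Src.par 394 283), (52, Src.par 395 284), (296, Src.par 397 282), (608, Src.par 397 284), (297, Src.par 398 282), (68, Src.par 400 282), (298, Src.par 402 283), (418, Src.par 402 284), (60, Src.par 403 283), (594, Src.par 404 284), (46, Src.par 406 282), (128, Src.par 406 284), (29, Src.par 407 282), (623, Src.par 409 282), (394, Src.par 411 282), (201, Src.par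 411 284), (79, Src.par 412 282), (276, Src.par 414 282), (402, Src.par 416 283), (350, Src.par 416 284), (387, Src.par 417 284), (544, Src.par 419 282), (252, Src.par 420 282), (467, Src.par 421 282), (114, Src.par 427 282), (278, Src.par 428 282), (258, Src.par 429 282), (268, Src.par 431 282), (534, Src.par 431 284), (208, Src.par 432 282), (421, Src.par 434 282), (306, Src.par 435 283), (603, Src.par 435 284), (105, Src.par 437 284), (203, Src.par 439 282), (279, Src.par 440 282), (146, Src.par 441 282), (267, Src.par 443 283), (176, Src.par 443 284), (89, Src.par 445 284), (195, Src.par 447 284), (554, Src.par 451 283), (312, Src.par 451 284), (438, Src.par 452 284), (200, Src.par 458 282), (275, Src.par 458 284), (547, Src.par 459 282), (136, Src.par 461 282), (543, Src.par 462 283), (448, Src.par 462 284), (70, Src.par 464 284), (253, Src.par 466 282), (363, Src.par 466 284), (143, Src.par 467 282), (305, Src.par 469 282), (211, Src.par 470 283), (74, Src.par 470 284), (226, Src.par 472 284), (274, Src.par 474 282), (225, Src.par 474 284), (266, Src.par 475 282), (132, Src.par 477 282), (131, Src.par 478 283), (168, Src.par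 478 284), (137, Src.par 480 284), (580, Src.par 482 282), (493, Src.par 482 284), (466, Src.par 483 282), (9, Src.par 485 282), (72, Src.par 486 283), (396, Src.par 486 284), (596, Src.par 488 284), (196, Src.par 490 284), (88, Src.par 494 282), (154, Src.par 494 284), (370, Src.par 495 282), (498, Src.par 497 282), (311, Src.par 498 283), (432, Src.par 498 284), (45, Src.par 500 284), (295, Src.par 504 284), (179, Src.par 509 282), (318, Src.par 509 284), (571, Src.par 510 282), (499, Src.par 512 282), (141, Src.par 513 283), (256, Src.par 513 284), (112, Src.par 515 284), (215, Src.par 517 282), (629, Src.par 517 284), (120, Src.par 518 282), (382, Src.par 520 282), (577, Src.par 521 283), (116, Src.par 521 284), (172, Src.par 523 284), (188, Src.par 538 283), (398, Src.par 538 284), (514, Src.par 540 284), (87, Src.par 555 283), (405, Src.par 555 284), (488, Src.par 557 284), (395, Src.par 562 283), (220, Src.par 562 284), (130, Src.par 564 284), (505, Src.par 569 283), (287, Src.par 569 284), (273, Src.par 571 284), (495, Src.par 576 283), (103, Src.par 576 284), (262, Src.par 578 284), (508, Src.par 584 283), (96, Src.par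 584 284), (354, Src.par 586 284), (399, Src.par 592 283), (182, Src.par 592 284), (589, Src.par 594 284), (507, Src.par 599 283), (271, Src.par 599 284), (614, Src.par 601 284)]]

/-- part 5 of coverings -/
def covL5 : List (List (ℕ × Src)) := [
  [(0, Src.edge (286, [Op.S])), (1, Src.edge (303, [])), (2, Src.edge (293, [])), (3, Src.edge (326, [Op.S])), (4, Src.edge (299, [Op.S])), (7, Src.edge (302, [Op.S])), (8, Src.edge (288, [])), (10, Src.edge (301, [Op.S])), (11, Src.edge (292, [])), (13, Src.edge (452, [])), (49, Src.edge (298, [Op.S])), (81, Src.edge (294, [Op.S])), (88, Src.edge (339, [])), (104, Src.edge (297, [Op.S])), (189, Src.edge (311, [Op.S])), (333, Src.edge (295, [Op.S])), (345, Src.edge (319, [])), (349, Src.edge (505, [])), (405, Src.edge (302, [])), (528, Src.edge (296, [Op.S])), (33, Src.par 0 501), (50, Src.par 0 502), (510, Src.par 0 503), (546, Src.par 1 503), (12, Src.par 2 501), (21, Src.par 2 502), (373, Src.par 2 503), (616, Src.par 3 501), (149, Src.par 3 502), (119, Src.par 3 503), (565, Src.par 4 503), (43, Src.par 5 501), (233, Src.par 5 502), (451, Src.par 5 503), (25, Src.par 6 501), (5,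 Src.par 6 502), (430, Src.par 6 503), (572, Src.par 7 501), (243, Src.par 7 502), (297, Src.par 7 503), (23, Src.par 8 501), (15, Src.par 8 502), (489, Src.par 8 503), (258, Src.par 9 501), (61, Src.par 10 501), (436, Src.par 10 502), (551, Src.par 10 503), (549, Src.par 11 501), (591, Src.par 11 503), (447, Src.par 12 502), (295, Src.par 12 503), (336, Src.par 13 501), (300, Src.par 13 502), (554, Src.par 13 503), (203, Src.par 14 502), (608, Src.par 14 503), (109, Src.par 15 501), (326, Src.par 15 502), (20, Src.par 15 503), (194, Src.par 16 501), (486, Src.par 16 502), (428, Src.par 16 503), (586, Src.par 17 502), (378, Src.par 17 503), (186, Src.par 18 501), (236, Src.par 18 502), (458, Src.par 18 503), (342, Src.par 19 501), (195, Src.par 19 502), (299, Src.par 19 503), (35, Src.par 20 502), (497, Src.par 20 503), (397, Src.par 21 501), (26, Src.par 21 502), (337, Src.par 21 503), (216, Src.par 22 501), (124, Src.par 22 502), (503, Src.par 22 503), (541, Src.par 23 501), (86, Src.par 23 502), (379, Src.par 23 503), (14, Src.par 24 502), (482, Src.par 24 503), (242, Src.par 25 501), (55, Src.par 25 502), (501, Src.par 25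 503), (419, Src.par 26 501), (301, Src.par 26 502), (366, Src.par 26 503), (356, Src.par 27 502), (570, Src.par 27 503), (614, Src.par 28 501), (127, Src.par 28 502), (177, Src.par 28 503), (215, Src.par 29 501), (460, Src.par 30 501), (94, Src.par 30 502), (488, Src.par 30 503), (245, Src.par 31 502), (330, Src.par 31 503), (196, Src.par 32 501), (214, Src.par 32 502), (407, Src.par 32 503), (320, Src.par 33 502), (382, Src.par 33 503), (63, Src.par 34 502), (271, Src.par 34 503), (52, Src.par 35 501), (6, Src.par 35 502), (402, Src.par 35 503), (259, Src.par 36 501), (223, Src.par 36 502), (340, Src.par 36 503), (468, Src.par 37 502), (623, Src.par 37 503), (629, Src.par 38 501), (64, Src.par 38 502), (83, Src.par 38 503), (418, Src.par 39 501), (54, Src.par 40 502), (114, Src.par 40 503), (65, Src.par 41 501), (17, Src.par 41 502), (391, Src.par 41 503), (289, Src.par 42 501), (448, Src.par 42 503), (477, Src.par 43 503), (84, Src.par 44 502), (478, Src.par 44 503), (452, Src.par 45 501), (275, Src.par 45 502), (250, Src.par 45 503), (321, Src.par 46 501), (376, Src.par 46 503), (534, Src.par 47 502), (568, Src.par 47 503),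 (128, Src.par 48 501), (530, Src.par 48 502), (314, Src.par 48 503), (200, Src.par 49 501), (365, Src.par 49 503), (613, Src.par 50 501), (143, Src.par 50 502), (339, Src.par 50 503), (264, Src.par 51 502), (274, Src.par 51 503), (555, Src.par 52 501), (318, Src.par 52 502), (115, Src.par 52 503), (56, Src.par 53 501), (225, Src.par 53 502), (139, Src.par 53 503), (268, Src.par 54 501), (438, Src.par 54 503), (145, Src.par 55 501), (113, Src.par 55 502), (615, Src.par 55 503), (170, Src.par 56 502), (395, Src.par 56 503), (603, Src.par 57 501), (199, Src.par 57 502), (385, Src.par 57 503), (117, Src.par 58 501), (262, Src.par 58 502), (531, Src.par 58 503), (287, Src.par 59 502), (449, Src.par 59 503), (624, Src.par 60 501), (312, Src.par 60 502), (134, Src.par 60 503), (363, Src.par 61 501), (27, Src.par 61 502), (246, Src.par 61 503), (434, Src.par 63 503), (552, Src.par 64 502), (612, Src.par 64 503), (577, Src.par 65 501), (611, Src.par 65 502), (372, Src.par 65 503), (158, Src.par 66 501), (595, Src.par 66 502), (425, Src.par 66 503), (465, Src.par 67 502), (404, Src.par 67 503), (386, Src.par 68 501), (384, Src.par 68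 502), (201, Src.par 68 503), (58, Src.par 69 501), (31, Src.par 69 502), (296, Src.par 69 503), (144, Src.par 70 503), (205, Src.par 71 501), (164, Src.par 71 502), (146, Src.par 71 503), (298, Src.par 72 503), (306, Src.par 73 503), (442, Src.par 74 501), (159, Src.par 74 502), (153, Src.par 74 503), (57, Src.par 75 502), (368, Src.par 75 503), (424, Src.par 76 501), (211, Src.par 77 501), (234, Src.par 78 502), (161, Src.par 78 503), (138, Src.par 79 501), (313, Src.par 81 503), (411, Src.par 82 501), (69, Src.par 82 502), (197, Src.par 82 503), (120, Src.par 83 503), (135, Src.par 84 503), (292, Src.par 85 501), (152, Src.par 85 502), (317, Src.par 85 503), (29, Src.par 86 502), (278, Src.par 86 503), (231, Src.par 87 501), (131, Src.par 88 501), (137, Src.par 89 503), (599, Src.par 90 501), (413, Src.par 90 502), (602, Src.par 90 503), (593, Src.par 91 503), (579, Src.par 93 501), (53, Src.par 93 502), (429, Src.par 94 502), (507, Src.par 94 503), (157, Src.par 95 502), (66, Src.par 95 503), (308, Src.par 96 501), (529, Src.par 99 501), (307, Src.par 99 502), (75, Src.par 100 503), (362, Src.par 101 503), (102, Src.par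 102 501), (426, Src.par 102 502), (598, Src.par 102 503), (622, Src.par 104 501), (423, Src.par 105 503), (545, Src.par 106 501), (87, Src.par 106 502), (89, Src.par 106 503), (47, Src.par 107 503), (291, Src.par 108 503), (441, Src.par 109 501), (51, Src.par 112 501), (226, Src.par 113 503), (461, Src.par 114 501), (207, Src.par 114 502), (504, Src.par 114 503), (377, Src.par 115 503), (472, Src.par 117 501), (24, Src.par 117 502), (239, Src.par 118 502), (538, Src.par 118 503), (251, Src.par 119 503), (485, Src.par 120 501), (36, Src.par 120 502), (556, Src.par 120 503), (228, Src.par 121 503), (244, Src.par 122 503), (324, Src.par 123 501), (596, Src.par 123 502), (217, Src.par 123 503), (607, Src.par 126 502), (548, Src.par 126 503), (42, Src.par 127 503), (564, Src.par 128 501), (412, Src.par 128 502), (499, Src.par 128 503), (515, Src.par 129 503), (192, Src.par 130 503), (581, Src.par 131 501), (125, Src.par 131 502), (305, Src.par 131 503), (311, Src.par 134 503), (443, Src.par 135 501), (364, Src.par 135 502), (421, Src.par 135 503), (218, Src.par 136 502), (319, Src.par 136 503), (282, Src.par 137 501), (474, Src.par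 138 501), (522, Src.par 139 503), (470, Src.par 140 501), (358, Src.par 140 502), (584, Src.par 140 503), (445, Src.par 141 502), (346, Src.par 141 503), (266, Src.par 142 501), (495, Src.par 143 501), (44, Src.par 144 503), (325, Src.par 145 501), (439, Src.par 145 502), (129, Src.par 145 503), (60, Src.par 146 503), (459, Src.par 147 503), (294, Src.par 148 501), (140, Src.par 148 502), (484, Src.par 148 503), (210, Src.par 149 502), (213, Src.par 149 503), (238, Src.par 150 501), (457, Src.par 151 501), (567, Src.par 152 503), (491, Src.par 153 501), (304, Src.par 153 502), (621, Src.par 153 503), (141, Src.par 154 502), (175, Src.par 154 503), (208, Src.par 155 501), (467, Src.par 156 501), (469, Src.par 157 503), (184, Src.par 158 501), (351, Src.par 158 502), (92, Src.par 158 503), (517, Src.par 159 503), (160, Src.par 160 503), (335, Src.par 161 501), (219, Src.par 161 502), (277, Src.par 161 503), (509, Src.par 165 503), (329, Src.par 166 501), (410, Src.par 166 502), (388, Src.par 166 503), (415, Src.par 167 503), (433, Src.par 168 503), (263, Src.par 169 501), (416, Src.par 169 502), (254, Src.par 169 503), (618,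 Src.par 170 502), (310, Src.par 170 503), (533, Src.par 171 501), (111, Src.par 172 501), (34, Src.par 173 501), (562, Src.par 174 503), (222, Src.par 175 501), (185, Src.par 175 502), (573, Src.par 175 503), (550, Src.par 176 503), (417, Src.par 177 503), (563, Src.par 178 501), (594, Src.par 178 502), (343, Src.par 181 501), (241, Src.par 182 503), (193, Src.par 183 501), (91, Src.par 183 502), (67, Src.par 183 503), (121, Src.par 184 503), (369, Src.par 185 503), (327, Src.par 186 501), (99, Src.par 186 502), (162, Src.par 186 503), (605, Src.par 190 501), (118, Src.par 190 502), (589, Src.par 190 503), (73, Src.par 191 502), (18, Src.par 191 503), (464, Src.par 192 501), (303, Src.par 193 501), (240, Src.par 194 501), (85, Src.par 194 502), (403, Src.par 194 503), (539, Src.par 195 501), (370, Src.par 195 502), (280, Src.par 195 503), (150, Src.par 196 502), (437, Src.par 196 503), (519, Src.par 197 501), (112, Src.par 199 503), (249, Src.par 200 501), (617, Src.par 200 502), (39, Src.par 200 503), (352, Src.par 202 502), (105, Src.par 202 503), (77, Src.par 203 503), (580, Src.par 206 501), (62, Src.par 206 502), (354,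 Src.par 206 503), (167, Src.par 207 502), (9, Src.par 207 503), (483, Src.par 208 501), (126, Src.par 209 501), (235, Src.par 210 501), (93, Src.par 210 502), (514, Src.par 210 503), (473, Src.par 211 501), (571, Src.par 211 502), (387, Src.par 211 503), (101, Src.par 212 502), (276, Src.par 212 503), (521, Src.par 213 501), (45, Src.par 215 503), (270, Src.par 216 501), (574, Src.par 216 502), (106, Src.par 216 503), (355, Src.par 218 502), (38, Src.par 218 503), (583, Src.par 219 501), (187, Src.par 219 502), (392, Src.par 219 503), (513, Src.par 220 502), (281, Src.par 220 503), (182, Src.par 221 501), (265, Src.par 222 501), (273, Src.par 223 503), (558, Src.par 227 502), (71, Src.par 227 503), (171, Src.par 228 503), (360, Src.par 231 502), (260, Src.par 231 503), (396, Src.par 232 501), (547, Src.par 234 502), (628, Src.par 234 503), (348, Src.par 235 502), (524, Src.par 235 503), (559, Src.par 236 501), (367, Src.par 238 502), (422, Src.par 238 503), (32, Src.par 239 501), (537, Src.par 242 501), (604, Src.par 243 501), (19, Src.par 243 502), (520, Src.par 243 503), (190, Src.par 244 501), (453, Src.par 244 502), (123,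 Src.par 244 503), (70, Src.par 246 502), (585, Src.par 247 501), (103, Src.par 247 502), (359, Src.par 247 503), (523, Src.par 248 502), (390, Src.par 248 503), (96, Src.par 249 501), (285, Src.par 250 501), (130, Src.par 251 503), (575, Src.par 255 502), (165, Src.par 255 503), (178, Src.par 256 502), (180, Src.par 256 503), (454, Src.par 257 502), (22, Src.par 257 503), (506, Src.par 258 501), (59, Src.par 260 501), (435, Src.par 260 503), (224, Src.par 261 502), (587, Src.par 261 503), (90, Src.par 263 501), (76, Src.par 267 502), (505, Src.par 267 503), (98, Src.par 268 502), (286, Src.par 268 503), (80, Src.par 269 501), (357, Src.par 271 501), (569, Src.par 271 503), (279, Src.par 272 502), (466, Src.par 272 503), (527, Src.par 274 501), (561, Src.par 276 501), (414, Src.par 276 502), (481, Src.par 276 503), (620, Src.par 277 502), (347, Src.par 277 503), (516, Src.par 278 501), (247, Src.par 280 503), (576, Src.par 281 501), (525, Src.par 281 502), (46, Src.par 281 503), (393, Src.par 284 501), (476, Src.par 284 502), (400, Src.par 284 503), (511, Src.par 285 502), (535, Src.par 285 503), (502, Src.par 286 501), (490,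 Src.par 288 503), (408, Src.par 289 501), (592, Src.par 291 502), (375, Src.par 291 503), (267, Src.par 292 501), (432, Src.par 292 502), (625, Src.par 292 503), (544, Src.par 293 502), (68, Src.par 293 503), (371, Src.par 294 501), (232, Src.par 295 501), (237, Src.par 296 501), (315, Src.par 296 502), (74, Src.par 296 503), (133, Src.par 297 501), (475, Src.par 297 502), (272, Src.par 297 503), (78, Src.par 298 502), (526, Src.par 298 503), (512, Src.par 299 501), (500, Src.par 301 503), (155, Src.par 302 501), (383, Src.par 302 502), (97, Src.par 302 503), (269, Src.par 304 502), (322, Src.par 304 503), (560, Src.par 305 501), (156, Src.par 305 502), (420, Src.par 305 503), (221, Src.par 306 502), (334, Src.par 306 503), (374, Src.par 307 501), (566, Src.par 309 503), (518, Src.par 310 501), (381, Src.par 312 502), (341, Src.par 312 503), (496, Src.par 313 501), (498, Src.par 313 502), (206, Src.par 313 503), (174, Src.par 314 502), (536, Src.par 315 501), (132, Src.par 318 502), (302, Src.par 318 503), (492, Src.par 319 502), (578, Src.par 320 501), (309, Src.par 322 501), (248, Src.par 322 502), (188, Src.par 322 503),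 (331, Src.par 323 502), (172, Src.par 323 503), (610, Src.par 324 501), (198, Src.par 325 501), (147, Src.par 326 501), (427, Src.par 326 502), (202, Src.par 326 503), (168, Src.par 327 501), (183, Src.par 327 502), (261, Src.par 327 503), (163, Src.par 328 502), (480, Src.par 328 503), (230, Src.par 329 501), (122, Src.par 331 503), (401, Src.par 332 501), (252, Src.par 332 502), (606, Src.par 332 503), (256, Src.par 334 502), (627, Src.par 334 503), (136, Src.par 339 501), (380, Src.par 340 501), (394, Src.par 340 502), (350, Src.par 340 503), (229, Src.par 341 501), (16, Src.par 341 502), (543, Src.par 341 503), (110, Src.par 344 502), (169, Src.par 344 503), (446, Src.par 345 501), (290, Src.par 345 502), (440, Src.par 345 503), (41, Src.par 346 502), (455, Src.par 347 501), (389, Src.par 350 502), (288, Src.par 350 503), (108, Src.par 351 502), (597, Src.par 352 501), (553, Src.par 354 502), (176, Src.par 354 503), (619, Src.par 357 503), (316, Src.par 360 502), (431, Src.par 360 503), (30, Src.par 361 503), (471, Src.par 364 503), (40, Src.par 370 502), (588, Src.par 370 503), (79, Src.par 371 502), (601, Src.par 371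 503), (95, Src.par 375 502), (399, Src.par 375 503), (72, Src.par 376 502), (532, Src.par 377 502), (82, Src.par 377 503), (487, Src.par 380 503), (148, Src.par 383 502), (255, Src.par 383 503), (28, Src.par 384 503), (456, Src.par 387 503), (107, Src.par 393 502), (344, Src.par 393 503), (173, Src.par 394 502), (463, Src.par 394 503), (181, Src.par 398 502), (508, Src.par 398 503), (600, Src.par 399 502), (166, Src.par 409 502), (100, Src.par 410 503), (406, Src.par 421 502), (462, Src.par 429 502), (409, Src.par 459 503), (323, Src.par 465 502), (493, Src.par 465 503), (609, Src.par 466 502), (494, Src.par 469 503), (479, Src.par 475 502), (179, Src.par 475 503), (353, Src.par 478 502), (257, Src.par 479 502), (398, Src.par 479 503), (626, Src.par 482 503), (212, Src.par 485 502), (328, Src.par 485 503), (204, Src.par 486 503), (582, Src.par 489 503), (142, Src.par 495 502), (151, Src.par 495 503), (209, Src.par 496 502), (227, Src.par 496 503), (332, Src.par 500 502), (220, Src.par 500 503), (542, Src.par 501 503), (338, Src.par 507 502), (450, Src.par 507 503), (293, Src.par 510 502), (540, Src.par 520 502), (37, Src.par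 520 503), (590, Src.par 523 503), (116, Src.par 526 502), (361, Src.par 526 503), (283, Src.par 527 503), (557, Src.par 530 503), (154, Src.par 536 502), (48, Src.par 536 503), (444, Src.par 537 502), (191, Src.par 537 503), (253, Src.par 541 502), (284, Src.par 541 503)]]

/-- part 6 of coverings -/
def covL6 : List (List (ℕ × Src)) := [
  [(0, Src.edge (504, [Op.S])), (2, Src.edge (506, [Op.S])), (15, Src.edge (505, [Op.S])), (26, Src.par 0 546), (55, Src.par 1 546), (175, Src.par 2 545), (27, Src.par 3 545), (1, Src.par 3 546), (56, Src.par 4 545), (4, Src.par 4 546), (257, Src.par 5 545), (279, Src.par 5 546), (471, Src.par 6 545), (87, Src.par 6 546), (10, Src.par 7 545), (456, Src.par 8 545), (178, Src.par 8 546), (3, Src.par 9 545), (450, Src.par 10 546), (216, Src.par 11 545), (35, Src.par 11 546), (64, Src.par 12 546), (128, Src.par 13 545), (12, Src.par 13 546), (332, Src.par 14 545), (399, Src.par 14 546), (127, Src.par 15 546), (304, Src.par 16 545), (33, Src.par 16 546), (449, Src.par 17 545), (508, Src.par 17 546), (501, Src.par 18 545), (346, Src.par 18 546), (66, Src.par 19 545), (85, Src.par 19 546), (306,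 Src.par 20 545), (95, Src.par 21 545), (189, Src.par 21 546), (453, Src.par 22 545), (62, Src.par 22 546), (311, Src.par 23 545), (428, Src.par 24 546), (451, Src.par 25 545), (63, Src.par 25 546), (181, Src.par 26 545), (323, Src.par 26 546), (596, Src.par 27 545), (118, Src.par 27 546), (141, Src.par 28 545), (238, Src.par 29 546), (595, Src.par 30 545), (65, Src.par 30 546), (570, Src.par 31 545), (402, Src.par 31 546), (149, Src.par 32 545), (535, Src.par 34 545), (61, Src.par 34 546), (507, Src.par 35 545), (391, Src.par 35 546), (203, Src.par 36 545), (231, Src.par 36 546), (119, Src.par 37 545), (13, Src.par 38 546), (358, Src.par 39 545), (616, Src.par 39 546), (622, Src.par 40 545), (588, Src.par 40 546), (269, Src.par 41 545), (200, Src.par 41 546), (437, Src.par 42 545), (59, Src.par 42 546), (267, Src.par 43 545), (409, Src.par 44 545), (424, Src.par 44 546), (297, Src.par 45 545), (34, Src.par 46 546), (470, Src.par 47 545), (572, Src.par 47 546), (562, Src.par 48 545), (344, Src.par 48 546), (248, Src.par 49 545), (408, Src.par 49 546), (276, Src.par 50 545), (32, Src.par 50 546), (246, Src.par 51 545), (503,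 Src.par 52 546), (377, Src.par 53 545), (430, Src.par 53 546), (198, Src.par 54 545), (84, Src.par 54 546), (571, Src.par 55 545), (208, Src.par 55 546), (495, Src.par 56 545), (387, Src.par 57 546), (477, Src.par 58 545), (510, Src.par 58 546), (376, Src.par 59 546), (394, Src.par 60 545), (195, Src.par 60 546), (612, Src.par 61 545), (220, Src.par 61 546), (493, Src.par 62 545), (348, Src.par 62 546), (152, Src.par 63 545), (187, Src.par 63 546), (157, Src.par 64 545), (288, Src.par 65 546), (186, Src.par 66 545), (316, Src.par 66 546), (625, Src.par 67 545), (355, Src.par 67 546), (24, Src.par 68 545), (156, Src.par 70 545), (336, Src.par 70 546), (155, Src.par 71 545), (54, Src.par 71 546), (333, Src.par 72 546), (360, Src.par 73 545), (342, Src.par 73 546), (524, Src.par 74 545), (287, Src.par 74 546), (567, Src.par 75 545), (552, Src.par 75 546), (159, Src.par 76 545), (103, Src.par 76 546), (234, Src.par 77 545), (440, Src.par 78 546), (102, Src.par 79 545), (148, Src.par 79 546), (627, Src.par 80 545), (352, Src.par 80 546), (53, Src.par 81 545), (319, Src.par 83 545), (361, Src.par 83 546), (230, Src.par 84 545), (25,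 Src.par 84 546), (79, Src.par 85 545), (371, Src.par 85 546), (264, Src.par 86 545), (123, Src.par 86 546), (137, Src.par 87 545), (163, Src.par 88 546), (373, Src.par 89 545), (229, Src.par 90 546), (31, Src.par 91 545), (468, Src.par 91 546), (372, Src.par 92 545), (547, Src.par 92 546), (563, Src.par 93 545), (516, Src.par 93 546), (225, Src.par 94 545), (545, Src.par 94 546), (585, Src.par 95 545), (17, Src.par 96 545), (275, Src.par 96 546), (354, Src.par 97 545), (290, Src.par 97 546), (310, Src.par 98 545), (458, Src.par 99 546), (213, Src.par 100 545), (368, Src.par 100 546), (247, Src.par 101 545), (282, Src.par 101 546), (554, Src.par 102 545), (169, Src.par 103 546), (472, Src.par 104 546), (222, Src.par 105 545), (219, Src.par 105 546), (592, Src.par 106 546), (108, Src.par 107 545), (460, Src.par 107 546), (605, Src.par 108 545), (139, Src.par 109 546), (357, Src.par 110 545), (74, Src.par 110 546), (359, Src.par 111 546), (223, Src.par 112 545), (252, Src.par 112 546), (400, Src.par 113 545), (19, Src.par 114 546), (362, Src.par 115 545), (49, Src.par 115 546), (8, Src.par 116 545), (277, Src.par 116 546), (589,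 Src.par 117 545), (389, Src.par 117 546), (140, Src.par 118 545), (598, Src.par 119 546), (416, Src.par 120 545), (278, Src.par 120 546), (268, Src.par 121 545), (438, Src.par 121 546), (533, Src.par 122 545), (75, Src.par 123 546), (579, Src.par 124 546), (422, Src.par 125 545), (250, Src.par 125 546), (375, Src.par 126 546), (41, Src.par 127 545), (541, Src.par 127 546), (580, Src.par 128 545), (309, Src.par 129 546), (469, Src.par 130 545), (168, Src.par 130 546), (392, Src.par 131 546), (224, Src.par 132 545), (272, Src.par 132 546), (511, Src.par 133 545), (36, Src.par 134 546), (543, Src.par 135 545), (20, Src.par 135 546), (96, Src.par 136 545), (263, Src.par 136 546), (280, Src.par 137 545), (494, Src.par 138 546), (609, Src.par 139 545), (202, Src.par 139 546), (356, Src.par 140 545), (587, Src.par 140 546), (542, Src.par 141 545), (583, Src.par 142 545), (135, Src.par 142 546), (565, Src.par 143 545), (620, Src.par 143 546), (364, Src.par 144 545), (244, Src.par 145 545), (117, Src.par 147 545), (284, Src.par 147 546), (590, Src.par 148 545), (317, Src.par 149 545), (204, Src.par 151 545), (396, Src.par 151 546),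 (92, Src.par 152 545), (153, Src.par 152 546), (11, Src.par 153 546), (466, Src.par 154 545), (530, Src.par 156 545), (569, Src.par 156 546), (256, Src.par 157 545), (395, Src.par 157 546), (513, Src.par 158 545), (378, Src.par 158 546), (331, Src.par 159 545), (398, Src.par 159 546), (384, Src.par 160 545), (259, Src.par 161 546), (480, Src.par 162 545), (295, Src.par 162 546), (467, Src.par 163 545), (160, Src.par 163 546), (150, Src.par 164 546), (73, Src.par 165 545), (617, Src.par 166 546), (253, Src.par 167 545), (496, Src.par 167 546), (134, Src.par 168 545), (236, Src.par 169 546), (28, Src.par 170 545), (265, Src.par 170 546), (60, Src.par 171 545), (126, Src.par 171 546), (72, Src.par 172 545), (312, Src.par 172 546), (144, Src.par 174 545), (551, Src.par 175 545), (343, Src.par 176 546), (429, Src.par 177 546), (320, Src.par 178 545), (626, Src.par 178 546), (113, Src.par 179 545), (549, Src.par 179 546), (527, Src.par 180 545), (485, Src.par 180 546), (5, Src.par 182 546), (385, Src.par 183 545), (491, Src.par 185 545), (603, Src.par 185 546), (432, Src.par 186 545), (505, Src.par 186 546), (523, Src.par 187 545),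 (548, Src.par 187 546), (526, Src.par 188 545), (345, Src.par 188 546), (465, Src.par 189 545), (435, Src.par 190 546), (544, Src.par 191 545), (445, Src.par 191 546), (347, Src.par 192 545), (321, Src.par 192 546), (101, Src.par 193 546), (167, Src.par 194 545), (574, Src.par 195 546), (274, Src.par 196 545), (515, Src.par 196 546), (151, Src.par 197 545), (426, Src.par 198 546), (30, Src.par 199 545), (285, Src.par 199 546), (116, Src.par 200 545), (303, Src.par 200 546), (166, Src.par 201 545), (142, Src.par 201 546), (313, Src.par 203 545), (531, Src.par 204 545), (196, Src.par 205 546), (239, Src.par 206 546), (158, Src.par 207 545), (610, Src.par 207 546), (46, Src.par 208 545), (518, Src.par 208 546), (492, Src.par 209 545), (604, Src.par 209 546), (573, Src.par 212 545), (410, Src.par 212 546), (367, Src.par 213 545), (341, Src.par 213 546), (133, Src.par 215 545), (558, Src.par 215 546), (217, Src.par 216 545), (476, Src.par 217 546), (581, Src.par 218 545), (483, Src.par 218 546), (475, Src.par 219 545), (370, Src.par 219 546), (538, Src.par 221 545), (291, Src.par 221 546), (599, Src.par 222 545), (606, Src.par 223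 545), (226, Src.par 225 545), (337, Src.par 225 546), (419, Src.par 226 546), (489, Src.par 227 545), (623, Src.par 228 546), (182, Src.par 229 546), (173, Src.par 230 546), (379, Src.par 231 545), (161, Src.par 232 546), (575, Src.par 233 545), (7, Src.par 234 545), (50, Src.par 234 546), (577, Src.par 235 545), (519, Src.par 235 546), (99, Src.par 236 545), (413, Src.par 236 546), (251, Src.par 237 545), (258, Src.par 238 546), (406, Src.par 239 546), (566, Src.par 240 545), (624, Src.par 240 546), (618, Src.par 242 546), (382, Src.par 243 545), (401, Src.par 243 546), (242, Src.par 244 546), (318, Src.par 245 546), (556, Src.par 246 546), (69, Src.par 249 546), (601, Src.par 250 545), (500, Src.par 251 546), (597, Src.par 252 546), (353, Src.par 253 545), (539, Src.par 253 546), (602, Src.par 255 546), (43, Src.par 256 545), (106, Src.par 257 545), (122, Src.par 257 546), (490, Src.par 258 545), (51, Src.par 259 546), (615, Src.par 260 545), (407, Src.par 260 546), (299, Src.par 261 546), (509, Src.par 263 545), (497, Src.par 263 546), (98, Src.par 264 545), (369, Src.par 264 546), (608, Src.par 265 545), (172, Src.par 265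 546), (206, Src.par 267 546), (431, Src.par 268 545), (550, Src.par 268 546), (289, Src.par 269 545), (170, Src.par 269 546), (421, Src.par 270 545), (125, Src.par 271 546), (185, Src.par 272 545), (232, Src.par 272 546), (16, Src.par 273 545), (21, Src.par 273 546), (559, Src.par 274 545), (521, Src.par 274 546), (91, Src.par 275 545), (207, Src.par 275 546), (271, Src.par 276 545), (434, Src.par 277 546), (506, Src.par 278 546), (481, Src.par 279 545), (582, Src.par 279 546), (484, Src.par 281 546), (594, Src.par 282 545), (512, Src.par 282 546), (397, Src.par 283 546), (154, Src.par 284 546), (520, Src.par 285 546), (164, Src.par 288 546), (463, Src.par 289 545), (486, Src.par 290 546), (455, Src.par 291 546), (393, Src.par 292 545), (473, Src.par 292 546), (504, Src.par 294 546), (110, Src.par 295 545), (39, Src.par 296 545), (300, Src.par 296 546), (339, Src.par 297 545), (22, Src.par 298 546), (525, Src.par 299 545), (405, Src.par 299 546), (121, Src.par 300 546), (457, Src.par 302 545), (482, Src.par 302 546), (184, Src.par 303 545), (241, Src.par 303 546), (474, Src.par 304 545), (78, Src.par 304 546), (412, Src.par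 306 546), (255, Src.par 307 545), (529, Src.par 307 546), (441, Src.par 308 545), (76, Src.par 308 546), (221, Src.par 309 545), (302, Src.par 310 546), (100, Src.par 311 545), (388, Src.par 311 546), (488, Src.par 312 545), (349, Src.par 312 546), (464, Src.par 313 545), (593, Src.par 316 546), (560, Src.par 318 545), (414, Src.par 319 546), (80, Src.par 320 545), (93, Src.par 323 545), (245, Src.par 323 546), (14, Src.par 324 545), (68, Src.par 327 545), (363, Src.par 327 546), (340, Src.par 328 546), (534, Src.par 332 545), (366, Src.par 332 546), (209, Src.par 334 546), (174, Src.par 335 546), (199, Src.par 336 545), (243, Src.par 336 546), (578, Src.par 337 546), (104, Src.par 339 545), (427, Src.par 341 545), (329, Src.par 341 546), (591, Src.par 342 546), (292, Src.par 343 546), (564, Src.par 344 545), (114, Src.par 344 546), (266, Src.par 345 546), (145, Src.par 348 546), (600, Src.par 349 545), (71, Src.par 349 546), (40, Src.par 350 545), (611, Src.par 350 546), (67, Src.par 351 545), (326, Src.par 352 545), (404, Src.par 353 545), (315, Src.par 354 545), (48, Src.par 354 546), (350, Src.par 356 545), (383, Src.par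 356 546), (330, Src.par 357 545), (403, Src.par 357 546), (607, Src.par 359 546), (446, Src.par 361 545), (418, Src.par 362 546), (44, Src.par 363 546), (29, Src.par 364 546), (305, Src.par 365 545), (576, Src.par 365 546), (210, Src.par 366 546), (619, Src.par 367 546), (233, Src.par 369 545), (443, Src.par 371 545), (228, Src.par 371 546), (351, Src.par 373 546), (112, Src.par 374 545), (479, Src.par 374 546), (138, Src.par 376 545), (193, Src.par 376 546), (324, Src.par 377 546), (629, Src.par 380 546), (390, Src.par 381 546), (411, Src.par 383 546), (621, Src.par 384 545), (37, Src.par 386 545), (237, Src.par 388 545), (227, Src.par 388 546), (374, Src.par 389 546), (442, Src.par 390 546), (536, Src.par 391 545), (47, Src.par 391 546), (143, Src.par 392 546), (314, Src.par 395 546), (462, Src.par 396 545), (165, Src.par 396 546), (107, Src.par 397 545), (628, Src.par 397 546), (162, Src.par 398 545), (192, Src.par 399 545), (201, Src.par 400 545), (147, Src.par 401 545), (115, Src.par 401 546), (260, Src.par 403 545), (261, Src.par 403 546), (380, Src.par 404 545), (514, Src.par 404 546), (586, Src.par 406 546), (296, Src.par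 408 545), (215, Src.par 409 546), (111, Src.par 410 546), (57, Src.par 411 546), (132, Src.par 412 545), (381, Src.par 412 546), (254, Src.par 413 546), (487, Src.par 414 546), (425, Src.par 416 545), (293, Src.par 418 545), (423, Src.par 418 546), (478, Src.par 420 546), (45, Src.par 421 545), (522, Src.par 421 546), (308, Src.par 423 545), (327, Src.par 423 546), (190, Src.par 424 546), (614, Src.par 427 546), (281, Src.par 428 546), (205, Src.par 430 546), (561, Src.par 431 545), (448, Src.par 433 546), (58, Src.par 437 545), (546, Src.par 440 545), (81, Src.par 441 546), (334, Src.par 443 546), (447, Src.par 445 546), (461, Src.par 448 546), (129, Src.par 450 545), (528, Src.par 452 545), (322, Src.par 452 546), (191, Src.par 453 546), (212, Src.par 455 545), (131, Src.par 455 546), (9, Src.par 456 545), (298, Src.par 458 546), (124, Src.par 459 545), (171, Src.par 461 545), (452, Src.par 463 546), (176, Src.par 465 546), (270, Src.par 466 545), (235, Src.par 470 546), (540, Src.par 471 546), (328, Src.par 472 546), (444, Src.par 474 546), (532, Src.par 475 546), (537, Src.par 476 545), (86, Src.par 476 546), (557, Src.par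 477 546), (130, Src.par 479 546), (52, Src.par 480 545), (499, Src.par 481 545), (197, Src.par 483 545), (613, Src.par 484 546), (179, Src.par 486 545), (180, Src.par 487 546), (502, Src.par 488 546), (109, Src.par 489 546), (218, Src.par 494 546), (386, Src.par 496 545), (188, Src.par 496 546), (325, Src.par 497 546), (415, Src.par 499 545), (211, Src.par 499 546), (18, Src.par 500 545), (120, Src.par 502 546), (301, Src.par 503 545), (77, Src.par 505 545), (517, Src.par 507 546), (82, Src.par 509 546), (249, Src.par 510 545), (240, Src.par 514 546), (459, Src.par 515 546), (194, Src.par 516 546), (294, Src.par 518 546), (553, Src.par 519 546), (454, Src.par 520 545), (94, Src.par 520 546), (555, Src.par 521 546), (273, Src.par 523 546), (23, Src.par 524 545), (498, Src.par 525 545), (146, Src.par 527 545), (584, Src.par 528 546), (88, Src.par 530 545), (89, Src.par 531 546), (365, Src.par 532 546), (42, Src.par 533 546), (420, Src.par 538 546), (433, Src.par 543 545), (214, Src.par 548 546), (283, Src.par 551 545), (262, Src.par 553 546), (307, Src.par 555 546), (183, Src.par 557 546), (38, Src.par 559 546), (90, Src.par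 563 545), (568, Src.par 564 546), (83, Src.par 565 546), (417, Src.par 578 546), (439, Src.par 581 545), (436, Src.par 583 546), (136, Src.par 585 546), (97, Src.par 587 546), (105, Src.par 589 546), (70, Src.par 593 545), (338, Src.par 594 546), (177, Src.par 595 546), (6, Src.par 608 545), (335, Src.par 612 546), (286, Src.par 621 546)]]

/-- coverings -/
def covL : List (List (ℕ × Src)) :=
  [covL0, covL1, covL2, covL3, covL4, covL5, covL6].flatten

end Cfsg.Agent.Spor.CoThreeCent
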