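import Cfsg.Agent.Lib.Spor.CoThreeCent.Cover
import Cfsg.Agent.Lib.Spor.CoThreeCent.Classes
import Cfsg.Agent.Lib.Char.ZStar

/-!
A group with an involution whose centralizer is the double cover: the involution is fused to the first class of
involutions of the centralizer and never to the second.
-/

set_option autoImplicit false
set_option maxRecDepth 100000
set_option maxHeartbeats 1000000
set_option linter.style.haveILetI false

namespace Cfsg.Agent.Spor.CoThreeCent

attribute [local irreducible] mu pack cert idC tC sigC xL uC vC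

/-- a group with the centralizer of an involution identified -/
structure Emb (G : Type*) [Group G] where
  φ : MA →* G
  inj : Function.Injective φ
  range : φ.range = Subgroup.centralizer ({φ tA} : Set G)

theorem exists_emb {G : Type*} [Group G] [Finite G] (t : G) (ht : orderOf t = 2)
    (hcov : Cfsg.IsNonsplitDoubleCover (Subgroup.centralizer ({t} : Set G)) Sp6) : ∃ E : Emb G, E.φ tA = t := by
  set C := Subgroup.centralizer ({t} : Set G)
  obtain ⟨e0⟩ := cover_iso hcov
  let e : MA ≃* ↥C := e0.symm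
  have htC : (⟨t, Subgroup.mem_centralizer_singleton_iff.2 rfl⟩ : ↥C) ∈ Subgroup.center ↥C :=
    Subgroup.mem_center_iff.2 fun g => Subtype.ext (Subgroup.mem_centralizer_singleton_iff.1 g.2)
  have hc : e.symm ⟨t, Subgroup.mem_centralizer_singleton_iff.2 rfl⟩ = tA := by
    refine (central_cases fun b => ?_).resolve_left fun h => ?_
    · obtain ⟨x, rfl⟩ := e.symm.surjective b
      rw [← map_mul, ← map_mul, Subgroup.mem_center_iff.1 htC x]
    · rw [MulEquiv.map_eq_one_iff] at h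
      have h' : t = 1 := congrArg Subtype.val h
      rw [h', orderOf_one] at ht
      omega
  have he : ((e tA : ↥C) : G) = t := by rw [← hc, e.apply_symm_apply]
  refine ⟨⟨C.subtype.comp e.toMonoidHom, C.subtype_injective.comp e.injective, ?_⟩, he⟩
  rw [show (C.subtype.comp e.toMonoidHom) tA = t from he, MonoidHom.range_comp,
    MonoidHom.range_eq_top.2 e.surjective, ← MonoidHom.range_eq_map, Subgroup.range_subtype]

namespace Emb

variable {G : Type*} [Group G] (E : Emb G)

/-- the involution -/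
noncomputable def t : G := E.φ tA

theorem t_sq : E.t * E.t = 1 := by rw [t, ← map_mul, tA_sq, map_one]

theorem t_ne : E.t ≠ 1 := fun h => tA_ne (E.inj (h.trans (map_one _).symm))

theorem mem_range {g : G} (h : Commute g E.t) : ∃ a, E.φ a = g := by
  have : g ∈ E.φ.range := E.range ▸ Subgroup.mem_centralizer_singleton_iff.2 h.eq
  exact this

theorem comm_t (a : MA) : Commute (E.φ a) E.t := by
  show E.φ a * E.φ tA = E.φ tA * E.φ a
  rw [← map_mul, ← map_mul, tA_comm]

/-- a root of the central involution commuting with an involution -/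
theorem exists_root {w : MA} (hw : IsConj uA w ∨ IsConj vA w) : ∃ z : MA, Commute z w ∧ z * z = tA := by
  obtain ⟨r1, r2, r3, r4⟩ := root_facts
  suffices h : ∀ (rep z : MA), RA.cd z = RA.cd z → Commute z rep → z * z = tA → IsConj rep w →
      ∃ z : MA, Commute z w ∧ z * z = tA by
    rcases hw with hw | hw
    · refine h uA (RA.wel (rootW.getD 0 [])) rfl (eqA ?_) (eqA ?_) hw
      · rw [cd_mulA, cd_mulA, cd_uA, RA.cd_wel, r2]
      · rw [cd_mulA, RA.cd_wel, cd_tA, r1]
    · refine h vA (RA.wel (rootW.getD 1 [])) rfl (eqA ?_) (eqA ?_) hw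
      · rw [cd_mulA, cd_mulA, cd_vA, RA.cd_wel, r4]
      · rw [cd_mulA, RA.cd_wel, cd_tA, r3]
  intro rep z _ hc hz hr
  obtain ⟨c, hc'⟩ := isConj_iff.1 hr
  refine ⟨c * z * c⁻¹, ?_, ?_⟩
  · show c * z * c⁻¹ * w = w * (c * z * c⁻¹)
    rw [← hc', show c * z * c⁻¹ * (c * rep * c⁻¹) = c * (z * rep) * c⁻¹ by group, hc.eq]
    group
  · rw [show c * z * c⁻¹ * (c * z * c⁻¹) = c * (z * z) * c⁻¹ by group, hz, tA_comm c, mul_assoc, mul_inv_cancel, mul_one]

/-- the involution is not fused to the second class -/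
theorem not_v (g : G) {v' : MA} (hv : IsConj vA v') : g * E.t * g⁻¹ ≠ E.φ v' := by
  intro hg
  have hv2 : v' * v' = 1 ∧ v' ≠ tA := by
    obtain ⟨c, rfl⟩ := isConj_iff.1 hv
    refine ⟨by rw [show c * vA * c⁻¹ * (c * vA * c⁻¹) = c * (vA * vA) * c⁻¹ by group, vA_sq, mul_one, mul_inv_cancel],
      fun h => vA_ne.2 ?_⟩
    rw [show vA = c⁻¹ * (c * vA * c⁻¹) * c by group, h, tA_comm c⁻¹, mul_assoc, inv_mul_cancel, mul_one]
  have hcomm : Commute (g⁻¹ * E.t * g) E.t := by
    have h : Commute (g * E.t * g⁻¹) E.t := hg ▸ E.comm_t v'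
    show g⁻¹ * E.t * g * E.t = E.t * (g⁻¹ * E.t * g)
    calc g⁻¹ * E.t * g * E.t = g⁻¹ * (E.t * (g * E.t * g⁻¹)) * g := by group
      _ = g⁻¹ * (g * E.t * g⁻¹ * E.t) * g := by rw [h.eq]
      _ = E.t * (g⁻¹ * E.t * g) := by group
  obtain ⟨w, hw⟩ := E.mem_range hcomm
  have ww : w * w = 1 := E.inj (by
    rw [map_mul, map_one, hw, show g⁻¹ * E.t * g * (g⁻¹ * E.t * g) = g⁻¹ * (E.t * E.t) * g by group, E.t_sq]
    group)
  rcases invol_cases ww with rfl | rfl | hw'
  · rw [map_one] at hw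
    exact E.t_ne (by rw [show E.t = g * (g⁻¹ * E.t * g) * g⁻¹ by group, ← hw]; group)
  · refine hv2.2 (E.inj ?_)
    have hw2 : g⁻¹ * E.t * g = E.t := hw.symm
    show E.φ v' = E.t
    rw [← hg, show g * E.t * g⁻¹ = g * (g⁻¹ * E.t * g) * g⁻¹ by rw [hw2]]
    group
  · obtain ⟨z, hz, hzz⟩ := exists_root hw'
    have hzt : g * E.φ z * g⁻¹ * E.t = E.t * (g * E.φ z * g⁻¹) := by
      have e : E.t = g * E.φ w * g⁻¹ := by rw [hw]; group
      calc g * E.φ z * g⁻¹ * E.t = g * (E.φ z * E.φ w) * g⁻¹ := by rw [e]; group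
        _ = g * (E.φ w * E.φ z) * g⁻¹ := by rw [← map_mul, hz.eq, map_mul]
        _ = E.t * (g * E.φ z * g⁻¹) := by rw [e]; group
    obtain ⟨y, hy⟩ := E.mem_range hzt
    refine not_square hv (y := y) (E.inj ?_)
    rw [map_mul, hy, ← hg, show g * E.φ z * g⁻¹ * (g * E.φ z * g⁻¹) = g * (E.φ z * E.φ z) * g⁻¹ by group, ← map_mul, hzz]
    rfl

/-- conjugates of the involution in its centralizer -/
theorem conj_cases (g : G) (hg : Commute (g * E.t * g⁻¹) E.t) :
    g * E.t * g⁻¹ = E.t ∨ ∃ a, IsConj uA a ∧ E.φ a = g * E.t * g⁻¹ := by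
  obtain ⟨a, ha⟩ := E.mem_range hg
  have aa : a * a = 1 := E.inj (by
    rw [map_mul, map_one, ha, show g * E.t * g⁻¹ * (g * E.t * g⁻¹) = g * (E.t * E.t) * g⁻¹ by group, E.t_sq]
    group)
  rcases invol_cases aa with rfl | rfl | h | h
  · rw [map_one] at ha
    exact absurd (conj_eq_one_iff.1 ha.symm) E.t_ne
  · exact Or.inl ha.symm
  · exact Or.inr ⟨a, h, ha⟩
  · exact absurd ha.symm (E.not_v g h)

/-- the involution is fused to the first class -/
theorem fused [Finite G] (hO : Cfsg.oddCore G = ⊥) (hZ : Subgroup.center G = ⊥) :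
    ∃ g : G, g * E.t * g⁻¹ = E.φ uA := by
  by_cases h : ∃ g : G, Commute E.t (g * E.t * g⁻¹) ∧ g * E.t * g⁻¹ ≠ E.t
  · obtain ⟨g, hg, hne⟩ := h
    obtain ⟨a, ha, hag⟩ := (E.conj_cases g hg.symm).resolve_left hne
    obtain ⟨c, hc⟩ := isConj_iff.1 ha
    refine ⟨(E.φ c)⁻¹ * g, ?_⟩
    calc (E.φ c)⁻¹ * g * E.t * ((E.φ c)⁻¹ * g)⁻¹ = (E.φ c)⁻¹ * (g * E.t * g⁻¹) * E.φ c := by group
      _ = E.φ uA := by rw [← hag, ← hc, map_mul, map_mul, map_inv]; group
  · exfalso
    push Not at h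
    have ht : orderOf E.t = 2 := orderOf_eq_prime (by rw [pow_two, E.t_sq]) E.t_ne
    have hz := Char.zStar_isolated (z := E.t) ⟨ht, h⟩
    have htc : E.t ∈ Subgroup.center G := Subgroup.mem_center_iff.2 fun g => by
      have hm := hz g
      rw [hO, Subgroup.mem_bot] at hm
      exact (mul_inv_eq_iff_eq_mul.1 (mul_inv_eq_one.1 hm)).symm
    rw [hZ, Subgroup.mem_bot] at htc
    exact E.t_ne htc

end Emb

end Cfsg.Agent.Spor.CoThreeCent
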