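import Cfsg.Agent.Lib.Spor.CoThreeCent.Common

/-!
The copy of the Conway group is the whole group.
-/

set_option autoImplicit false
set_option maxRecDepth 100000
set_option maxHeartbeats 1000000
set_option linter.style.haveILetI false

namespace Cfsg.Agent.Spor.CoThreeCent

open DCoset
open Lie.ConwayThreeOut (CG)

attribute [local irreducible] mu pack cert idC tC sigC xL uC vC vv dhL dh aC aIdx tauIdx wIdx conjI allBW

namespace Emb

variable {G : Type*} [Group G] {E : Emb G} (K : E.Copy)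

include K in
/-- the centralizer of the second class lies in the copy -/
theorem Copy.cent_v [Finite G] {c : G} (hc : Commute c (E.φ vA)) : c ∈ K.X := by
  obtain ⟨-, -, -, -, -, -, hBa, hBab, -, -, -, -, -, hBtv⟩ := a_ok
  have bb : E.φ vA * E.φ vA = 1 := by rw [← map_mul, vA_sq, map_one]
  have conjB : ∀ (g : G) (z : MA), isB (RA.cd z) = true → IsConj (E.φ vA) (g * E.φ z * g⁻¹) := fun g z h =>
    (isB_G h).trans (isConj_iff.2 ⟨g, rfl⟩)
  have key : ∀ c : G, Commute c (E.φ vA) → c * E.φ aA * c⁻¹ ∈ K.X := by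
    intro c hc
    have hab : E.φ aA * E.φ vA = E.φ vA * E.φ aA := by rw [← map_mul, aA_vA.eq, map_mul]
    set x := c * E.φ aA * c⁻¹ with hx
    have xb : Commute x (E.φ vA) := (hc.mul_left hab).mul_left hc.inv_left
    have hxB : IsConj (E.φ vA) x := conjB c aA (by rw [cd_aA]; exact hBa)
    have xx : x * x = 1 := by
      rw [hx, show c * E.φ aA * c⁻¹ * (c * E.φ aA * c⁻¹) = c * (E.φ aA * E.φ aA) * c⁻¹ by group, ← map_mul, aA_sq,
        map_one, mul_one, mul_inv_cancel]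
    obtain ⟨z, zz, z1, zt, zx, hconj, hcent⟩ := dihedral_middle xx E.t_sq fun h => not_AB h hxB
    have zb : Commute z (E.φ vA) := hcent _ xb (E.comm_t vA).symm
    have zne : z ≠ E.φ vA := by
      rintro rfl
      rcases hconj with h | h
      · refine not_AB h ?_
        show IsConj (E.φ vA) (E.φ tA * E.φ vA)
        rw [← map_mul]
        exact isB_G (by rw [cd_mulA, cd_tA, cd_vA]; exact hBtv)
      · refine not_AB h ?_
        rw [show x * E.φ vA = c * E.φ (aA * vA) * c⁻¹ by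
          rw [hx, map_mul, mul_assoc _ c⁻¹, hc.inv_left.eq]; group]
        exact conjB c _ (by rw [cd_mulA, cd_aA, cd_vA]; exact hBab)
    obtain ⟨k', rfl⟩ := E.mem_range zt
    have kb : Commute k' vA := E.inj (by rw [map_mul, map_mul]; exact zb.eq)
    have kk : k' * k' = 1 := E.inj (by rw [map_mul, map_one, zz])
    obtain ⟨k, hk, rfl⟩ := cent_list kb
    have h := List.all_eq_true.1 allB_all k (List.mem_range.2 hk)
    have e2 : Nat.beq (mu (dh k) (dh k)) idC = true := by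
      rw [Nat.beq_eq, ← cd_dA hk, ← cd_mulA, kk, cd_oneA]
    rw [allBRow, e2, cond_true] at h
    simp only [Bool.or_eq_true, Nat.beq_eq, List.any_eq_true, Bool.and_eq_true, Nat.blt_eq] at h
    rcases h with (((h | h) | h) | h) | ⟨r, -, ⟨-, hj⟩, hr⟩
    · exfalso
      rw [eqA (show RA.cd (dA k) = RA.cd 1 by rw [cd_dA hk, h, cd_oneA]), map_one] at z1
      exact z1 rfl
    · exfalso
      exact zne (congrArg E.φ (eqA (show RA.cd (dA k) = RA.cd vA by rw [cd_dA hk, h, cd_vA])))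
    · exact K.cent_A (K.phi_mem _) (K.isA_G (by rw [cd_dA hk]; exact h)) zx.symm
    · refine K.cent_A (K.phi_mem (dA k * vA)) (K.isA_G (by rw [cd_mulA, cd_dA hk, cd_vA]; exact h)) ?_
      rw [map_mul]
      exact zx.symm.mul_right xb
    · set d := E.φ (dA r.2.1) with hd
      have db : Commute d (E.φ vA) := by
        show _ * _ = _ * _
        rw [hd, ← map_mul, ← map_mul, (dA_comm hj).eq]
      have hyb : Commute (d⁻¹ * x * d) (E.φ vA) := (db.inv_left.mul_left xb).mul_left db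
      have conjy : ∀ a : MA, dA r.2.1 * a = dA k * dA r.2.1 → Commute (d⁻¹ * x * d) (E.φ a) := by
        intro a ha
        have e : E.φ a = d⁻¹ * E.φ (dA k) * d := by
          rw [mul_assoc, hd, ← map_mul, ← ha, map_mul, inv_mul_cancel_left]
        rw [e]
        show d⁻¹ * x * d * (d⁻¹ * E.φ (dA k) * d) = d⁻¹ * E.φ (dA k) * d * (d⁻¹ * x * d)
        calc d⁻¹ * x * d * (d⁻¹ * E.φ (dA k) * d) = d⁻¹ * (x * E.φ (dA k)) * d := by group
          _ = d⁻¹ * (E.φ (dA k) * x) * d := by rw [zx.eq]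
          _ = _ := by group
      have hya : Commute (d⁻¹ * x * d) (E.φ aA) := by
        by_cases h0 : r.2.2 = 0
        · rw [h0, show Nat.beq 0 0 = true from rfl, cond_true] at hr
          exact conjy aA (eqA (by rw [cd_mulA, cd_mulA, cd_dA hj, cd_dA hk, cd_aA]; exact hr))
        · rw [show Nat.beq r.2.2 0 = false from Bool.eq_false_iff.2 fun e => h0 (Nat.eq_of_beq_eq_true e), cond_false] at hr
          have := (conjy (aA * vA) (eqA (by
            rw [cd_mulA, cd_mulA, cd_mulA, cd_dA hj, cd_dA hk, cd_aA, cd_vA]; exact hr))).mul_right hyb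
          rwa [← map_mul, mul_assoc aA, vA_sq, mul_one] at this
      have := mul_mem (mul_mem (K.phi_mem (dA r.2.1)) (K.common_le hya hyb)) (inv_mem (K.phi_mem (dA r.2.1)))
      rwa [← hd, show d * (d⁻¹ * x * d) * d⁻¹ = x by group] at this
  obtain ⟨clen, hlt, e0, e1⟩ := conjw_ok
  have hl : ∀ i < 3, conjI.getD i 0 < 384 := fun i hi => by
    have h := List.all_eq_true.1 hlt (conjI.getD i 0) (by
      rw [List.getD_eq_getElem _ _ (clen.symm ▸ hi)]; exact List.getElem_mem _)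
    rwa [Nat.blt_eq] at h
  set h0 := dA (conjI.getD 0 0) with h0d
  set h1 := dA (conjI.getD 1 0) with h1d
  set c0 := dA (conjI.getD 2 0) with c0d
  have f0 : c0 = h0 * aA * h0⁻¹ := (mul_inv_eq_iff_eq_mul.2 (eqA (by
    rw [cd_mulA, cd_mulA, h0d, c0d, cd_dA (hl 0 (by decide)), cd_dA (hl 2 (by decide)), cd_aA]; exact e0.symm))).symm
  have f1 : c0 * tA = h1 * aA * h1⁻¹ := (mul_inv_eq_iff_eq_mul.2 (eqA (by
    rw [cd_mulA, cd_mulA, cd_mulA, h1d, c0d, cd_dA (hl 1 (by decide)), cd_dA (hl 2 (by decide)), cd_aA, cd_tA]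
    exact e1.symm))).symm
  have cc : c0 * c0 = 1 := by
    rw [f0, show h0 * aA * h0⁻¹ * (h0 * aA * h0⁻¹) = h0 * (aA * aA) * h0⁻¹ by group, aA_sq]; group
  have ht : tA = (h0 * aA * h0⁻¹) * (h1 * aA * h1⁻¹) := by rw [← f0, ← f1, ← mul_assoc, cc, one_mul]
  have hh : ∀ i < 384, Commute (c * E.φ (dA i)) (E.φ vA) := fun i hi => hc.mul_left (by
    show _ * _ = _ * _
    rw [← map_mul, ← map_mul, (dA_comm hi).eq])
  refine K.conj_t_mem ?_
  have := mul_mem (key _ (hh _ (hl 0 (by decide)))) (key _ (hh _ (hl 1 (by decide))))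
  rw [← h0d, ← h1d] at this
  convert this using 1
  show c * E.φ tA * c⁻¹ = _
  rw [ht, map_mul, map_mul, map_mul, map_mul, map_mul, map_inv, map_inv]
  group

include K in
/-- the copy is everything -/
theorem Copy.eq_top [Finite G] : K.X = ⊤ := by
  refine top_le_iff.1 fun g _ => ?_
  set x := g * E.φ vA * g⁻¹ with hx
  have hxB : IsConj (E.φ vA) x := isConj_iff.2 ⟨g, rfl⟩
  have bb : E.φ vA * E.φ vA = 1 := by rw [← map_mul, vA_sq, map_one]
  have xx : x * x = 1 := by
    rw [hx, show g * E.φ vA * g⁻¹ * (g * E.φ vA * g⁻¹) = g * (E.φ vA * E.φ vA) * g⁻¹ by group, bb, mul_one,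
      mul_inv_cancel]
  have x1 : x ≠ 1 := fun h => vA_ne.1 (E.inj (by rw [map_one]; exact conj_eq_one_iff.1 h))
  have centB : ∀ {k y : G}, k ∈ K.X → Commute y (k * E.φ vA * k⁻¹) → y ∈ K.X := fun {k y} hk hy => by
    have : Commute (k⁻¹ * y * k) (E.φ vA) := by
      show k⁻¹ * y * k * E.φ vA = E.φ vA * (k⁻¹ * y * k)
      calc k⁻¹ * y * k * E.φ vA = k⁻¹ * (y * (k * E.φ vA * k⁻¹)) * k := by group
        _ = k⁻¹ * (k * E.φ vA * k⁻¹ * y) * k := by rw [hy.eq]
        _ = _ := by group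
    have := mul_mem (mul_mem hk (K.cent_v this)) (inv_mem hk)
    rwa [show k * (k⁻¹ * y * k) * k⁻¹ = y by group] at this
  obtain ⟨z, zz, z1, zt, zx, -, -⟩ := dihedral_middle xx E.t_sq fun h => not_AB h hxB
  have zX := K.cent_t zt
  have xX : x ∈ K.X := by
    rcases K.classes zX zz z1 with ⟨k, hk, e⟩ | ⟨k, hk, e⟩
    · exact K.cent_A zX (isConj_iff.2 ⟨k, e⟩) zx.symm
    · exact centB hk (e ▸ zx.symm)
  rcases K.classes xX xx x1 with ⟨k, hk, e⟩ | ⟨k, hk, e⟩
  · exact (not_AB (isConj_iff.2 ⟨k, e⟩) hxB).elim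
  · have hc : Commute (k⁻¹ * g) (E.φ vA) := by
      show k⁻¹ * g * E.φ vA = E.φ vA * (k⁻¹ * g)
      calc k⁻¹ * g * E.φ vA = k⁻¹ * (g * E.φ vA * g⁻¹) * g := by group
        _ = k⁻¹ * (k * E.φ vA * k⁻¹) * g := by rw [← hx, e]
        _ = _ := by group
    rw [show g = k * (k⁻¹ * g) by group]
    exact mul_mem hk (K.cent_v hc)

end Emb

/-- the group is the third Conway group -/
theorem iso_co3 {G : Type*} [Group G] [Finite G] (hO : Cfsg.oddCore G = ⊥) (hZ : Subgroup.center G = ⊥) (t : G)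
    (ht : orderOf t = 2) (hC : Cfsg.IsNonsplitDoubleCover (Subgroup.centralizer ({t} : Set G)) Sp6) :
    Nonempty (G ≃* ↥Cfsg.Spor.Co3) := by
  obtain ⟨E, -⟩ := exists_emb t ht hC
  obtain ⟨g0, hg⟩ := E.fused hO hZ
  obtain ⟨D⟩ := E.exists_sig hg
  obtain ⟨ι, inj, hA, -⟩ := E.exists_iota D
  let K : E.Copy := ⟨ι, inj, hA⟩
  have hsurj : Function.Surjective ι := fun g => by
    have h : g ∈ K.X := K.eq_top ▸ Subgroup.mem_top g
    exact h
  obtain ⟨e⟩ := Lie.ConwayThreeOut.co3_iso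
  exact ⟨(MulEquiv.ofBijective ι ⟨inj, hsurj⟩).symm.trans e.symm⟩

end Cfsg.Agent.Spor.CoThreeCent
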