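import Cfsg.Agent.Lib.Spor.CoThreeCent.SecondChecks

/-!
Kernel checks for the subgroup of index two in the common centralizer modulo the four-group.
-/

set_option autoImplicit false
set_option maxRecDepth 100000
set_option maxHeartbeats 0
set_option Elab.async false

namespace Cfsg.Agent.Spor.CoThreeCent

open DCoset

/-- an element of the list of sixty cosets -/
def hv (n : ℕ) : ℕ := hVals.getD n 0

/-- an element of the four-group -/
def inV4 (x : ℕ) : Bool := (List.range 4).any fun v => Nat.beq x (v4C v)

/-- representative -/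
def hr (i : ℕ) : ℕ := hv (4 * i)

theorem hgen_ok : hgL.length = 3 ∧ hgL.getD 0 0 = tC ∧
    ((List.range 2).all fun j => Nat.beq (mu (hgL.getD (j + 1) 0) (coVal (coRoots.getD j 0)))
      (mu (coVal (coRoots.getD j 0)) tC)) = true := by decide +kernel

theorem hv_ok : hVals.length = 240 ∧ ((List.range 240).all fun n =>
    Nat.beq (mu (hr (n / 4)) (v4C (n % 4))) (hv n)) = true ∧ hr 0 = idC := by decide +kernel

theorem hv_nodup : nodupB hVals = true := by decide +kernel

theorem h_tree : hTree.length = 60 ∧ ((List.range 59).all fun i =>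
    Nat.blt (hTree.getD (i + 1) (0, 0)).1 (i + 1) && Nat.blt (hTree.getD (i + 1) (0, 0)).2 3 &&
      Nat.beq (mu (hr (hTree.getD (i + 1) (0, 0)).1) (hgL.getD (hTree.getD (i + 1) (0, 0)).2 0)) (hr (i + 1))) = true := by
  decide +kernel

theorem h_step : ((List.range 60).all fun i => (List.range 3).all fun k =>
    Nat.blt ((hStep.getD i []).getD k 240) 240 &&
      Nat.beq (mu (hr i) (hgL.getD k 0)) (hv ((hStep.getD i []).getD k 240))) = true := by decide +kernel

/-- an involution of the quotient is conjugate to the base one -/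
def hInvRow (i : ℕ) : Bool :=
  bif inV4 (mu (hr i) (hr i)) then Nat.beq i 0 || hWit.any (fun r => Nat.beq r.1 i && Nat.blt r.2.1 60 &&
    Nat.beq (r.2.2 / 4) i && Nat.blt r.2.2 240 && Nat.beq (mu (hr r.2.1) tC) (mu (hv r.2.2) (hr r.2.1)))
  else true

theorem h_inv : ((List.range 60).all hInvRow) = true := by decide +kernel

/-- an element commuting with both lies in the sixty cosets up to the outer involution -/
def ceRow (k : ℕ) : Bool :=
  bif Nat.beq (mu (dh k) aC) (mu aC (dh k)) then
    ceSplit.any fun r => Nat.beq r.1 k && Nat.blt r.2.2 240 &&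
      (bif Nat.beq r.2.1 0 then Nat.beq (dh k) (hv r.2.2) else Nat.beq (mu (dh tauIdx) (dh k)) (hv r.2.2))
  else true

theorem ce_all : ((List.range 384).all ceRow) = true := by decide +kernel

theorem orders_ok : ((List.range 60).all fun i =>
    (Nat.beq i 0 || oFive.elem i || !inV4 (mu (mu (mu (mu (hr i) (hr i)) (hr i)) (hr i)) (hr i))) &&
    (Nat.beq i 0 || oThree.elem i || !inV4 (mu (mu (hr i) (hr i)) (hr i)))) = true := by decide +kernel

theorem pair_ok : (oFive.all fun i => oThree.all fun j =>
    inV4 (mu (mu (hr i) (hr j)) (mu (hr i) (hr j))) ||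
    inV4 (mu (mu (mu (hr i) (hr i)) (hr j)) (mu (mu (hr i) (hr i)) (hr j))) ||
    inV4 (mu (mu (hr i) (mu (hr j) (hr j))) (mu (hr i) (mu (hr j) (hr j)))) ||
    inV4 (mu (mu (mu (hr i) (hr i)) (mu (hr j) (hr j))) (mu (mu (hr i) (hr i)) (mu (hr j) (hr j))))) = true := by
  decide +kernel

end Cfsg.Agent.Spor.CoThreeCent
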