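import Cfsg.Agent.Lib.Spor.CoThreeCent.FiveChecks

/-!
Kernel checks for the Sylow two-subgroup of the common centralizer modulo the four-group.
-/

set_option autoImplicit false
set_option maxRecDepth 100000
set_option maxHeartbeats 0
set_option Elab.async false

namespace Cfsg.Agent.Spor.CoThreeCent

open DCoset

/-- square of a code -/
def sqC (x : ℕ) : ℕ := mu x x

/-- power of the element of order four -/
def wP (i : ℕ) : ℕ := match i with
  | 0 => idC
  | 1 => dh wIdx
  | 2 => mu (dh wIdx) (dh wIdx)
  | _ => mu (mu (dh wIdx) (dh wIdx)) (dh wIdx)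

/-- equal modulo the four-group -/
def eqV (x y : ℕ) : Bool := (List.range 4).any fun v => Nat.beq x (mu y (v4C v))

/-- the structure of the common centralizer -/
def syRow (k : ℕ) : Bool :=
  bif Nat.beq (mu (dh k) aC) (mu aC (dh k)) then
    Nat.beq (sqC (sqC (sqC (dh k)))) idC &&
    ((List.range 4).any fun i => eqV (dh k) (wP i) || eqV (dh k) (mu (dh tauIdx) (wP i))) &&
    (bif eqV (mu (dh k) (dh wIdx)) (mu (dh wIdx) (dh k)) && eqV (mu (dh k) (dh tauIdx)) (mu (dh tauIdx) (dh k))
      then eqV (dh k) idC || eqV (dh k) tC else true)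
  else true

theorem sy_all : ((List.range 384).all syRow) = true := by decide +kernel

theorem wt_ok : eqV (sqC (wP 2)) idC = true ∧ eqV (wP 2) tC = true ∧
    ((List.range 4).all fun i => !eqV (dh tauIdx) (wP i)) = true ∧
    eqV tC idC = false ∧ eqV (sqC (wP 1)) idC = false ∧ eqV (sqC (wP 3)) idC = false ∧
    ((List.range 4).all fun v => Nat.beq (mu (v4C v) tC) (mu tC (v4C v))) = true := by decide +kernel

theorem hwit_ok : hWit.length = 15 ∧ (hWit.map fun r => r.1).Nodup ∧
    (hWit.all fun r => Nat.blt r.1 60 && !Nat.beq r.1 0 && inV4 (sqC (hr r.1))) = true ∧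
    (oFive.all fun i => Nat.blt i 60) = true ∧ (oThree.all fun i => Nat.blt i 60) = true := by decide +kernel

/-- powers of a code -/
def pwC (c k : ℕ) : ℕ := Nat.rec (motive := fun _ => ℕ) idC (fun _ r => mu r c) k

theorem hgen_eq : ((List.range 2).all fun j =>
    Nat.beq (pwC (coVal (coRoots.getD j 0)) 12) idC &&
      Nat.beq (mu (mu (coVal (coRoots.getD j 0)) tC) (pwC (coVal (coRoots.getD j 0)) 11)) (hgL.getD (j + 1) 0)) = true := by
  decide +kernel

end Cfsg.Agent.Spor.CoThreeCent
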