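import Cfsg.Agent.Lib.Spor.CoThreeCent.Outside
import Cfsg.Agent.Lib.Spor.CoThreeCent.FiveChecksB

/-!
The four-group in the centralizer of the second class and the pieces of its centralizer.
-/

set_option autoImplicit false
set_option maxRecDepth 100000
set_option maxHeartbeats 1000000
set_option linter.style.haveILetI false

namespace Cfsg.Agent.Spor.CoThreeCent

open DCoset
open Lie.ConwayThreeOut (CG)

attribute [local irreducible] mu pack cert idC tC sigC xL uC vC vv dhL dh aC aIdx tauIdx wIdx hVals hgL hv hr coVal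

/-- the partner -/
noncomputable def aA : MA := dA aIdx

/-- the outer involution -/
noncomputable def tauA : MA := dA tauIdx

/-- the element of order four -/
noncomputable def wA : MA := dA wIdx

theorem cd_aA : RA.cd aA = aC := by rw [aA, cd_dA a_ok.1, aC]

theorem cd_tauA : RA.cd tauA = dh tauIdx := by rw [tauA, cd_dA a_ok.2.1]

theorem cd_wA : RA.cd wA = dh wIdx := by rw [wA, cd_dA a_ok.2.2.1]

theorem aA_vA : Commute aA vA := dA_comm a_ok.1

theorem cm_iff {z : MA} {x : ℕ} (hz : RA.cd z = x) : mu x aC = mu aC x ↔ Commute z aA := by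
  rw [← hz, ← cd_aA, ← cd_mulA, ← cd_mulA]
  exact ⟨fun h => eqA h, fun h => congrArg RA.cd h.eq⟩

theorem aA_sq : aA * aA = 1 := eqA (by
  have h := a_ok.2.2.2.2.2.2.1
  simp only [isB, Bool.and_eq_true, Nat.beq_eq] at h
  rw [cd_mulA, cd_aA, h.1.1.1, cd_oneA])

/-- the four elements -/
noncomputable def vE (v : ℕ) : MA := [1, aA, vA, aA * vA].getD v 1

theorem cd_vE {v : ℕ} (hv : v < 4) : RA.cd (vE v) = v4C v := by
  interval_cases v <;> simp [vE, v4C, cd_oneA, cd_aA, cd_vA, cd_mulA]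

theorem vE_mul {v w : ℕ} (hv : v < 4) (hw : w < 4) : ∃ r < 4, vE v * vE w = vE r := by
  have ab := aA_vA.eq
  interval_cases v <;> interval_cases w <;> simp only [vE, List.getD_cons_zero, List.getD_cons_succ, one_mul, mul_one]
  exacts [⟨0, by decide, rfl⟩, ⟨1, by decide, rfl⟩, ⟨2, by decide, rfl⟩, ⟨3, by decide, rfl⟩,
    ⟨1, by decide, rfl⟩, ⟨0, by decide, aA_sq⟩, ⟨3, by decide, rfl⟩, ⟨2, by decide, by rw [← mul_assoc, aA_sq, one_mul]; rfl⟩,
    ⟨2, by decide, rfl⟩, ⟨3, by decide, ab.symm⟩, ⟨0, by decide, vA_sq⟩,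
    ⟨1, by decide, by rw [ab, ← mul_assoc, vA_sq, one_mul]; rfl⟩,
    ⟨3, by decide, rfl⟩, ⟨2, by decide, by rw [ab, mul_assoc, aA_sq, mul_one]; rfl⟩,
    ⟨1, by decide, by rw [mul_assoc, vA_sq, mul_one]; rfl⟩,
    ⟨0, by decide, by rw [show aA * vA * (aA * vA) = aA * (vA * aA) * vA by group, ← ab, ← mul_assoc, aA_sq, one_mul, vA_sq]; rfl⟩]

theorem vE_inv {v : ℕ} (hv : v < 4) : (vE v)⁻¹ = vE v := by
  refine inv_eq_of_mul_eq_one_right ?_
  have ab := aA_vA.eq
  interval_cases v <;> simp only [vE, List.getD_cons_zero, List.getD_cons_succ, one_mul]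
  · exact aA_sq
  · exact vA_sq
  · rw [show aA * vA * (aA * vA) = aA * (vA * aA) * vA by group, ← ab, ← mul_assoc, aA_sq, one_mul, vA_sq]

theorem eqV_iff {z y : MA} {x x' : ℕ} (hz : RA.cd z = x) (hy : RA.cd y = x') :
    eqV x x' = true ↔ ∃ v < 4, z = y * vE v := by
  simp only [eqV, List.any_eq_true, List.mem_range, Nat.beq_eq]
  constructor
  · rintro ⟨v, hv, e⟩
    exact ⟨v, hv, eqA (by rw [cd_mulA, hz, hy, cd_vE hv, e])⟩
  · rintro ⟨v, hv, rfl⟩
    exact ⟨v, hv, by rw [← hz, cd_mulA, hy, cd_vE hv]⟩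

theorem inV4_iff {z : CG} {x : ℕ} (hz : cdG z = x) : inV4 x = true ↔ ∃ v < 4, z = (vE v : CG) := by
  simp only [inV4, List.any_eq_true, List.mem_range, Nat.beq_eq]
  constructor
  · rintro ⟨v, hv, e⟩
    exact ⟨v, hv, cdG_inj (by rw [hz, e, ← cd_vE hv]; rfl)⟩
  · rintro ⟨v, hv, rfl⟩
    exact ⟨v, hv, by rw [← hz, ← cd_vE hv]; rfl⟩

/-- the generating involutions in the Conway group with conjugators -/
theorem hg_exists {j : ℕ} (hj : j < 3) : ∃ g : CG, cdG g = hgL.getD j 0 ∧ Commute g (aA : CG) ∧ Commute g (vA : CG) ∧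
    ∃ c : CG, Commute c (aA : CG) ∧ Commute c (vA : CG) ∧ g = c * (tA : CG) * c⁻¹ := by
  obtain ⟨-, h0, -⟩ := hgen_ok
  obtain ⟨-, -, -, -, hat, hvt, -⟩ := a_ok
  have ta : Commute (tA : CG) (aA : CG) := congrArg Subtype.val (tA_comm aA).symm
  have tb : Commute (tA : CG) (vA : CG) := congrArg Subtype.val (tA_comm vA).symm
  rcases Nat.eq_zero_or_pos j with rfl | hpos
  · refine ⟨(tA : CG), ?_, ta, tb, 1, Commute.one_left _, Commute.one_left _, by group⟩
    rw [h0]; exact cd_tA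
  · obtain ⟨c, ec, c1, c2⟩ := co_root (j := j - 1) (by omega)
    have ca : Commute c (aA : CG) := cdG_inj (by
      rw [cdG_mul, cdG_mul, show cdG (aA : CG) = aC from cd_aA]; exact c2)
    have cb : Commute c (vA : CG) := cdG_inj (by
      rw [cdG_mul, cdG_mul, show cdG (vA : CG) = vC from cd_vA]; exact c1)
    refine ⟨c * (tA : CG) * c⁻¹, ?_, (ca.mul_left ta).mul_left ca.inv_left, (cb.mul_left tb).mul_left cb.inv_left,
      c, ca, cb, rfl⟩
    have h := List.all_eq_true.1 hgen_eq (j - 1) (List.mem_range.2 (by omega))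
    rw [Bool.and_eq_true, Nat.beq_eq, Nat.beq_eq, show j - 1 + 1 = j by omega, ← ec] at h
    have hp : ∀ k, cdG (c ^ k) = pwC (cdG c) k := by
      intro k
      induction k with
      | zero => rw [pow_zero, cdG_one]; rfl
      | succ k ih => rw [pow_succ, cdG_mul, ih]; rfl
    have h12 : c ^ 12 = 1 := cdG_inj (by rw [hp, h.1, cdG_one])
    have hinv : c⁻¹ = c ^ 11 := inv_eq_of_mul_eq_one_right (by rw [← pow_succ', h12])
    rw [hinv, cdG_mul, cdG_mul, hp, ← h.2]
    congr 2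
    exact cd_tA

end Cfsg.Agent.Spor.CoThreeCent
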