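import Cfsg.Agent.Lib.Spor.CoThreeCent.Data
import Cfsg.Agent.Lib.Spor.CoThreeCent.GenData
import Cfsg.Agent.Lib.Lie.ConwayThreeOut.Data

/-!
Kernel check of the program generating the Conway group.
-/

set_option autoImplicit false
set_option maxRecDepth 100000
set_option maxHeartbeats 0
set_option Elab.async false

namespace Cfsg.Agent.Spor.CoThreeCent

open Lie

/-- value of a node -/
def xyVal (j : ℕ) : ℕ := bif Nat.blt j 7 then (cert.gens ++ [sigC]).getD j 0 else xyVals.getD (Nat.sub j 7) 0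

theorem xy_ok : xyOps.length = 261 ∧ xyVals.length = 261 ∧
    ((List.range 261).all fun i => Nat.blt (xyOps.getD i (0, 0)).1 (i + 7) && Nat.blt (xyOps.getD i (0, 0)).2 (i + 7) &&
      Nat.beq (mu (xyVal (xyOps.getD i (0, 0)).1) (xyVal (xyOps.getD i (0, 0)).2)) (xyVals.getD i 0)) = true ∧
    xyRoots.1 < 268 ∧ xyRoots.2 < 268 ∧ xyVal xyRoots.1 = pack (fun i => PermNine.pg ConwayThreeOut.permX i) 276 ∧
    xyVal xyRoots.2 = pack (fun i => PermNine.pg ConwayThreeOut.permY i) 276 := by decide +kernel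

end Cfsg.Agent.Spor.CoThreeCent
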