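import Cfsg.Agent.Lib.Spor.CoThreeCent.LocalSys
import Cfsg.Agent.Lib.Spor.CoThreeCent.GenChecks

/-!
The centralizer and the twist involution generate a copy of the third Conway group.
-/

set_option autoImplicit false
set_option maxRecDepth 100000
set_option maxHeartbeats 1000000
set_option linter.style.haveILetI false

namespace Cfsg.Agent.Spor.CoThreeCent

open DCoset
open Lie.ConwayThreeOut (CG perm276 gx gy genXY gen_top rep_x rep_y card_CG)

attribute [local irreducible] mu pack cert idC tC sigC xL uC vC vv xyVals xyOps xyVal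

theorem cdG_pack (g : CG) (p : ℕ) (h : Lie.PermNine.Rep perm276 g p) :
    cdG g = pack (fun i => Lie.PermNine.pg p i) 276 := by
  have hb : ∀ i, Lie.PermNine.pg p i < 512 := fun i => Nat.mod_lt _ (by norm_num)
  refine code_eq ?_ fun i => ?_
  · generalize hP : pack (fun i => Lie.PermNine.pg p i) 276 = P
    have key : ∀ n, n ≤ 276 → pack (fun i => dig P i) n = pack (fun i => Lie.PermNine.pg p i) n := by
      intro n
      induction n with
      | zero => intro _; rw [pack_zero, pack_zero]
      | succ n ih =>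
        intro hn
        rw [pack_succ, pack_succ, ih (by omega), dig_eq, ← hP, pg_pack hb 276 n (by omega)]
    exact (key 276 le_rfl).trans hP
  · rw [pg_pack hb 276 i i.2]
    exact h i

theorem model_top : Subgroup.closure ((Hm : Set CG) ∪ {sigM}) = ⊤ := by
  set K := Subgroup.closure ((Hm : Set CG) ∪ {sigM})
  obtain ⟨l1, l2, hall, r1, r2, v1, v2⟩ := xy_ok
  have key : ∀ j, j < 268 → ∃ g ∈ K, cdG g = xyVal j := by
    intro j
    induction j using Nat.strong_induction_on with
    | _ j ih =>
      intro hj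
      by_cases h7 : j < 7
      · refine ⟨mg j, ?_, ?_⟩
        · by_cases h6 : j < 6
          · exact Subgroup.subset_closure (Or.inl (Subgroup.subset_closure ⟨⟨j, h6⟩, rfl⟩))
          · rw [show j = 6 by omega]; exact Subgroup.subset_closure (Or.inr rfl)
        · rw [cdG_mg h7, xyVal, (Nat.blt_eq ▸ h7 : Nat.blt j 7 = true), cond_true, List.getD_eq_getElem _ _ (by rw [List.length_append, gens_len]; simpa using h7),
            List.getD_eq_getElem _ _ (by rw [List.length_append, gens_len]; simpa using h7)]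
      · have h := List.all_eq_true.1 hall (j - 7) (List.mem_range.2 (by omega))
        simp only [Bool.and_eq_true, Nat.blt_eq, Nat.beq_eq] at h
        obtain ⟨g, hg, eg⟩ := ih _ (by omega : (xyOps.getD (j - 7) (0, 0)).1 < j) (by omega)
        obtain ⟨g', hg', eg'⟩ := ih _ (by omega : (xyOps.getD (j - 7) (0, 0)).2 < j) (by omega)
        refine ⟨g * g', mul_mem hg hg', ?_⟩
        rw [cdG_mul, eg, eg', h.2]
        conv_rhs => rw [xyVal, show Nat.blt j 7 = false from Bool.eq_false_iff.2 fun e => h7 (by simpa [Nat.blt_eq] using e), cond_false]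
        rfl
  refine top_le_iff.1 (gen_top ▸ (Subgroup.closure_le K).2 ?_)
  rintro z (rfl | rfl)
  · obtain ⟨g, hg, e⟩ := key _ r1
    rwa [← cdG_inj (e.trans (v1.trans (cdG_pack _ _ rep_x).symm))]
  · obtain ⟨g, hg, e⟩ := key _ r2
    rwa [← cdG_inj (e.trans (v2.trans (cdG_pack _ _ rep_y).symm))]

theorem simple_CG : IsSimpleGroup CG := (co3_spec uRef_spec.2).1

theorem rel_list {Γ : Type*} [Group Γ] (f : CG →* Γ) (zs : List (List ℕ × List ℕ)) :
    f (zs.map fun z => (RA.wel z.1 : CG) * sigM).prod = (zs.map fun z => f (RA.wel z.1 : CG) * f sigM).prod := by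
  induction zs with
  | nil => simp
  | cons z zs ih => rw [List.map_cons, List.prod_cons, List.map_cons, List.prod_cons, map_mul, map_mul, ih]

namespace Emb

variable {G : Type*} [Group G] (E : Emb G)

/-- the copy of the Conway group -/
theorem exists_iota [Finite G] (D : E.Sig) :
    ∃ ι : CG →* G, Function.Injective ι ∧ (∀ a : MA, ι (a : CG) = E.φ a) ∧ ι sigM = D.σ := by
  classical
  haveI := Lie.ConwayThreeOut.finite_CG
  let S' : Sys RA (G × CG) :=
    { φ := E.φ.prod Hm.subtype
      σ := (D.σ, sigM)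
      sq := Prod.ext D.sq sigM_sq
      twist := fun w hw => Prod.ext (D.twist w hw) (model_cg hw).1
      rel := fun zs hzs => by
        refine Prod.ext ?_ ?_
        · rw [← MonoidHom.coe_fst, map_list_prod, List.map_map]
          exact D.rel zs hzs
        · rw [← MonoidHom.coe_snd, map_list_prod, List.map_map]
          exact (model_rel hzs).1 }
  set K := Subgroup.closure (Set.range S'.φ ∪ {S'.σ})
  have hb : Nat.card K ≤ Nat.card CG := by
    have := DCoset.card_le S' cert_ok card_MA pts_nodup
    rw [cert_total] at this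
    rw [card_CG]
    exact this.trans (le_of_eq (by norm_num))
  have hsnd : K.map (MonoidHom.snd G CG) = ⊤ := by
    refine top_le_iff.1 (model_top ▸ (Subgroup.closure_le _).2 ?_)
    rintro z (hz | hz)
    · exact ⟨S'.φ ⟨z, hz⟩, Subgroup.subset_closure (Or.inl ⟨_, rfl⟩), rfl⟩
    · rw [Set.mem_singleton_iff.1 hz]
      exact ⟨S'.σ, Subgroup.subset_closure (Or.inr rfl), rfl⟩
  let p2 : ↥K →* CG := (MonoidHom.snd G CG).comp K.subtype
  have p2s : Function.Surjective p2 := fun y => by
    obtain ⟨z, hz, e⟩ := hsnd.symm ▸ Subgroup.mem_top y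
    exact ⟨⟨z, hz⟩, e⟩
  have p2b := (Nat.bijective_iff_surjective_and_card p2).2
    ⟨p2s, le_antisymm hb (Nat.card_le_card_of_surjective p2 p2s)⟩
  let e2 := MulEquiv.ofBijective p2 p2b
  let ι : CG →* G := ((MonoidHom.fst G CG).comp K.subtype).comp e2.symm.toMonoidHom
  have hv : ∀ z : ↥K, ι z.1.2 = z.1.1 := fun z => by
    show ((e2.symm (e2 z)) : G × CG).1 = _
    rw [e2.symm_apply_apply]
  have ha : ∀ a : MA, ι (a : CG) = E.φ a := fun a => hv ⟨S'.φ a, Subgroup.subset_closure (Or.inl ⟨a, rfl⟩)⟩
  have hs : ι sigM = D.σ := hv ⟨S'.σ, Subgroup.subset_closure (Or.inr rfl)⟩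
  refine ⟨ι, ?_, ha, hs⟩
  haveI := simple_CG
  rw [← MonoidHom.ker_eq_bot_iff]
  refine (ι.normal_ker.eq_bot_or_eq_top).resolve_right fun h => ?_
  have : ι (tA : CG) = 1 := MonoidHom.mem_ker.1 (h ▸ Subgroup.mem_top _)
  rw [ha] at this
  exact E.t_ne this

end Emb

end Cfsg.Agent.Spor.CoThreeCent
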