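import Cfsg.Agent.Lib.Spor.CoThreeCent.FusionChecks
import Cfsg.Agent.Lib.Spor.CoThreeCent.LocalData

/-!
Kernel checks for the local subgroup at an elementary abelian subgroup of order 16.
-/

set_option autoImplicit false
set_option maxRecDepth 100000
set_option maxHeartbeats 0
set_option Elab.async false

namespace Cfsg.Agent.Spor.CoThreeCent

open DCoset

/-- an element of the local subgroup -/
def vv (i : ℕ) : ℕ := vL.getD i idC

/-- the three local generators -/
def g3 (k : ℕ) : ℕ := bif Nat.beq k 2 then sigC else cert.gens.getD k idC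

/-- value of a word in the three generators -/
def ev3 (w : List ℕ) : ℕ := w.foldl (fun r k => mu r (g3 k)) idC

/-- commuting codes -/
def cmB (a b : ℕ) : Bool := Nat.beq (mu a b) (mu b a)

/-- inverse word -/
def wInv (w : List ℕ) : List ℕ := w.reverse.map fun k => ivL.getD k 0

/-- conjugate by a word -/
def cjW (w : List ℕ) (x : ℕ) : ℕ := mu (mu (cert.ev mu w) x) (cert.ev mu (wInv w))

/-- derivation along a word -/
def dlW (w : List ℕ) (i j : ℕ) : ℕ :=
  w.foldl (fun r k => Nat.xor ((vActI.getD k []).getD r 0) (bif Nat.beq k 0 then i else j)) 0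

theorem v_ok : vL.length = 16 ∧ vL.Nodup ∧ vv 0 = idC ∧ vv 1 = tC ∧ vv 2 = uC ∧
    vv 4 = cert.ev mu (baseW.getD 0 []) ∧ vv 8 = cert.ev mu (baseW.getD 1 []) ∧
    ((List.range 16).all fun i => (List.range 16).all fun j => Nat.beq (mu (vv i) (vv j)) (vv (Nat.xor i j))) = true ∧
    ((List.range 4).all fun k => (baseP.getD k []).all (fun l => Nat.blt l 2) &&
      Nat.beq (cert.ev mu (baseP.getD k [])) (vv (2 ^ k))) = true := by decide +kernel

theorem act_ok : ((List.range 3).all fun k => (List.range 16).all fun i =>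
    Nat.blt ((vAct.getD k []).getD i 16) 16 &&
      Nat.beq (mu (g3 k) (vv i)) (mu (vv ((vAct.getD k []).getD i 16)) (g3 k))) = true ∧
    ((List.range 2).all fun k => (List.range 16).all fun i =>
    Nat.blt ((vActI.getD k []).getD i 16) 16 &&
      Nat.beq (mu (vv i) (g3 k)) (mu (g3 k) (vv ((vActI.getD k []).getD i 16)))) = true ∧
    (vAct.getD 2 []).getD 1 16 = 2 ∧ (vAct.getD 2 []).getD 2 16 = 1 ∧ (vAct.getD 2 []).getD 4 16 = 4 ∧
    (vAct.getD 2 []).getD 8 16 = fourIdx ∧ mu sigC sigC = idC := by decide +kernel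

theorem rels_ok : (relsP.all fun w => w.all (fun l => Nat.blt l 2) && Nat.beq (cert.ev mu w) idC) = true ∧
    ((List.range 16).all fun i => (List.range 16).all fun j => !(relsP.all fun w => Nat.beq (dlW w i j) 0) ||
      (Nat.blt ((cobT.getD i []).getD j 16) 16 &&
        Nat.beq (Nat.xor ((vActI.getD 0 []).getD ((cobT.getD i []).getD j 16) 16) ((cobT.getD i []).getD j 16)) i &&
        Nat.beq (Nat.xor ((vActI.getD 1 []).getD ((cobT.getD i []).getD j 16) 16) ((cobT.getD i []).getD j 16)) j)) =
      true := by decide +kernel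

theorem step_ok : locReps.length = 15 ∧ locReps.getD 0 [] = [] ∧ locImg.Nodup ∧ locImg.length = 15 ∧
    (locReps.all fun w => w.all fun l => Nat.blt l 3) = true ∧
    ((List.range 15).all fun i => Nat.blt (locImg.getD i 16) 16 &&
      Nat.beq (mu (ev3 (locReps.getD i [])) tC) (mu (vv (locImg.getD i 16)) (ev3 (locReps.getD i [])))) = true ∧
    ((List.range 15).all fun i => (List.range 3).all fun k =>
      Nat.blt ((locStep.getD i []).getD k (15, [])).1 15 && ((locStep.getD i []).getD k (15, [])).2.all (fun l => Nat.blt l 2) &&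
        Nat.beq (mu (g3 k) (ev3 (locReps.getD i [])))
          (mu (ev3 (locReps.getD ((locStep.getD i []).getD k (15, [])).1 []))
            (cert.ev mu ((locStep.getD i []).getD k (15, [])).2))) = true := by decide +kernel

theorem fix_ok : ((List.range 8).all fun i => (fixW.getD i []).all (fun l => Nat.blt l 6) &&
    cmB (cert.ev mu (fixW.getD i [])) uC && cmB (cert.ev mu (fixW.getD i [])) (vv 4) &&
      Nat.beq (mu (cert.ev mu (fixW.getD i [])) (vv (8 + i))) (mu (vv fourIdx) (cert.ev mu (fixW.getD i [])))) = true ∧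
    fourIdx < 16 ∧ 8 ≤ fourIdx ∧ cert.pts.elem (vv 4) = true ∧ cert.pts.elem (vv 8) = true ∧
    cert.pts.elem (vv 3) = true := by decide +kernel

theorem third_all : ((List.range 630).all fun k => bif cmB (cert.pts.getD k 0) uC then
      Nat.beq (cert.pts.getD k 0) uC || Nat.beq (cert.pts.getD k 0) (vv 3) || toThird.any fun r => Nat.beq r.1 k
    else true) = true := by decide +kernel

theorem third_rows : (toThird.all fun r => r.2.all (fun l => Nat.blt l 6) && cmB (cert.ev mu r.2) uC &&
    Nat.beq (mu (cert.ev mu r.2) (cert.pts.getD r.1 0)) (mu (vv 4) (cert.ev mu r.2))) = true := by decide +kernel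

theorem four_all : ((List.range 630).all fun k => bif cmB (cert.pts.getD k 0) uC && cmB (cert.pts.getD k 0) (vv 4) then
      inFour.any fun r => Nat.beq r.1 k && Nat.blt r.2 16 && Nat.beq (cert.pts.getD k 0) (vv r.2)
    else true) = true := by decide +kernel

theorem orb_third : orbThird.length = 36 ∧ (orbThird.all fun w => w.all (fun l => Nat.blt l 6) &&
    cmB (cert.ev mu w) uC) = true ∧ (orbThird.map fun w => cjW w (vv 4)).Nodup := by decide +kernel

theorem orb_fourth : orbFourth.length = 8 ∧ (orbFourth.all fun w => w.all (fun l => Nat.blt l 6) &&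
    cmB (cert.ev mu w) uC && cmB (cert.ev mu w) (vv 4)) = true ∧ (orbFourth.map fun w => cjW w (vv 8)).Nodup := by
  decide +kernel

/-- the target of a test element -/
def rTarget (i : ℕ) : ℕ :=
  match i with
  | 0 => vv 4
  | 1 => vv 8
  | 2 => mu (mu (cert.ev mu rW) (vv 4)) (cert.ev mu (rW ++ rW))
  | _ => mu (mu (cert.ev mu rW) (vv 8)) (cert.ev mu (rW ++ rW))

theorem r_ok : rTest.length = 4 ∧ cmB (cert.ev mu rW) uC = true ∧ cert.ev mu (rW ++ rW ++ rW) = idC ∧
    cert.ev mu (rTW ++ rTW ++ rTW) = idC ∧
    mu sigC (cert.ev mu rW) = mu (cert.ev mu rTW) sigC ∧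
    ((List.range 4).all fun i =>
      (rTest.getD i ([], [])).1.all (fun l => Nat.blt l 2) && (rTest.getD i ([], [])).2.all (fun l => Nat.blt l 2) &&
        cmB (cert.ev mu (rTest.getD i ([], [])).1) uC && cmB (cert.ev mu (rTest.getD i ([], [])).1) tC &&
        Nat.beq (mu (cert.ev mu rW) (cert.ev mu (rTest.getD i ([], [])).1))
          (mu (cert.ev mu (rTest.getD i ([], [])).2) (cert.ev mu rW)) &&
        Nat.beq (mu sigC (cert.ev mu (rTest.getD i ([], [])).1)) (mu (rTarget i) sigC)) = true ∧
    ((List.range 16).all fun i => (List.range 16).all fun j =>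
      !(Nat.beq (mu (vv i) (cert.ev mu rW)) (mu (cert.ev mu rW) (vv j))) || Nat.blt i 4) = true := by decide +kernel

theorem cg_ok : cgP.length = cert.cg.length ∧ ((List.range cert.cg.length).all fun j =>
    Nat.blt (cgP.getD j (0, [])).1 3 && (cgP.getD j (0, [])).2.all (fun l => Nat.blt l 2) &&
      cmB (cert.ev mu (cgP.getD j (0, [])).2) uC &&
      Nat.beq (cert.ev mu (cert.cg.getD j ([], [])).1)
        (cert.ev mu ((List.replicate (cgP.getD j (0, [])).1 rW).flatten ++ (cgP.getD j (0, [])).2)) &&
      Nat.beq (mu (cert.ev mu (cert.cg.getD j ([], [])).1) sigC) (mu sigC (cert.ev mu (cert.cg.getD j ([], [])).2))) = true := by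
  decide +kernel

theorem rel_ok : relP.length = cert.rels.length ∧ ((List.range cert.rels.length).all fun i =>
    Nat.beq (relP.getD i []).length (cert.rels.getD i []).length &&
      ((relP.getD i []).zip (cert.rels.getD i [])).all (fun x => x.1.all (fun l => Nat.blt l 2) &&
        Nat.beq (cert.ev mu x.1) (cert.ev mu x.2.1)) &&
      Nat.beq ((cert.rels.getD i []).foldr (fun z r => mu (mu (cert.ev mu z.1) sigC) r) idC) idC) = true := by
  decide +kernel

end Cfsg.Agent.Spor.CoThreeCent
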