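import Cfsg.Agent.Lib.Spor.CoThreeCent.LocalModel

/-!
In a group with the centralizer of an involution identified: the local subgroup of the model acts on the elementary
abelian subgroup of order 16, and every such action is induced inside the group.
-/

set_option autoImplicit false
set_option maxRecDepth 100000
set_option maxHeartbeats 1000000
set_option linter.style.haveILetI false

namespace Cfsg.Agent.Spor.CoThreeCent

open DCoset
open Lie.ConwayThreeOut (CG)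

attribute [local irreducible] mu pack cert idC tC sigC xL uC vC vv g3 ev3 cjW vM

theorem basis_induct {P : ℕ → Prop} (h1 : P 1) (h2 : P 2) (h4 : P 4) (h8 : P 8)
    (hx : ∀ a < 16, ∀ b < 16, P a → P b → P (Nat.xor a b)) : ∀ i < 16, P i := by
  have h0 : P 0 := hx 1 (by decide) 1 (by decide) h1 h1
  have h3 : P 3 := hx 1 (by decide) 2 (by decide) h1 h2
  have h5 : P 5 := hx 1 (by decide) 4 (by decide) h1 h4
  have h6 : P 6 := hx 2 (by decide) 4 (by decide) h2 h4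
  have h7 : P 7 := hx 3 (by decide) 4 (by decide) h3 h4
  have hh : ∀ a < 8, P a → P (Nat.xor a 8) := fun a ha h => hx a (by omega) 8 (by decide) h h8
  intro i hi
  interval_cases i
  exacts [h0, h1, h2, h3, h4, h5, h6, h7, h8, hh 1 (by decide) h1, hh 2 (by decide) h2, hh 3 (by decide) h3,
    hh 4 (by decide) h4, hh 5 (by decide) h5, hh 6 (by decide) h6, hh 7 (by decide) h7]

theorem conj_vv {i : ℕ} (hi : i < 16) (h : cert.pts.elem (vv i) = true) : IsConj uA (vM i) :=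
  conj_of_mem (by rw [cd_vM hi]; exact List.mem_of_elem_eq_true h)

namespace Emb

variable {G : Type*} [Group G] (E : Emb G)

theorem phi_vM_one : E.φ (vM 1) = E.t := by rw [vM_one]; rfl

theorem t_eq {i : ℕ} (hi : i < 16) (h : E.φ (vM i) = E.t) : i = 1 :=
  vM_inj hi (by decide) (E.inj (h.trans E.phi_vM_one.symm))

/-- an element swapping the two involutions -/
theorem exists_swap {g : G} (hg : g * E.t * g⁻¹ = E.φ uA) :
    ∃ g1 : G, g1 * E.t * g1⁻¹ = E.φ uA ∧ g1 * E.φ uA * g1⁻¹ = E.t := by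
  have hc : Commute (g⁻¹ * E.t * g⁻¹⁻¹) E.t := by
    have h : E.φ uA * E.t = E.t * E.φ uA := (E.comm_t uA).eq
    rw [← hg] at h
    show g⁻¹ * E.t * g⁻¹⁻¹ * E.t = E.t * (g⁻¹ * E.t * g⁻¹⁻¹)
    calc g⁻¹ * E.t * g⁻¹⁻¹ * E.t = g⁻¹ * (E.t * (g * E.t * g⁻¹)) * g := by group
      _ = g⁻¹ * (g * E.t * g⁻¹ * E.t) * g := by rw [h]
      _ = E.t * (g⁻¹ * E.t * g⁻¹⁻¹) := by group
  rcases E.conj_cases g⁻¹ hc with h | ⟨a, ha, he⟩
  · exfalso
    refine uA_ne.2 (E.inj ?_)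
    show E.φ uA = E.t
    rw [← hg]
    conv_lhs => rw [← h]
    group
  · obtain ⟨c, rfl⟩ := isConj_iff.1 ha
    refine ⟨g * E.φ c, ?_, ?_⟩
    · rw [mul_inv_rev, show g * E.φ c * E.t * ((E.φ c)⁻¹ * g⁻¹) = g * (E.φ c * E.t * (E.φ c)⁻¹) * g⁻¹ by group,
        (E.comm_t c).eq, mul_inv_cancel_right, hg]
    · calc g * E.φ c * E.φ uA * (g * E.φ c)⁻¹ = g * E.φ (c * uA * c⁻¹) * g⁻¹ := by
            rw [map_mul, map_mul, map_inv]; group
        _ = E.t := by rw [he]; group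

/-- conjugates of the involution inside the image commuting with the distinguished pair -/
theorem conj_image {g : G} {i : ℕ} (hi : i < 16) (hconj : IsConj uA (vM i)) (hu : ∃ h : G, h * E.t * h⁻¹ = E.φ uA)
    (hc : Commute (g * E.φ (vM i) * g⁻¹) E.t) (hne : g * E.φ (vM i) * g⁻¹ ≠ E.t) :
    ∃ b, IsConj uA b ∧ g * E.φ (vM i) * g⁻¹ = E.φ b := by
  obtain ⟨c, hc'⟩ := isConj_iff.1 hconj
  obtain ⟨h, hh⟩ := hu
  have e : g * E.φ (vM i) * g⁻¹ = g * E.φ c * h * E.t * (g * E.φ c * h)⁻¹ := by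
    rw [← hc', map_mul, map_mul, map_inv, ← hh]; group
  rw [e] at hc hne ⊢
  obtain ⟨a, ha, he⟩ := (E.conj_cases _ hc).resolve_left hne
  exact ⟨a, ha, he.symm⟩

/-- an element moving the four basis involutions as the model twist does -/
theorem exists_twist_action {g : G} (hg : g * E.t * g⁻¹ = E.φ uA) :
    ∃ s : G, s * E.t * s⁻¹ = E.φ (vM 2) ∧ s * E.φ (vM 2) * s⁻¹ = E.t ∧
      s * E.φ (vM 4) * s⁻¹ = E.φ (vM 4) ∧ s * E.φ (vM 8) * s⁻¹ = E.φ (vM fourIdx) := by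
  obtain ⟨g1, e1, e2⟩ := E.exists_swap hg
  obtain ⟨fx, hfi, hf8, p4, p8, p3⟩ := fix_ok
  have cmm : ∀ (h : G) {a b : G}, Commute a b → Commute (h * a * h⁻¹) (h * b * h⁻¹) := fun h a b hab => by
    show h * a * h⁻¹ * (h * b * h⁻¹) = h * b * h⁻¹ * (h * a * h⁻¹)
    rw [show h * a * h⁻¹ * (h * b * h⁻¹) = h * (a * b) * h⁻¹ by group, hab.eq]; group
  have cV : ∀ {i j : ℕ}, i < 16 → j < 16 → Commute (E.φ (vM i)) (E.φ (vM j)) := fun hi hj => by
    show _ * _ = _ * _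
    rw [← map_mul, ← map_mul, vM_comm hi hj]
  have cinj : ∀ (h a b : G), h * a * h⁻¹ = h * b * h⁻¹ → a = b := fun h a b e =>
    mul_left_cancel (mul_right_cancel e)
  have t1 := E.phi_vM_one
  rw [← vM_two] at e1 e2 hg
  -- the third involution
  set y := g1 * E.φ (vM 4) * g1⁻¹ with hy
  have hyt : Commute y E.t := by
    have := cmm g1 (cV (i := 4) (j := 2) (by decide) (by decide))
    rwa [e2, ← hy] at this
  have hyu : Commute y (E.φ (vM 2)) := by
    have := cmm g1 (cV (i := 4) (j := 1) (by decide) (by decide))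
    rwa [t1, e1, ← hy] at this
  have hyne : y ≠ E.t := fun h => by
    have := cinj g1 _ _ (h.trans e2.symm)
    exact absurd (vM_inj (by decide) (by decide) (E.inj this)) (by decide)
  obtain ⟨b, hb, hbe⟩ := E.conj_image (g := g1) (by decide) (conj_vv (by decide) p4) ⟨g, by rw [hg, vM_two]⟩ hyt hyne
  have hbu : Commute b uA := E.inj (by
    rw [map_mul, map_mul, ← hbe, ← vM_two]; exact hyu.eq)
  obtain ⟨k, hk, hkb⟩ := List.getElem_of_mem (conj_in_pts hb)
  have hk6 : k < 630 := lengths.2.2.2.2.2.2.2 ▸ hk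
  have hgd : cert.pts.getD k 0 = RA.cd b := by rw [List.getD_eq_getElem _ _ hk, hkb]
  have h3 := List.all_eq_true.1 third_all k (List.mem_range.2 hk6)
  rw [hgd, (cmB_iff rfl cd_uA).2 hbu] at h3
  simp only [cond_true, Bool.or_eq_true, Nat.beq_eq, List.any_eq_true] at h3
  obtain ⟨d, hdu, hdb⟩ : ∃ d : MA, Commute d uA ∧ d * b = vM 4 * d := by
    rcases h3 with (h | h) | ⟨r, hr, hrk⟩
    · exfalso
      rw [← cd_uA] at h
      rw [eqA h, ← vM_two, ← e1, ← t1] at hbe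
      exact absurd (vM_inj (by decide) (by decide) (E.inj (cinj g1 _ _ hbe))) (by decide)
    · exfalso
      rw [← cd_vM (i := 3) (by decide)] at h
      have e3 : E.φ (vM 3) = g1 * E.φ (vM 3) * g1⁻¹ := by
        rw [show (3 : ℕ) = Nat.xor 1 2 from rfl, ← vM_mul (by decide) (by decide), map_mul]
        rw [t1]
        conv_rhs => rw [show g1 * (E.t * E.φ (vM 2)) * g1⁻¹ = g1 * E.t * g1⁻¹ * (g1 * E.φ (vM 2) * g1⁻¹) by group,
          e1, e2]
        exact (E.comm_t _).eq.symm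
      rw [eqA h, e3] at hbe
      exact absurd (vM_inj (by decide) (by decide) (E.inj (cinj g1 _ _ hbe))) (by decide)
    · have h := List.all_eq_true.1 third_rows r hr
      simp only [Bool.and_eq_true, Nat.beq_eq] at h
      refine ⟨RA.wel r.2, (cmB_iff (RA.cd_wel _) cd_uA).1 h.1.2, eqA ?_⟩
      rw [cd_mulA, cd_mulA, RA.cd_wel, cd_vM (i := 4) (by decide), ← hgd, ← hrk]
      exact h.2
  set g2 := E.φ d * g1 with hg2
  have d1 : g2 * E.t * g2⁻¹ = E.φ (vM 2) := by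
    rw [hg2, show E.φ d * g1 * E.t * (E.φ d * g1)⁻¹ = E.φ d * (g1 * E.t * g1⁻¹) * (E.φ d)⁻¹ by group, e1, ← map_mul,
      vM_two, hdu.eq, map_mul, mul_inv_cancel_right]
  have d2 : g2 * E.φ (vM 2) * g2⁻¹ = E.t := by
    rw [hg2, show E.φ d * g1 * E.φ (vM 2) * (E.φ d * g1)⁻¹ = E.φ d * (g1 * E.φ (vM 2) * g1⁻¹) * (E.φ d)⁻¹ by group,
      e2, (E.comm_t d).eq, mul_inv_cancel_right]
  have d4 : g2 * E.φ (vM 4) * g2⁻¹ = E.φ (vM 4) := by
    rw [hg2, show E.φ d * g1 * E.φ (vM 4) * (E.φ d * g1)⁻¹ = E.φ d * (g1 * E.φ (vM 4) * g1⁻¹) * (E.φ d)⁻¹ by group,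
      hbe, ← map_mul, hdb, map_mul, mul_inv_cancel_right]
  -- the fourth involution
  set z := g2 * E.φ (vM 8) * g2⁻¹ with hz
  have hzc : ∀ {a : ℕ} {x : G}, a < 16 → g2 * E.φ (vM a) * g2⁻¹ = x → Commute z x := fun {a x} ha e => by
    have := cmm g2 (cV (i := 8) (j := a) (by decide) ha)
    rwa [e, ← hz] at this
  have low : ∀ i < 8, ∃ j < 8, g2 * E.φ (vM j) * g2⁻¹ = E.φ (vM i) := by
    have m : ∀ {a b c d : ℕ}, a < 16 → b < 16 → c < 16 → d < 16 → g2 * E.φ (vM a) * g2⁻¹ = E.φ (vM c) →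
        g2 * E.φ (vM b) * g2⁻¹ = E.φ (vM d) →
        g2 * E.φ (vM (Nat.xor a b)) * g2⁻¹ = E.φ (vM (Nat.xor c d)) := fun {a b c d} ha hb hc hd h1 h2 => by
      rw [← vM_mul ha hb, ← vM_mul hc hd, map_mul, map_mul, ← h1, ← h2]; group
    have d1' := d1; have d2' := d2
    rw [← t1] at d1' d2'
    have d3 := m (by decide) (by decide) (by decide) (by decide) d1' d2'
    intro i hi
    interval_cases i
    · exact ⟨0, by decide, by simp [vM_zero]⟩
    · exact ⟨2, by decide, d2'⟩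
    · exact ⟨1, by decide, d1'⟩
    · exact ⟨3, by decide, d3⟩
    · exact ⟨4, by decide, d4⟩
    · exact ⟨6, by decide, m (by decide) (by decide) (by decide) (by decide) d2' d4⟩
    · exact ⟨5, by decide, m (by decide) (by decide) (by decide) (by decide) d1' d4⟩
    · exact ⟨7, by decide, m (by decide) (by decide) (by decide) (by decide) d3 d4⟩
  have hzne : z ≠ E.t := fun h => by
    have := cinj g2 _ _ (h.trans d2.symm)
    exact absurd (vM_inj (by decide) (by decide) (E.inj this)) (by decide)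
  obtain ⟨b', hb', hbe'⟩ := E.conj_image (g := g2) (by decide) (conj_vv (by decide) p8) ⟨g, by rw [hg, vM_two]⟩
    (hzc (by decide) d2) hzne
  have hbu' : Commute b' uA := E.inj (by
    rw [map_mul, map_mul, ← hbe', ← vM_two]; exact (hzc (by decide) (t1.symm ▸ d1)).eq)
  have hb4 : Commute b' (vM 4) := E.inj (by
    rw [map_mul, map_mul, ← hbe']; exact (hzc (by decide) d4).eq)
  obtain ⟨k', hk', hkb'⟩ := List.getElem_of_mem (conj_in_pts hb')
  have hgd' : cert.pts.getD k' 0 = RA.cd b' := by rw [List.getD_eq_getElem _ _ hk', hkb']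
  have h4 := List.all_eq_true.1 four_all k' (List.mem_range.2 (lengths.2.2.2.2.2.2.2 ▸ hk' : k' < 630))
  rw [hgd', (cmB_iff rfl cd_uA).2 hbu', (cmB_iff rfl (cd_vM (by decide))).2 hb4] at h4
  simp only [Bool.and_self, cond_true, List.any_eq_true, Bool.and_eq_true, Nat.beq_eq, Nat.blt_eq] at h4
  obtain ⟨r, -, ⟨-, hr16⟩, hrv⟩ := h4
  rw [← cd_vM hr16] at hrv
  rw [eqA hrv] at hbe'
  have hr8 : 8 ≤ r.2 := by
    by_contra hlt
    obtain ⟨j, hj, hje⟩ := low r.2 (by omega)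
    rw [← hje] at hbe'
    have := vM_inj (i := 8) (by decide) (by omega) (E.inj (cinj g2 _ _ hbe'))
    omega
  have hfr := List.all_eq_true.1 fx (r.2 - 8) (List.mem_range.2 (by omega))
  simp only [Bool.and_eq_true, Nat.beq_eq] at hfr
  rw [show 8 + (r.2 - 8) = r.2 by omega] at hfr
  obtain ⟨⟨⟨-, fu⟩, f4⟩, f8⟩ := hfr
  set c := RA.wel (fixW.getD (r.2 - 8) []) with hcdef
  have hcu : Commute c uA := (cmB_iff (RA.cd_wel _) cd_uA).1 fu
  have hc4 : Commute c (vM 4) := (cmB_iff (RA.cd_wel _) (cd_vM (by decide))).1 f4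
  have hc8 : c * vM r.2 = vM fourIdx * c := eqA (by
    rw [cd_mulA, cd_mulA, RA.cd_wel, cd_vM hr16, cd_vM hfi]; exact f8)
  refine ⟨E.φ c * g2, ?_, ?_, ?_, ?_⟩
  · rw [show E.φ c * g2 * E.t * (E.φ c * g2)⁻¹ = E.φ c * (g2 * E.t * g2⁻¹) * (E.φ c)⁻¹ by group, d1, ← map_mul,
      vM_two, hcu.eq, map_mul, mul_inv_cancel_right]
  · rw [show E.φ c * g2 * E.φ (vM 2) * (E.φ c * g2)⁻¹ = E.φ c * (g2 * E.φ (vM 2) * g2⁻¹) * (E.φ c)⁻¹ by group,
      d2, (E.comm_t c).eq, mul_inv_cancel_right]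
  · rw [show E.φ c * g2 * E.φ (vM 4) * (E.φ c * g2)⁻¹ = E.φ c * (g2 * E.φ (vM 4) * g2⁻¹) * (E.φ c)⁻¹ by group,
      d4, ← map_mul, hc4.eq, map_mul, mul_inv_cancel_right]
  · rw [show E.φ c * g2 * E.φ (vM 8) * (E.φ c * g2)⁻¹ = E.φ c * (g2 * E.φ (vM 8) * g2⁻¹) * (E.φ c)⁻¹ by group,
      hbe', ← map_mul, hc8, map_mul, mul_inv_cancel_right]

/-- elements of the model and of the group acting alike on the sixteen involutions -/
def Agree (n : CG) (g : G) : Prop :=
  ∀ i < 16, ∃ j < 16, n * (vM i : CG) * n⁻¹ = (vM j : CG) ∧ g * E.φ (vM i) * g⁻¹ = E.φ (vM j)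

theorem agree_one : E.Agree 1 1 := fun i hi => ⟨i, hi, by simp, by simp⟩

variable {E}

theorem Agree.mul {n m : CG} {g h : G} (h1 : E.Agree n g) (h2 : E.Agree m h) : E.Agree (n * m) (g * h) := by
  intro i hi
  obtain ⟨j, hj, a, b⟩ := h2 i hi
  obtain ⟨k, hk, a', b'⟩ := h1 j hj
  exact ⟨k, hk, by rw [← a', ← a]; group, by rw [← b', ← b]; group⟩

theorem Agree.inv {n : CG} {g : G} (h : E.Agree n g) : E.Agree n⁻¹ g⁻¹ := by
  choose f hf hn hg using fun i : Fin 16 => h i i.2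
  have inj : Function.Injective fun i => (⟨f i, hf i⟩ : Fin 16) := fun i j e => by
    have e' : f i = f j := congrArg Fin.val e
    have := hn i
    rw [e', ← hn j] at this
    exact Fin.ext (vM_inj i.2 j.2 (Subtype.ext (mul_left_cancel (mul_right_cancel this))))
  intro i hi
  obtain ⟨j, hj⟩ := Finite.injective_iff_surjective.1 inj ⟨i, hi⟩
  have hj' : f j = i := congrArg Fin.val hj
  refine ⟨j, j.2, ?_, ?_⟩
  · rw [← hj', ← hn j]; group
  · rw [← hj', ← hg j]; group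

theorem Agree.of_basis {n : CG} {g : G} (h1 : ∀ i, (i = 1 ∨ i = 2 ∨ i = 4 ∨ i = 8) →
    ∃ j < 16, n * (vM i : CG) * n⁻¹ = (vM j : CG) ∧ g * E.φ (vM i) * g⁻¹ = E.φ (vM j)) : E.Agree n g := by
  refine basis_induct (h1 1 (by simp)) (h1 2 (by simp)) (h1 4 (by simp)) (h1 8 (by simp)) ?_
  rintro a ha b hb ⟨j, hj, p, q⟩ ⟨k, hk, p', q'⟩
  refine ⟨Nat.xor j k, xor_lt hj hk, ?_, ?_⟩
  · rw [← vM_mul ha hb, ← vM_mul hj hk, Subgroup.coe_mul, Subgroup.coe_mul, ← p, ← p']; group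
  · rw [← vM_mul ha hb, ← vM_mul hj hk, map_mul, map_mul, ← q, ← q']; group

variable (E)

/-- pairs acting alike -/
noncomputable def pairs : Subgroup (CG × G) where
  carrier := {x | x.1 ∈ NM ∧ E.Agree x.1 x.2}
  one_mem' := ⟨one_mem _, E.agree_one⟩
  mul_mem' := fun a b => ⟨mul_mem a.1 b.1, a.2.mul b.2⟩
  inv_mem' := fun a => ⟨inv_mem a.1, a.2.inv⟩

/-- the diagonal embedding of the centralizer -/
noncomputable def pr : MA →* CG × G := Hm.subtype.prod E.φ

theorem pr_mem {p : MA} (hp : p ∈ PA) : E.pr p ∈ E.pairs := by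
  have hle : PA ≤ E.pairs.comap E.pr := by
    rw [PA, Subgroup.closure_le]
    intro x hx
    have key : ∀ k < 2, E.pr (ga k) ∈ E.pairs := fun k hk => by
      refine ⟨PA_NM (by rw [← wel_single]; exact wel_PA _ (by simpa using hk)), fun i hi => ?_⟩
      obtain ⟨h16, e⟩ := cg3_act (k := k) (by omega) hi
      rw [cg3, if_neg (by omega)] at e
      refine ⟨_, h16, e, ?_⟩
      rw [← Subgroup.coe_mul, ← Subgroup.coe_inv, ← Subgroup.coe_mul] at e
      rw [← Subtype.ext e, map_mul, map_mul, map_inv]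
      rfl
    rcases hx with rfl | rfl
    · exact key 0 (by decide)
    · exact key 1 (by decide)
  exact hle hp

/-- every element of the local subgroup is matched -/
theorem exists_agree [Finite G] {g0 : G} (hg : g0 * E.t * g0⁻¹ = E.φ uA) {n : CG} (hn : n ∈ NM) :
    ∃ g : G, (n, g) ∈ E.pairs := by
  obtain ⟨s, s1, s2, s4, s8⟩ := E.exists_twist_action hg
  have hle : NM ≤ E.pairs.map (MonoidHom.fst CG G) := by
    rw [NM, Subgroup.closure_le]
    rintro _ ⟨k, rfl⟩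
    obtain ⟨k, hk⟩ := k
    interval_cases k
    · exact ⟨E.pr (ga 0), E.pr_mem (Subgroup.subset_closure (Or.inl rfl)), rfl⟩
    · exact ⟨E.pr (ga 1), E.pr_mem (Subgroup.subset_closure (Or.inr rfl)), rfl⟩
    · refine ⟨(sigM, s), ⟨sigM_NM, Agree.of_basis ?_⟩, by simp [cg3]⟩
      obtain ⟨-, -, a1, a2, a4, a8, -⟩ := act_ok
      have hs : cg3 2 = sigM := by rw [cg3, if_pos rfl]
      rintro i (rfl | rfl | rfl | rfl) <;> refine ⟨_, (cg3_act (k := 2) (by decide) (by decide)).1,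
        hs ▸ (cg3_act (k := 2) (by decide) (by decide)).2, ?_⟩ <;> unfold act3
      · rw [a1, E.phi_vM_one, s1]
      · rw [a2, E.phi_vM_one, s2]
      · rw [a4, s4]
      · rw [a8, s8]
  obtain ⟨⟨m, g⟩, h, rfl⟩ := hle hn
  exact ⟨g, h⟩

end Emb

end Cfsg.Agent.Spor.CoThreeCent
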