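import Cfsg.Agent.Lib.Spor.CoThreeCent.Emb
import Cfsg.Agent.Lib.Spor.CoThreeCent.LocalChecks

/-!
The elementary abelian subgroup of order 16, its self-centralization, and the local subgroup in the model.
-/

set_option autoImplicit false
set_option maxRecDepth 100000
set_option maxHeartbeats 1000000
set_option linter.style.haveILetI false

namespace Cfsg.Agent.Spor.CoThreeCent

open DCoset
open Lie.ConwayThreeOut (CG perm276 perm276_injective)

theorem xor_lt {i j : ℕ} (hi : i < 16) (hj : j < 16) : Nat.xor i j < 16 := Nat.xor_lt_two_pow (n := 4) hi hj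

theorem vv_getD (i : ℕ) : vv i = vL.getD i idC := by rw [vv]

theorem g3_eq (k : ℕ) : g3 k = bif Nat.beq k 2 then sigC else cert.gens.getD k idC := by rw [g3]

theorem cjW_eq (w : List ℕ) (x : ℕ) : cjW w x = mu (mu (cert.ev mu w) x) (cert.ev mu (wInv w)) := by rw [cjW]

theorem ev3_nil : ev3 [] = idC := by rw [ev3, List.foldl_nil]

theorem ev3_append (w : List ℕ) (k : ℕ) : ev3 (w ++ [k]) = mu (ev3 w) (g3 k) := by
  rw [ev3, ev3, List.foldl_append, List.foldl_cons, List.foldl_nil]

theorem nodup_idx {α : Type} {l : List (List ℕ)} {f : List ℕ → α} (h : (l.map f).Nodup) {i j : ℕ} (hi : i < l.length)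
    (hj : j < l.length) (e : f (l.getD i []) = f (l.getD j [])) : i = j := by
  rw [List.getD_eq_getElem _ _ hi, List.getD_eq_getElem _ _ hj] at e
  exact (List.Nodup.getElem_inj_iff h (hi := by simpa using hi) (hj := by simpa using hj)).1 (by simpa using e)

theorem wel_single (k : ℕ) : RA.wel [k] = ga k := one_mul _

theorem wel_append (v w : List ℕ) : RA.wel (v ++ w) = RA.wel v * RA.wel w := by
  induction w using List.reverseRecOn with
  | nil => simp [Rep.wel]
  | append_singleton w k ih =>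
    rw [← List.append_assoc, show ∀ x, RA.wel (x ++ [k]) = RA.wel x * ga k from fun x => by simp [Rep.wel, RA],
      show RA.wel (w ++ [k]) = RA.wel w * ga k by simp [Rep.wel, RA], ih, mul_assoc]

attribute [local irreducible] mu pack cert idC tC sigC xL uC vC vv g3 ev3 cjW

/-- the elements of the four-dimensional subgroup -/
noncomputable def vM (i : ℕ) : MA :=
  tp (i.testBit 0) * ((bif i.testBit 1 then uA else 1) * ((bif i.testBit 2 then RA.wel (baseW.getD 0 []) else 1) *
    (bif i.testBit 3 then RA.wel (baseW.getD 1 []) else 1)))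

theorem vm_cases (i : ℕ) : vM i = tp (i.testBit 0) * ((bif i.testBit 1 then uA else 1) *
    ((bif i.testBit 2 then RA.wel (baseW.getD 0 []) else 1) * (bif i.testBit 3 then RA.wel (baseW.getD 1 []) else 1))) := rfl

theorem vv_mul {i j : ℕ} (hi : i < 16) (hj : j < 16) : mu (vv i) (vv j) = vv (Nat.xor i j) := by
  have h := List.all_eq_true.1 (List.all_eq_true.1 v_ok.2.2.2.2.2.2.2.1 i (List.mem_range.2 hi)) j (List.mem_range.2 hj)
  exact Nat.eq_of_beq_eq_true h

theorem vv_bit : ∀ i < 16, vv i = mu (vv (bif i.testBit 0 then 1 else 0)) (mu (vv (bif i.testBit 1 then 2 else 0))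
    (mu (vv (bif i.testBit 2 then 4 else 0)) (vv (bif i.testBit 3 then 8 else 0)))) := by
  intro i hi
  rw [vv_mul (by cases i.testBit 2 <;> decide) (by cases i.testBit 3 <;> decide)]
  interval_cases i <;> (simp only [Nat.testBit]; rw [vv_mul (by decide) (by decide), vv_mul (by decide) (by decide)]; rfl)

theorem cd_vM {i : ℕ} (hi : i < 16) : RA.cd (vM i) = vv i := by
  obtain ⟨-, -, h0, h1, h2, h4, h8, -, -⟩ := v_ok
  rw [vm_cases i, cd_mulA, cd_mulA, cd_mulA, vv_bit i hi]
  congr 1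
  · cases i.testBit 0 <;> simp only [cond_true, cond_false, tp, cd_tA, cd_oneA, h0, h1]
  congr 1
  · cases i.testBit 1 <;> simp only [cond_true, cond_false, cd_uA, cd_oneA, h0, h2]
  congr 1
  · cases i.testBit 2 <;> simp only [cond_true, cond_false, RA.cd_wel, cd_oneA, h0, h4]
  · cases i.testBit 3 <;> simp only [cond_true, cond_false, RA.cd_wel, cd_oneA, h0, h8]

theorem vM_mul {i j : ℕ} (hi : i < 16) (hj : j < 16) : vM i * vM j = vM (Nat.xor i j) :=
  eqA (by rw [cd_mulA, cd_vM hi, cd_vM hj, vv_mul hi hj, cd_vM (xor_lt hi hj)])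

theorem vM_inj {i j : ℕ} (hi : i < 16) (hj : j < 16) (h : vM i = vM j) : i = j := by
  obtain ⟨hl, hn, -⟩ := v_ok
  have e := congrArg RA.cd h
  rw [cd_vM hi, cd_vM hj, vv_getD, vv_getD, List.getD_eq_getElem _ _ (hl.symm ▸ hi),
    List.getD_eq_getElem _ _ (hl.symm ▸ hj)] at e
  exact (List.Nodup.getElem_inj_iff hn).1 e

theorem vM_zero : vM 0 = 1 := by simp [vM, tp]

theorem vM_one : vM 1 = tA := by simp [vM, tp, Nat.testBit]

theorem vM_two : vM 2 = uA := by simp [vM, tp, Nat.testBit]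

theorem vM_sq {i : ℕ} (hi : i < 16) : vM i * vM i = 1 := by
  rw [vM_mul hi hi, show Nat.xor i i = 0 from Nat.xor_self i, vM_zero]

theorem vM_inv {i : ℕ} (hi : i < 16) : (vM i)⁻¹ = vM i := inv_eq_of_mul_eq_one_right (vM_sq hi)

theorem vM_comm {i j : ℕ} (hi : i < 16) (hj : j < 16) : vM i * vM j = vM j * vM i := by
  rw [vM_mul hi hj, vM_mul hj hi, show Nat.xor i j = Nat.xor j i from Nat.xor_comm i j]

theorem cmB_iff {a b : MA} {x y : ℕ} (ha : RA.cd a = x) (hb : RA.cd b = y) : cmB x y = true ↔ Commute a b := by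
  rw [cmB, Nat.beq_eq, ← ha, ← hb, ← cd_mulA, ← cd_mulA]
  exact ⟨fun h => eqA h, fun h => congrArg RA.cd h.eq⟩

theorem wel_inv (w : List ℕ) (hw : ∀ k ∈ w, k < 6) : RA.wel (wInv w) = (RA.wel w)⁻¹ := by
  have hg : ∀ k, k < 6 → ga (ivL.getD k 0) = (ga k)⁻¹ := fun k hk => by
    have h := List.all_eq_true.1 iv_ok k (List.mem_range.2 hk)
    rw [Bool.and_eq_true, Nat.beq_eq] at h
    refine (inv_eq_of_mul_eq_one_right (eqA ?_)).symm
    rw [cd_mulA, cd_gen', cd_gen', h.2, cd_oneA]
  induction w using List.reverseRecOn with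
  | nil => simp [wInv, Rep.wel]
  | append_singleton w k ih =>
    rw [show RA.wel (w ++ [k]) = RA.wel w * ga k by simp [Rep.wel, RA], mul_inv_rev, ← ih (fun x hx => hw x (by simp [hx])),
      ← hg k (hw k (by simp)), ← wel_single, ← wel_append]
    simp [wInv]

theorem cd_cjW {w : List ℕ} (hw : ∀ k ∈ w, k < 6) {a : MA} {x : ℕ} (ha : RA.cd a = x) :
    RA.cd (RA.wel w * a * (RA.wel w)⁻¹) = cjW w x := by
  rw [← wel_inv w hw, cd_mulA, cd_mulA, RA.cd_wel, RA.cd_wel, ha, cjW_eq]

/-- an element commuting with the four basis elements is one of the sixteen -/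
theorem self_cent {a : MA} (h2 : Commute a uA) (h4 : Commute a (vM 4)) (h8 : Commute a (vM 8)) :
    ∃ i < 16, a = vM i := by
  classical
  haveI := Fintype.ofFinite MA
  let C : Subgroup MA := Subgroup.centralizer {uA, vM 4, vM 8}
  let D : Subgroup MA := Subgroup.centralizer {uA}
  obtain ⟨l3, o3, n3⟩ := orb_third
  obtain ⟨l4, o4, n4⟩ := orb_fourth
  simp only [List.all_eq_true, Bool.and_eq_true, Nat.blt_eq] at o3 o4
  have memC : ∀ x : MA, x ∈ C ↔ Commute x uA ∧ Commute x (vM 4) ∧ Commute x (vM 8) := fun x => by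
    rw [Subgroup.mem_centralizer_iff]
    exact ⟨fun h => ⟨(h _ (by simp)).symm, (h _ (by simp)).symm, (h _ (by simp)).symm⟩,
      fun h y hy => by rcases hy with rfl | rfl | rfl <;> [exact h.1.eq.symm; exact h.2.1.eq.symm; exact h.2.2.eq.symm]⟩
  let f : Fin 36 × Fin 8 × C → MA := fun x =>
    RA.wel (orbThird.getD x.1 []) * RA.wel (orbFourth.getD x.2.1 []) * x.2.2
  have hf : Function.Injective f := by
    rintro ⟨i, j, x⟩ ⟨i', j', x'⟩ e
    simp only [f] at e
    have hi : ∀ k : Fin 36, orbThird.getD k [] ∈ orbThird := fun k => by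
      rw [List.getD_eq_getElem _ _ (l3.symm ▸ k.2)]; exact List.getElem_mem _
    have hj : ∀ k : Fin 8, orbFourth.getD k [] ∈ orbFourth := fun k => by
      rw [List.getD_eq_getElem _ _ (l4.symm ▸ k.2)]; exact List.getElem_mem _
    obtain ⟨wc, x4, x8⟩ := (memC _).1 x.2
    obtain ⟨wc', x4', x8'⟩ := (memC _).1 x'.2
    have hB : ∀ k : Fin 8, Commute (RA.wel (orbFourth.getD k [])) (vM 4) := fun k =>
      (cmB_iff (RA.cd_wel _) (cd_vM (by decide))).1 (o4 _ (hj k)).2
    have img3 : ∀ (k : Fin 36) (l : Fin 8) (z : MA), Commute z (vM 4) →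
        RA.wel (orbThird.getD k []) * RA.wel (orbFourth.getD l []) * z * vM 4 *
          (RA.wel (orbThird.getD k []) * RA.wel (orbFourth.getD l []) * z)⁻¹ =
          RA.wel (orbThird.getD k []) * vM 4 * (RA.wel (orbThird.getD k []))⁻¹ := by
      intro k l z hz
      calc _ = RA.wel (orbThird.getD k []) * (RA.wel (orbFourth.getD l []) * (z * vM 4 * z⁻¹) *
            (RA.wel (orbFourth.getD l []))⁻¹) * (RA.wel (orbThird.getD k []))⁻¹ := by group
        _ = _ := by rw [hz.eq, mul_inv_cancel_right, (hB l).eq, mul_inv_cancel_right]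
    have e3 := (img3 i j x x4).symm.trans ((congrArg (fun z => z * vM 4 * z⁻¹) e).trans (img3 i' j' x' x4'))
    have hc := congrArg RA.cd e3
    rw [cd_cjW (o3 _ (hi i)).1 (cd_vM (by decide)), cd_cjW (o3 _ (hi i')).1 (cd_vM (by decide))] at hc
    obtain rfl : i = i' := Fin.ext (nodup_idx n3 (l3.symm ▸ i.2) (l3.symm ▸ i'.2) hc)
    rw [mul_assoc, mul_assoc] at e
    have e' := mul_left_cancel e
    have img4 : ∀ (l : Fin 8) (z : MA), Commute z (vM 8) → RA.wel (orbFourth.getD l []) * z * vM 8 *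
        (RA.wel (orbFourth.getD l []) * z)⁻¹ = RA.wel (orbFourth.getD l []) * vM 8 * (RA.wel (orbFourth.getD l []))⁻¹ := by
      intro l z hz
      rw [mul_inv_rev, mul_assoc _ z (vM 8), hz.eq]
      group
    have e4 := (img4 j x x8).symm.trans ((congrArg (fun z => z * vM 8 * z⁻¹) e').trans (img4 j' x' x8'))
    have hc' := congrArg RA.cd e4
    rw [cd_cjW (o4 _ (hj j)).1.1 (cd_vM (by decide)), cd_cjW (o4 _ (hj j')).1.1 (cd_vM (by decide))] at hc'
    obtain rfl : j = j' := Fin.ext (nodup_idx n4 (l4.symm ▸ j.2) (l4.symm ▸ j'.2) hc')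
    exact Prod.ext rfl (Prod.ext rfl (Subtype.ext (mul_left_cancel e')))
  have hD : ∀ x, f x ∈ D := by
    rintro ⟨i, j, x⟩
    refine Subgroup.mem_centralizer_singleton_iff.2 ?_
    refine (((cmB_iff (RA.cd_wel _) cd_uA).1 (o3 _ ?_).2).mul_left
      ((cmB_iff (RA.cd_wel _) cd_uA).1 (o4 _ ?_).1.2)).mul_left ((memC _).1 x.2).1
    · rw [List.getD_eq_getElem _ _ (l3.symm ▸ i.2)]; exact List.getElem_mem _
    · rw [List.getD_eq_getElem _ _ (l4.symm ▸ j.2)]; exact List.getElem_mem _
  have hle : 36 * (8 * Nat.card C) ≤ Nat.card D := by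
    have := Nat.card_le_card_of_injective (fun x => (⟨f x, hD x⟩ : D)) fun x y h => hf (congrArg Subtype.val h)
    simpa using this
  have horb : 630 * Nat.card D ≤ Nat.card MA := by
    obtain ⟨hp, hrep, -, -⟩ := pts_spec (R := RA) cert_ok.pts
    have hinj : Function.Injective fun kc : Fin cert.pts.length × D =>
        RA.wel (cert.reps.getD kc.1 []) * (kc.2 : MA) := by
      rintro ⟨k, a⟩ ⟨l, b⟩ e
      simp only at e
      have h : ∀ (k : Fin cert.pts.length) (a : D), RA.wel (cert.reps.getD k []) * (a : MA) * uA *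
          (RA.wel (cert.reps.getD k []) * (a : MA))⁻¹ = RA.wel (cert.pw.getD k []) := by
        intro k a
        rw [mul_assoc _ (a : MA) uA, Subgroup.mem_centralizer_singleton_iff.1 a.2, uA, ← mul_assoc, ← hrep k k.2]
        group
      have hc := congrArg RA.cd ((h k a).symm.trans ((congrArg (fun z => z * uA * z⁻¹) e).trans (h l b)))
      rw [← hp k k.2, ← hp l l.2, List.getD_eq_getElem _ _ k.2, List.getD_eq_getElem _ _ l.2] at hc
      obtain rfl : k = l := Fin.ext (pts_nodup.getElem_inj_iff.1 hc)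
      exact Prod.ext rfl (Subtype.ext (mul_left_cancel e))
    have := Nat.card_le_card_of_injective _ hinj
    rwa [Nat.card_prod, Nat.card_fin, lengths.2.2.2.2.2.2.2] at this
  rw [card_MA] at horb
  have hC16 : Nat.card C ≤ 16 := by omega
  let g : Fin 16 → C := fun i => ⟨vM i, (memC _).2 ⟨vM_two ▸ vM_comm i.2 (by decide), vM_comm i.2 (by decide),
    vM_comm i.2 (by decide)⟩⟩
  have hg : Function.Injective g := fun i j h => Fin.ext (vM_inj i.2 j.2 (congrArg Subtype.val h))
  obtain ⟨i, hi⟩ := ((Nat.bijective_iff_injective_and_card g).2 ⟨hg, le_antisymm (Nat.card_le_card_of_injective g hg)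
    (by rw [Nat.card_fin]; exact hC16)⟩).2 ⟨a, (memC a).2 ⟨h2, h4, h8⟩⟩
  exact ⟨i, i.2, (congrArg Subtype.val hi).symm⟩

/-- the subgroup generated by two generators -/
noncomputable def PA : Subgroup MA := Subgroup.closure {ga 0, ga 1}

theorem wel_PA (w : List ℕ) (hw : ∀ k ∈ w, k < 2) : RA.wel w ∈ PA := by
  induction w using List.reverseRecOn with
  | nil => exact one_mem _
  | append_singleton w k ih =>
    rw [show RA.wel (w ++ [k]) = RA.wel w * ga k by simp [Rep.wel, RA]]
    refine mul_mem (ih fun x hx => hw x (by simp [hx])) (Subgroup.subset_closure ?_)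
    have := hw k (by simp)
    interval_cases k
    · exact Or.inl rfl
    · exact Or.inr rfl

theorem vM_PA {i : ℕ} (hi : i < 16) : vM i ∈ PA := by
  have hb : ∀ k < 4, vM (2 ^ k) ∈ PA := fun k hk => by
    have h := List.all_eq_true.1 v_ok.2.2.2.2.2.2.2.2 k (List.mem_range.2 hk)
    simp only [Bool.and_eq_true, List.all_eq_true, Nat.blt_eq, Nat.beq_eq] at h
    have h16 : 2 ^ k < 16 := by interval_cases k <;> norm_num
    rw [eqA (show RA.cd (vM (2 ^ k)) = RA.cd (RA.wel (baseP.getD k [])) by rw [cd_vM h16, RA.cd_wel, h.2])]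
    exact wel_PA _ h.1
  have hx : ∀ a b, a < 16 → b < 16 → vM a ∈ PA → vM b ∈ PA → vM (Nat.xor a b) ∈ PA := fun a b ha hb' h1 h2 => by
    rw [← vM_mul ha hb']; exact mul_mem h1 h2
  have p1 := hb 0 (by decide); have p2 := hb 1 (by decide); have p4 := hb 2 (by decide); have p8 := hb 3 (by decide)
  have h0 : vM 0 ∈ PA := vM_zero ▸ one_mem _
  have q3 := hx 1 2 (by decide) (by decide) p1 p2
  have q5 := hx 1 4 (by decide) (by decide) p1 p4
  have q6 := hx 2 4 (by decide) (by decide) p2 p4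
  have q7 := hx 3 4 (by decide) (by decide) q3 p4
  have hx8 : ∀ a, a < 8 → vM a ∈ PA → vM (Nat.xor a 8) ∈ PA := fun a ha h => hx a 8 (by omega) (by decide) h p8
  interval_cases i
  exacts [h0, p1, p2, q3, p4, q5, q6, q7, p8, hx8 1 (by decide) p1, hx8 2 (by decide) p2, hx8 3 (by decide) q3,
    hx8 4 (by decide) p4, hx8 5 (by decide) q5, hx8 6 (by decide) q6, hx8 7 (by decide) q7]

/-- conjugation of the sixteen by the two generators and the twist, inside the Conway group -/
noncomputable def cg3 (k : ℕ) : CG := if k = 2 then sigM else ((ga k : MA) : CG)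

theorem cdG_cg3 {k : ℕ} (hk : k < 3) : cdG (cg3 k) = g3 k := by
  rw [cg3, g3_eq]
  split
  · next h => subst h; exact cdG_sigM
  · next h =>
    rw [show Nat.beq k 2 = false from Bool.eq_false_iff.2 fun e => h (Nat.eq_of_beq_eq_true e)]
    exact cd_gen' k

/-- the local subgroup of the model -/
noncomputable def NM : Subgroup CG := Subgroup.closure (Set.range fun k : Fin 3 => cg3 k)

/-- the action table entry -/
def act3 (k i : ℕ) : ℕ := (vAct.getD k []).getD i 16

theorem cg3_act {k i : ℕ} (hk : k < 3) (hi : i < 16) :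
    act3 k i < 16 ∧ cg3 k * (vM i : CG) * (cg3 k)⁻¹ = (vM (act3 k i) : CG) := by
  have h := List.all_eq_true.1 (List.all_eq_true.1 act_ok.1 k (List.mem_range.2 hk)) i (List.mem_range.2 hi)
  rw [Bool.and_eq_true, Nat.blt_eq, Nat.beq_eq] at h
  refine ⟨h.1, mul_inv_eq_iff_eq_mul.2 (cdG_inj ?_)⟩
  rw [cdG_mul, cdG_mul, cdG_cg3 hk]
  show mu (g3 k) (RA.cd (vM i)) = mu (RA.cd (vM (act3 k i))) (g3 k)
  rw [cd_vM hi, cd_vM (i := act3 k i) h.1]
  exact h.2

theorem sigM_sq : sigM * sigM = 1 := cdG_inj (by rw [cdG_mul, cdG_sigM, cdG_one, act_ok.2.2.2.2.2.2])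

theorem NM_act {n : CG} (hn : n ∈ NM) : ∀ i : Fin 16, ∃ j : Fin 16, n * (vM i : CG) * n⁻¹ = (vM j : CG) := by
  haveI := Lie.ConwayThreeOut.finite_CG
  rw [NM, ← Subgroup.mem_toSubmonoid, Subgroup.closure_toSubmonoid_of_finite] at hn
  induction hn using Submonoid.closure_induction_left with
  | one => exact fun i => ⟨i, by rw [one_mul, inv_one, mul_one]⟩
  | mul_left x hx y hy ih =>
    obtain ⟨k, rfl⟩ := hx
    intro i
    obtain ⟨j, hj⟩ := ih i
    obtain ⟨hl, he⟩ := cg3_act k.2 j.2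
    exact ⟨⟨_, hl⟩, by rw [← he, ← hj]; group⟩

/-- the representatives in the Conway group -/
noncomputable def repM (i : ℕ) : CG := ((locReps.getD i []).map cg3).prod

theorem cdG_ev3 (w : List ℕ) (hw : ∀ k ∈ w, k < 3) : cdG (w.map cg3).prod = ev3 w := by
  induction w using List.reverseRecOn with
  | nil => rw [List.map_nil, List.prod_nil, cdG_one, ev3_nil]
  | append_singleton w k ih =>
    rw [List.map_append, List.prod_append, List.map_singleton, List.prod_singleton, cdG_mul,
      ih (fun x hx => hw x (by simp [hx])), cdG_cg3 (hw k (by simp)), ev3_append]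

theorem locReps_lt {i : ℕ} : ∀ k ∈ locReps.getD i [], k < 3 := by
  intro k hk
  by_cases hi : i < locReps.length
  · rw [List.getD_eq_getElem _ _ hi] at hk
    have h := List.all_eq_true.1 (List.all_eq_true.1 step_ok.2.2.2.2.1 _ (List.getElem_mem hi)) k hk
    exact Nat.blt_eq ▸ h
  · rw [List.getD_eq_default _ _ (by omega)] at hk
    simp at hk

theorem repM_mem (i : ℕ) : repM i ∈ NM := by
  refine Subgroup.list_prod_mem _ fun x hx => ?_
  obtain ⟨k, hk, rfl⟩ := List.mem_map.1 hx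
  exact Subgroup.subset_closure ⟨⟨k, locReps_lt k hk⟩, rfl⟩

/-- cosets of the two-generator subgroup in the local subgroup -/
theorem NM_cases {n : CG} (hn : n ∈ NM) : ∃ i < 15, ∃ p ∈ PA, n = repM i * (p : CG) := by
  haveI := Lie.ConwayThreeOut.finite_CG
  rw [NM, ← Subgroup.mem_toSubmonoid, Subgroup.closure_toSubmonoid_of_finite] at hn
  induction hn using Submonoid.closure_induction_left with
  | one => exact ⟨0, by decide, 1, one_mem _, by rw [repM, step_ok.2.1, List.map_nil, List.prod_nil]; simp⟩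
  | mul_left x hx y hy ih =>
    obtain ⟨k, rfl⟩ := hx
    obtain ⟨i, hi, p, hp, rfl⟩ := ih
    have h := List.all_eq_true.1 (List.all_eq_true.1 step_ok.2.2.2.2.2.2 i (List.mem_range.2 hi)) k (List.mem_range.2 k.2)
    simp only [Bool.and_eq_true, Nat.blt_eq, Nat.beq_eq, List.all_eq_true] at h
    refine ⟨_, h.1.1, RA.wel ((locStep.getD i []).getD k (15, [])).2 * p, mul_mem (wel_PA _ h.1.2) hp, ?_⟩
    rw [Subgroup.coe_mul, ← mul_assoc, ← mul_assoc]
    congr 1
    apply cdG_inj
    rw [cdG_mul, cdG_mul, repM, repM, cdG_ev3 _ locReps_lt, cdG_ev3 _ locReps_lt, cdG_cg3 k.2]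
    show mu (g3 k) _ = mu _ (RA.cd (RA.wel _))
    rw [RA.cd_wel, h.2]

theorem PA_NM {p : MA} (hp : p ∈ PA) : (p : CG) ∈ NM := by
  have hle : PA ≤ NM.comap Hm.subtype := by
    rw [PA, Subgroup.closure_le]
    rintro x (rfl | rfl)
    · exact Subgroup.subset_closure ⟨0, by simp [cg3]⟩
    · exact Subgroup.subset_closure ⟨1, by simp [cg3]⟩
  exact hle hp

theorem sigM_NM : sigM ∈ NM := Subgroup.subset_closure ⟨2, by simp [cg3]⟩

theorem rep_img {i : ℕ} (hi : i < 15) :
    locImg.getD i 16 < 16 ∧ repM i * (tA : CG) * (repM i)⁻¹ = (vM (locImg.getD i 16) : CG) := by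
  have h := List.all_eq_true.1 step_ok.2.2.2.2.2.1 i (List.mem_range.2 hi)
  rw [Bool.and_eq_true, Nat.blt_eq, Nat.beq_eq] at h
  refine ⟨h.1, mul_inv_eq_iff_eq_mul.2 (cdG_inj ?_)⟩
  rw [cdG_mul, cdG_mul, repM, cdG_ev3 _ locReps_lt]
  show mu _ (RA.cd tA) = mu (RA.cd (vM _)) _
  rw [cd_tA, cd_vM h.1, h.2]

/-- an element of the local subgroup fixing the involution lies in the two-generator subgroup -/
theorem NM_fix {n : CG} (hn : n ∈ NM) (ht : n * (tA : CG) * n⁻¹ = (tA : CG)) : ∃ p ∈ PA, n = (p : CG) := by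
  obtain ⟨i, hi, p, hp, rfl⟩ := NM_cases hn
  obtain ⟨h16, e⟩ := rep_img hi
  have hp' : (p : CG) * (tA : CG) * (p : CG)⁻¹ = (tA : CG) := by
    rw [← Subgroup.coe_mul, tA_comm p, Subgroup.coe_mul, mul_inv_cancel_right]
  have h0 : repM i * (tA : CG) * (repM i)⁻¹ = (tA : CG) := by
    calc repM i * (tA : CG) * (repM i)⁻¹ = repM i * ((p : CG) * (tA : CG) * (p : CG)⁻¹) * (repM i)⁻¹ := by rw [hp']
      _ = repM i * (p : CG) * (tA : CG) * (repM i * (p : CG))⁻¹ := by group
      _ = _ := ht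
  obtain ⟨z16, e0⟩ := rep_img (i := 0) (by decide)
  have hr0 : repM 0 = 1 := by rw [repM, step_ok.2.1, List.map_nil, List.prod_nil]
  rw [hr0, one_mul, inv_one, mul_one] at e0
  have := vM_inj h16 z16 (Subtype.ext (e.symm.trans (h0.trans e0)))
  obtain ⟨-, -, hnd, hlen, -⟩ := step_ok
  rw [List.getD_eq_getElem _ _ (hlen.symm ▸ hi), List.getD_eq_getElem _ _ (hlen.symm ▸ (by decide : 0 < 15))] at this
  obtain rfl := hnd.getElem_inj_iff.1 this
  exact ⟨p, hp, by rw [hr0, one_mul]⟩

end Cfsg.Agent.Spor.CoThreeCent
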