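import Cfsg.Agent.Lib.Spor.CoThreeCent.LocalExt
import Cfsg.Agent.Lib.Spor.M23CohGaschuetz

/-!
The local subgroup of the model embeds into the group compatibly with the identification of the centralizer.
-/

set_option autoImplicit false
set_option maxRecDepth 100000
set_option maxHeartbeats 1000000
set_option linter.style.haveILetI false

namespace Cfsg.Agent.Spor.CoThreeCent

open DCoset
open Lie.ConwayThreeOut (CG)

attribute [local irreducible] mu pack cert idC tC sigC xL uC vC vv g3 ev3 cjW vM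

/-- the sixteen as a subgroup -/
noncomputable def VS : Subgroup MA where
  carrier := {a | ∃ i < 16, vM i = a}
  one_mem' := ⟨0, by decide, vM_zero⟩
  mul_mem' := by
    rintro _ _ ⟨i, hi, rfl⟩ ⟨j, hj, rfl⟩
    exact ⟨_, xor_lt hi hj, (vM_mul hi hj).symm⟩
  inv_mem' := by
    rintro _ ⟨i, hi, rfl⟩
    exact ⟨i, hi, (vM_inv hi).symm⟩

theorem VS_PA : VS ≤ PA := by
  rintro _ ⟨i, hi, rfl⟩
  exact vM_PA hi

/-- the two-generator subgroup in the Conway group -/
noncomputable def PC : Subgroup CG := PA.map Hm.subtype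

theorem PC_NM : PC ≤ NM := by
  rintro _ ⟨p, hp, rfl⟩
  exact PA_NM hp

theorem relIndex_PC : PC.relIndex NM = 15 := by
  rw [Subgroup.relIndex, Subgroup.index_eq_card, ← Nat.card_fin 15]
  refine (Nat.card_eq_of_bijective
    (fun i : Fin 15 => ((⟨repM i, repM_mem i⟩ : NM) : ↥NM ⧸ PC.subgroupOf NM)) ⟨fun i j e => ?_, fun x => ?_⟩).symm
  · obtain ⟨p, -, hp⟩ := Subgroup.mem_subgroupOf.1 (QuotientGroup.eq.1 e)
    have hp' : repM j = repM i * (p : CG) := by
      rw [show (p : CG) = (repM i)⁻¹ * repM j from hp, mul_inv_cancel_left]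
    have hc : (p : CG) * (tA : CG) * (p : CG)⁻¹ = (tA : CG) := by
      rw [← Subgroup.coe_mul, tA_comm p, Subgroup.coe_mul, mul_inv_cancel_right]
    obtain ⟨a1, a2⟩ := rep_img i.2
    obtain ⟨b1, b2⟩ := rep_img j.2
    have hl := vM_inj a1 b1 (Subtype.ext (by
      rw [← a2, ← b2, hp']
      conv_lhs => rw [← hc]
      group))
    obtain ⟨-, -, hnd, hlen, -⟩ := step_ok
    rw [List.getD_eq_getElem _ _ (hlen.symm ▸ i.2), List.getD_eq_getElem _ _ (hlen.symm ▸ j.2)] at hl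
    exact Fin.ext (hnd.getElem_inj_iff.1 hl)
  · obtain ⟨⟨n, hn⟩, rfl⟩ := QuotientGroup.mk_surjective x
    obtain ⟨i, hi, p, hp, e⟩ := NM_cases hn
    refine ⟨⟨i, hi⟩, QuotientGroup.eq.2 (Subgroup.mem_subgroupOf.2 ⟨p, hp, ?_⟩)⟩
    show (p : CG) = (repM i)⁻¹ * n
    rw [e, inv_mul_cancel_left]

namespace Emb

variable {G : Type*} [Group G] (E : Emb G)

/-- the centralizer of the image of the sixteen -/
theorem cent_V {g : G} (h : ∀ i < 16, g * E.φ (vM i) * g⁻¹ = E.φ (vM i)) : ∃ i < 16, g = E.φ (vM i) := by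
  have hc : ∀ i < 16, Commute g (E.φ (vM i)) := fun i hi => mul_inv_eq_iff_eq_mul.1 (h i hi)
  obtain ⟨a, rfl⟩ := E.mem_range (g := g) (by have := hc 1 (by decide); rwa [E.phi_vM_one] at this)
  have hA : ∀ i < 16, Commute a (vM i) := fun i hi => E.inj (by rw [map_mul, map_mul]; exact (hc i hi).eq)
  obtain ⟨i, hi, rfl⟩ := self_cent (vM_two ▸ hA 2 (by decide)) (hA 4 (by decide)) (hA 8 (by decide))
  exact ⟨i, hi, rfl⟩

variable {E}

theorem Agree.unique {n : CG} {g g' : G} (h : E.Agree n g) (h' : E.Agree n g') :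
    ∃ i < 16, g' = g * E.φ (vM i) := by
  obtain ⟨i, hi, e⟩ := E.cent_V (g := g⁻¹ * g') fun i hi => by
    obtain ⟨j, hj, a, b⟩ := h i hi
    obtain ⟨k, hk, a', b'⟩ := h' i hi
    obtain rfl := vM_inj hj hk (Subtype.ext (a.symm.trans a'))
    calc g⁻¹ * g' * E.φ (vM i) * (g⁻¹ * g')⁻¹ = g⁻¹ * (g' * E.φ (vM i) * g'⁻¹) * g := by group
      _ = E.φ (vM i) := by rw [b', ← b]; group
  exact ⟨i, hi, by rw [← e, mul_inv_cancel_left]⟩

variable (E)

/-- a homomorphism of the local subgroup acting alike, extending the map on the sixteen -/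
theorem exists_split [Finite G] {g0 : G} (hg : g0 * E.t * g0⁻¹ = E.φ uA) :
    ∃ Φ : ↥NM →* G, (∀ n : NM, E.Agree n (Φ n)) ∧
      ∀ i (hi : i < 16), Φ ⟨(vM i : CG), PA_NM (vM_PA hi)⟩ = E.φ (vM i) := by
  classical
  haveI := Lie.ConwayThreeOut.finite_CG
  set N := E.pairs with hN
  let f : ↥N →* CG := (MonoidHom.fst CG G).comp N.subtype
  have hfr : f.range = NM := le_antisymm (by rintro _ ⟨x, rfl⟩; exact x.2.1)
    (fun n hn => by obtain ⟨g, h⟩ := E.exists_agree hg hn; exact ⟨⟨_, h⟩, rfl⟩)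
  let Δ : Subgroup ↥N := (VS.map E.pr).subgroupOf N
  let T : Subgroup ↥N := (PA.map E.pr).subgroupOf N
  let Z : Subgroup ↥N := f.ker
  haveI hΔ : Δ.Normal := ⟨by
    rintro v ⟨a, ⟨i, hi, rfl⟩, hv⟩ x
    obtain ⟨j, hj, e1, e2⟩ := x.2.2 i hi
    refine ⟨vM j, ⟨j, hj, rfl⟩, ?_⟩
    show E.pr (vM j) = (x : CG × G) * (v : CG × G) * (x : CG × G)⁻¹
    rw [← show E.pr (vM i) = (v : CG × G) from hv]
    exact Prod.ext e1.symm e2.symm⟩
  let π := QuotientGroup.mk' Δ
  have hπ : Function.Surjective π := QuotientGroup.mk'_surjective Δ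
  haveI : (Z.map π).Normal := Subgroup.Normal.map (f.normal_ker) π hπ
  have zval : ∀ x ∈ Z, ∃ i < 16, (x : CG × G) = (1, E.φ (vM i)) := fun x hx => by
    have h1 : x.1.1 = 1 := hx
    obtain ⟨i, hi, e⟩ := E.cent_V (g := x.1.2) fun i hi => by
      obtain ⟨j, hj, a, b⟩ := x.2.2 i hi
      rw [h1, one_mul, inv_one, mul_one] at a
      obtain rfl := vM_inj hi hj (Subtype.ext a)
      exact b
    exact ⟨i, hi, Prod.ext h1 e⟩
  have zmem : ∀ i < 16, ((1 : CG), E.φ (vM i)) ∈ N := fun i hi => ⟨one_mem _, fun j hj =>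
    ⟨j, hj, by simp, by rw [← map_mul, vM_comm hi hj, map_mul, mul_inv_cancel_right]⟩⟩
  let zc : Fin 16 → ↥(Z.map π) := fun i => ⟨π ⟨_, zmem i i.2⟩, Subgroup.mem_map_of_mem _ rfl⟩
  have hzc : Function.Bijective zc := by
    constructor
    · intro i j e
      obtain ⟨a, -, ha⟩ := Subgroup.mem_subgroupOf.1
        (QuotientGroup.eq.1 (show π ⟨_, zmem i i.2⟩ = π ⟨_, zmem j j.2⟩ from congrArg Subtype.val e))
      have ha1 : a = 1 := Subtype.ext (show (a : CG) = 1 by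
        have := congrArg Prod.fst ha
        simpa [pr] using this)
      have ha2 : E.φ a = (E.φ (vM i))⁻¹ * E.φ (vM j) := congrArg Prod.snd ha
      rw [ha1, map_one] at ha2
      exact Fin.ext (vM_inj i.2 j.2 (E.inj (inv_mul_eq_one.1 ha2.symm)))
    · rintro ⟨_, x, hx, rfl⟩
      obtain ⟨i, hi, e⟩ := zval x hx
      exact ⟨⟨i, hi⟩, Subtype.ext (congrArg π (Subtype.ext e.symm))⟩
  have hker : π.ker ≤ Z ⊔ T := by
    rw [QuotientGroup.ker_mk']
    exact le_trans (Subgroup.comap_mono (Subgroup.map_mono VS_PA)) le_sup_right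
  have hsup : Z ⊔ T = PC.comap f := by
    refine le_antisymm (sup_le (fun x hx => ?_) ?_) fun x hx => ?_
    · rw [Subgroup.mem_comap, MonoidHom.mem_ker.1 hx]; exact one_mem _
    · rintro x ⟨p, hp, e⟩
      exact ⟨p, hp, congrArg Prod.fst e⟩
    · obtain ⟨p, hp, e⟩ := hx
      have hpt : (⟨E.pr p, E.pr_mem hp⟩ : ↥N) ∈ T := ⟨p, hp, rfl⟩
      have hz : x * (⟨E.pr p, E.pr_mem hp⟩ : ↥N)⁻¹ ∈ Z := by
        refine MonoidHom.mem_ker.2 ?_
        rw [map_mul, map_inv, mul_inv_eq_one]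
        exact e.symm
      have := mul_mem (Subgroup.mem_sup_left (T := T) hz) (Subgroup.mem_sup_right (S := Z) hpt)
      rwa [inv_mul_cancel_right] at this
  obtain ⟨K, hK1, hK2⟩ := M23Coh.gaschuetz (Z.map π) (T.map π) (by
      rintro _ ⟨x, hx, rfl⟩ _ ⟨y, hy, rfl⟩
      rw [← map_mul, ← map_mul]
      congr 1
      obtain ⟨i, hi, ex⟩ := zval x hx
      obtain ⟨j, hj, ey⟩ := zval y hy
      refine Subtype.ext ?_
      show (x : CG × G) * (y : CG × G) = (y : CG × G) * (x : CG × G)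
      rw [ex, ey, Prod.mk_mul_mk, Prod.mk_mul_mk, ← map_mul, ← map_mul, vM_comm hi hj])
    (by
      rw [eq_bot_iff]
      rintro _ ⟨⟨x, hx, rfl⟩, ⟨y, ⟨p, hp, hy⟩, e⟩⟩
      rw [Subgroup.mem_bot]
      obtain ⟨i, hi, ex⟩ := zval x hx
      obtain ⟨a, ⟨j, hj, rfl⟩, ha⟩ := Subgroup.mem_subgroupOf.1 (QuotientGroup.eq.1 e)
      have ha' : E.pr (vM j) = (y : CG × G)⁻¹ * (x : CG × G) := ha
      rw [← show E.pr p = (y : CG × G) from hy, ex] at ha'
      have h1 : vM j = p⁻¹ := Subtype.ext (by simpa [pr] using congrArg Prod.fst ha')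
      have h2 : E.φ (vM j) = (E.φ p)⁻¹ * E.φ (vM i) := congrArg Prod.snd ha'
      rw [h1, map_inv, left_eq_mul] at h2
      rw [← e]
      refine (QuotientGroup.eq_one_iff _).2 ⟨p, ⟨j, hj, ?_⟩, hy⟩
      rw [← inv_inv p, ← h1, vM_inv hj])
    (by
      rw [← Subgroup.map_sup, Subgroup.index_map_eq _ hπ hker, hsup, Subgroup.index_comap, hfr, relIndex_PC,
        Nat.card_eq_of_bijective zc hzc |>.symm, Nat.card_fin]
      decide)
  let Kt : Subgroup (CG × G) := (K.comap π).map N.subtype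
  have hex : ∀ n : NM, ∃ g, ((n : CG), g) ∈ Kt := fun n => by
    obtain ⟨x, hx⟩ : (n : CG) ∈ f.range := hfr.symm ▸ n.2
    obtain ⟨k, hk, z, hz, e⟩ := Subgroup.mem_sup_of_normal_right.1 (hK2 ▸ Subgroup.mem_top (π x))
    obtain ⟨z', hz', rfl⟩ := hz
    refine ⟨(x * z'⁻¹ : ↥N).1.2, ⟨x * z'⁻¹, ?_, Prod.ext ?_ rfl⟩⟩
    · show π (x * z'⁻¹) ∈ K
      rw [map_mul, map_inv, ← e, mul_inv_cancel_right]
      exact hk
    · show f (x * z'⁻¹) = (n : CG)
      rw [map_mul, map_inv, MonoidHom.mem_ker.1 hz', inv_one, mul_one, hx]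
  have hone : ∀ g, ((1 : CG), g) ∈ Kt → g = 1 := by
    rintro g ⟨x, hx, e⟩
    have hxZ : x ∈ Z := MonoidHom.mem_ker.2 (congrArg Prod.fst e)
    have h1 : π x = 1 := by
      have h : π x ∈ K ⊓ Z.map π := ⟨hx, x, hxZ, rfl⟩
      rwa [hK1, Subgroup.mem_bot] at h
    obtain ⟨a, -, ha⟩ := (QuotientGroup.eq_one_iff x).1 h1
    have ha' : E.pr a = ((1 : CG), g) := ha.trans e
    obtain rfl : a = 1 := Subtype.ext (congrArg Prod.fst ha')
    exact (congrArg Prod.snd ha').symm.trans (map_one _)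
  choose Φ hΦ using hex
  have huniq : ∀ (n : NM) g, ((n : CG), g) ∈ Kt → g = Φ n := fun n g h => by
    have := hone (g * (Φ n)⁻¹) (by simpa using Kt.mul_mem h (Kt.inv_mem (hΦ n)))
    exact mul_inv_eq_one.1 this
  refine ⟨MonoidHom.mk' Φ fun n m => (huniq (n * m) _ (Kt.mul_mem (hΦ n) (hΦ m))).symm, fun n => ?_, fun i hi => ?_⟩
  · obtain ⟨x, -, e⟩ := hΦ n
    have := x.2.2
    rwa [show (x : CG × G) = ((n : CG), Φ n) from e] at this
  · refine (huniq _ _ ⟨⟨E.pr (vM i), E.pr_mem (vM_PA hi)⟩, ?_, rfl⟩).symm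
    show π _ ∈ K
    have : π ⟨E.pr (vM i), E.pr_mem (vM_PA hi)⟩ = 1 := (QuotientGroup.eq_one_iff _).2 ⟨vM i, ⟨i, hi, rfl⟩, rfl⟩
    rw [this]
    exact one_mem _

theorem dlW_snoc (w : List ℕ) (k i j : ℕ) :
    dlW (w ++ [k]) i j = Nat.xor ((vActI.getD k []).getD (dlW w i j) 0) (bif Nat.beq k 0 then i else j) := by
  rw [dlW, dlW, List.foldl_append, List.foldl_cons, List.foldl_nil]

theorem vActI_spec {k i : ℕ} (hk : k < 2) (hi : i < 16) :
    (vActI.getD k []).getD i 0 < 16 ∧ vM i * ga k = ga k * vM ((vActI.getD k []).getD i 0) := by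
  have h := List.all_eq_true.1 (List.all_eq_true.1 act_ok.2.1 k (List.mem_range.2 hk)) i (List.mem_range.2 hi)
  rw [Bool.and_eq_true, Nat.blt_eq, Nat.beq_eq] at h
  have hl : i < (vActI.getD k []).length := by
    by_contra hc
    rw [List.getD_eq_default _ _ (by omega)] at h
    omega
  have e0 : (vActI.getD k []).getD i 0 = (vActI.getD k []).getD i 16 := by
    rw [List.getD_eq_getElem _ _ hl, List.getD_eq_getElem _ _ hl]
  rw [e0]
  refine ⟨h.1, eqA ?_⟩
  rw [cd_mulA, cd_mulA, cd_vM hi, cd_vM h.1, cd_gen', g3_eq] at *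
  rw [show Nat.beq k 2 = false from Bool.eq_false_iff.2 fun e => absurd (Nat.eq_of_beq_eq_true e) (by omega)] at h
  exact h.2

/-- a homomorphism of the local subgroup agreeing with the identification of the centralizer -/
theorem exists_local [Finite G] {g0 : G} (hg : g0 * E.t * g0⁻¹ = E.φ uA) :
    ∃ Φ : ↥NM →* G, ∀ p (hp : p ∈ PA), Φ ⟨(p : CG), PA_NM hp⟩ = E.φ p := by
  obtain ⟨Φ, hag, hV⟩ := E.exists_split hg
  let ψ : ↥PA →* G := Φ.comp ((Hm.subtype.comp PA.subtype).codRestrict NM fun p => PA_NM p.2)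
  have hga : ∀ k < 2, ga k ∈ PA := fun k hk => by rw [← wel_single]; exact wel_PA _ (by simpa using hk)
  have hex : ∀ k (hk : k < 2), ∃ i < 16, ψ ⟨ga k, hga k hk⟩ = E.φ (ga k) * E.φ (vM i) := fun k hk =>
    Agree.unique (E.pr_mem (hga k hk)).2 (hag ⟨_, PA_NM (hga k hk)⟩)
  obtain ⟨i, hi, ea⟩ := hex 0 (by decide)
  obtain ⟨j, hj, eb⟩ := hex 1 (by decide)
  have ψV : ∀ r (hr : r < 16), ψ ⟨vM r, vM_PA hr⟩ = E.φ (vM r) := hV
  have key : ∀ w, (hw : ∀ k ∈ w, k < 2) → dlW w i j < 16 ∧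
      ψ ⟨RA.wel w, wel_PA w hw⟩ = E.φ (RA.wel w * vM (dlW w i j)) := by
    intro w
    induction w using List.reverseRecOn with
    | nil =>
      intro _
      refine ⟨by simp [dlW], ?_⟩
      rw [show (⟨RA.wel [], wel_PA [] (by simp)⟩ : ↥PA) = 1 from rfl, map_one,
        show dlW [] i j = 0 from rfl, vM_zero, show RA.wel [] = 1 from rfl, one_mul, map_one]
    | append_singleton w k ih =>
      intro hw
      obtain ⟨hr, e⟩ := ih fun x hx => hw x (by simp [hx])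
      have hk : k < 2 := hw k (by simp)
      obtain ⟨hI, eI⟩ := vActI_spec hk hr
      obtain ⟨d, hd, hdd, ek⟩ : ∃ d < 16, (bif Nat.beq k 0 then i else j) = d ∧
          ψ ⟨ga k, hga k hk⟩ = E.φ (ga k) * E.φ (vM d) := by
        interval_cases k
        · exact ⟨i, hi, rfl, ea⟩
        · exact ⟨j, hj, rfl, eb⟩
      rw [dlW_snoc, hdd]
      refine ⟨xor_lt hI hd, ?_⟩
      rw [show (⟨RA.wel (w ++ [k]), wel_PA _ hw⟩ : ↥PA) = ⟨RA.wel w, wel_PA w fun x hx => hw x (by simp [hx])⟩ * ⟨ga k, hga k hk⟩ from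
        Subtype.ext ((wel_append w [k]).trans (congrArg _ (wel_single k))), map_mul, e, ek, ← map_mul, ← map_mul, wel_append,
        wel_single, ← vM_mul hI hd]
      congr 1
      calc RA.wel w * vM (dlW w i j) * (ga k * vM d) = RA.wel w * (vM (dlW w i j) * ga k) * vM d := by group
        _ = _ := by rw [eI]; group
  obtain ⟨hrel, hcob⟩ := rels_ok
  have hsol : (relsP.all fun w => Nat.beq (dlW w i j) 0) = true := by
    refine List.all_eq_true.2 fun w hw => ?_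
    have h := List.all_eq_true.1 hrel w hw
    simp only [Bool.and_eq_true, List.all_eq_true, Nat.blt_eq, Nat.beq_eq] at h
    obtain ⟨hl, e⟩ := key w h.1
    have h1 : RA.wel w = 1 := eqA (by rw [RA.cd_wel, h.2, cd_oneA])
    rw [show (⟨RA.wel w, wel_PA w h.1⟩ : ↥PA) = 1 from Subtype.ext h1, map_one, h1, one_mul] at e
    rw [Nat.beq_eq]
    exact vM_inj hl (by decide) (E.inj (by rw [← e, vM_zero, map_one]))
  have hc := List.all_eq_true.1 (List.all_eq_true.1 hcob i (List.mem_range.2 hi)) j (List.mem_range.2 hj)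
  rw [hsol] at hc
  simp only [Bool.not_true, Bool.false_or, Bool.and_eq_true, Nat.blt_eq, Nat.beq_eq] at hc
  obtain ⟨⟨hc16, hci⟩, hcj⟩ := hc
  set c := (cobT.getD i []).getD j 16
  refine ⟨(MulAut.conj (E.φ (vM c))).toMonoidHom.comp Φ, fun p hp => ?_⟩
  let S : Subgroup ↥PA := ((MulAut.conj (E.φ (vM c))).toMonoidHom.comp ψ).eqLocus (E.φ.comp PA.subtype)
  suffices hS : ∀ (k : ℕ) (hk : k < 2), (⟨ga k, hga k hk⟩ : ↥PA) ∈ S by
    have hle : PA ≤ S.map PA.subtype := by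
      conv_lhs => rw [PA]
      rw [Subgroup.closure_le]
      rintro x (rfl | rfl)
      · exact ⟨_, hS 0 (by decide), rfl⟩
      · exact ⟨_, hS 1 (by decide), rfl⟩
    obtain ⟨⟨q, hq⟩, hqS, rfl⟩ := hle hp
    exact hqS
  intro k hk
  have main : ∀ d, d < 16 → ψ ⟨ga k, hga k hk⟩ = E.φ (ga k) * E.φ (vM d) →
      Nat.xor ((vActI.getD k []).getD c 0) c = d → (⟨ga k, hga k hk⟩ : ↥PA) ∈ S := fun d hd e hx => by
    obtain ⟨hI, eI⟩ := vActI_spec hk hc16
    show E.φ (vM c) * ψ ⟨ga k, hga k hk⟩ * (E.φ (vM c))⁻¹ = E.φ (ga k)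
    rw [e, ← map_inv, vM_inv hc16, ← map_mul, ← map_mul, ← map_mul]
    congr 1
    rw [← hx, ← vM_mul hI hc16]
    calc vM c * (ga k * (vM ((vActI.getD k []).getD c 0) * vM c)) * vM c
        = vM c * ga k * vM ((vActI.getD k []).getD c 0) * (vM c * vM c) := by group
      _ = ga k := by rw [eI, vM_sq hc16, mul_one, mul_assoc, vM_sq hI, mul_one]
  have fix0 : ∀ k, k < 2 → (vActI.getD k []).getD c 0 = (vActI.getD k []).getD c 16 := by
    intro k hk
    have h := List.all_eq_true.1 (List.all_eq_true.1 act_ok.2.1 k (List.mem_range.2 hk)) c (List.mem_range.2 hc16)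
    rw [Bool.and_eq_true, Nat.blt_eq] at h
    have hl : c < (vActI.getD k []).length := by
      by_contra hc'
      rw [List.getD_eq_default _ _ (by omega)] at h
      omega
    rw [List.getD_eq_getElem _ _ hl, List.getD_eq_getElem _ _ hl]
  interval_cases k
  · exact main i hi ea (by rw [fix0 0 (by decide)]; exact hci)
  · exact main j hj eb (by rw [fix0 1 (by decide)]; exact hcj)

end Emb

end Cfsg.Agent.Spor.CoThreeCent
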