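import Cfsg.Agent.Lib.Spor.CoThreeCent.LocalSplit

/-!
The twist involution in the group satisfies the twist equations and the relations of the certificate.
-/

set_option autoImplicit false
set_option maxRecDepth 100000
set_option maxHeartbeats 1000000
set_option linter.style.haveILetI false

namespace Cfsg.Agent.Spor.CoThreeCent

open DCoset
open Lie.ConwayThreeOut (CG)

theorem rTarget_vals : rTarget 0 = vv 4 ∧ rTarget 1 = vv 8 ∧
    rTarget 2 = mu (mu (cert.ev mu rW) (vv 4)) (cert.ev mu (rW ++ rW)) ∧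
    rTarget 3 = mu (mu (cert.ev mu rW) (vv 8)) (cert.ev mu (rW ++ rW)) := ⟨rfl, rfl, rfl, rfl⟩

attribute [local irreducible] mu pack cert idC tC sigC xL uC vC vv g3 ev3 cjW vM rW rTW rTest cgP relP rTarget

theorem sigM_inv : (sigM)⁻¹ = sigM := inv_eq_of_mul_eq_one_right sigM_sq

theorem sig_vM : sigM * (vM 1 : CG) * sigM = (vM 2 : CG) ∧ sigM * (vM 2 : CG) * sigM = (vM 1 : CG) := by
  obtain ⟨-, -, a1, a2, -⟩ := act_ok
  have h : ∀ i, i < 16 → sigM * (vM i : CG) * sigM = (vM (act3 2 i) : CG) := fun i hi => by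
    have := (cg3_act (k := 2) (by decide) hi).2
    rwa [cg3, if_pos rfl, sigM_inv] at this
  exact ⟨(h 1 (by decide)).trans (by rw [act3, a1]), (h 2 (by decide)).trans (by rw [act3, a2])⟩

/-- the relation products vanish in the model -/
theorem model_rel {zs : List (List ℕ × List ℕ)} (hzs : zs ∈ cert.rels) :
    (zs.map fun z => (RA.wel z.1 : CG) * sigM).prod = 1 ∧ ∀ z ∈ zs, RA.wel z.1 ∈ PA := by
  obtain ⟨i, hi, rfl⟩ := List.getElem_of_mem hzs
  have h := List.all_eq_true.1 rel_ok.2 i (List.mem_range.2 hi)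
  simp only [Bool.and_eq_true, Nat.beq_eq, List.all_eq_true, Nat.blt_eq] at h
  rw [List.getD_eq_getElem _ _ hi] at h
  obtain ⟨⟨hlen, hz⟩, hp⟩ := h
  refine ⟨cdG_inj ?_, fun z hzm => ?_⟩
  · rw [cdG_one, ← hp]
    generalize cert.rels[i] = zs
    induction zs with
    | nil => exact cdG_one
    | cons z zs ih =>
      rw [List.map_cons, List.prod_cons, cdG_mul, cdG_mul, cdG_sigM, ih, List.foldr_cons]
      show mu (mu (RA.cd (RA.wel z.1)) sigC) _ = _
      rw [RA.cd_wel]
  · obtain ⟨k, hk, rfl⟩ := List.getElem_of_mem hzm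
    have hmem : ((relP.getD i [])[k]'(hlen ▸ hk), cert.rels[i][k]) ∈ (relP.getD i []).zip cert.rels[i] :=
      List.mem_iff_getElem.2 ⟨k, by rw [List.length_zip, hlen, Nat.min_self]; exact hk, by simp⟩
    obtain ⟨hw, he⟩ := hz _ hmem
    have e : RA.wel ((relP.getD i [])[k]'(hlen ▸ hk)) = RA.wel (cert.rels[i][k]).1 := eqA (by
      rw [RA.cd_wel, RA.cd_wel]; exact he)
    rw [← e]
    exact wel_PA _ hw

/-- the twist equations hold in the model -/
theorem model_cg {w : List ℕ × List ℕ} (hw : w ∈ cert.cg) :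
    (RA.wel w.1 : CG) * sigM = sigM * (RA.wel w.2 : CG) ∧
      ∃ e < 3, ∃ p ∈ PA, Commute p uA ∧ RA.wel w.1 = (RA.wel rW) ^ e * p := by
  obtain ⟨j, hj, rfl⟩ := List.getElem_of_mem hw
  have h := List.all_eq_true.1 cg_ok.2 j (List.mem_range.2 hj)
  simp only [Bool.and_eq_true, Nat.beq_eq, List.all_eq_true, Nat.blt_eq] at h
  rw [List.getD_eq_getElem _ _ hj] at h
  obtain ⟨⟨⟨⟨he, hp⟩, hpu⟩, hv⟩, ht⟩ := h
  refine ⟨cdG_inj ?_, _, he, _, wel_PA _ hp, (cmB_iff (RA.cd_wel _) cd_uA).1 hpu, eqA ?_⟩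
  · rw [cdG_mul, cdG_mul, cdG_sigM]
    show mu (RA.cd (RA.wel _)) sigC = mu sigC (RA.cd (RA.wel _))
    rw [RA.cd_wel, RA.cd_wel]
    exact ht
  · rw [RA.cd_wel, hv, ← RA.cd_wel, wel_append]
    congr 2
    generalize (cgP.getD j (0, [])).1 = e
    induction e with
    | zero => simp [Rep.wel]
    | succ e ih => rw [List.replicate_succ, List.flatten_cons, wel_append, ih, pow_succ']

namespace Emb

variable {G : Type*} [Group G] (E : Emb G)

/-- the data of a twist involution -/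
structure Sig where
  σ : G
  sq : σ * σ = 1
  swap : σ * E.t * σ⁻¹ = E.φ uA
  twist : ∀ w ∈ cert.cg, E.φ (RA.wel w.1) * σ = σ * E.φ (RA.wel w.2)
  rel : ∀ zs ∈ cert.rels, (zs.map fun z => E.φ (RA.wel z.1) * σ).prod = 1

theorem exists_sig [Finite G] {g0 : G} (hg : g0 * E.t * g0⁻¹ = E.φ uA) : Nonempty E.Sig := by
  obtain ⟨Φ, hΦ⟩ := E.exists_local hg
  let s : G := Φ ⟨sigM, sigM_NM⟩
  let K : Subgroup (CG × G) := (NM.subtype.prod Φ).range
  have kP : ∀ p ∈ PA, ((p : CG), E.φ p) ∈ K := fun p hp =>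
    ⟨⟨_, PA_NM hp⟩, Prod.ext rfl (hΦ p hp)⟩
  have kS : (sigM, s) ∈ K := ⟨⟨sigM, sigM_NM⟩, rfl⟩
  have kU : ∀ {n : CG} {g g' : G}, (n, g) ∈ K → (n, g') ∈ K → g = g' := by
    rintro n g g' ⟨a, ha⟩ ⟨b, hb⟩
    obtain rfl : a = b := Subtype.ext ((congrArg Prod.fst ha).trans (congrArg Prod.fst hb).symm)
    exact (congrArg Prod.snd ha).symm.trans (congrArg Prod.snd hb)
  have ss : s * s = 1 := kU (n := sigM * sigM) (K.mul_mem kS kS) (by rw [sigM_sq]; exact K.one_mem)
  have si : s⁻¹ = s := inv_eq_of_mul_eq_one_right ss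
  have img : ∀ {p q : MA}, p ∈ PA → q ∈ PA → sigM * (p : CG) * sigM = (q : CG) → s * E.φ p * s = E.φ q :=
    fun {p q} hp hq e => kU (n := (q : CG)) (e ▸ K.mul_mem (K.mul_mem kS (kP p hp)) kS) (kP q hq)
  have s12 : s * E.t * s = E.φ (vM 2) := E.phi_vM_one ▸ img (vM_PA (by decide)) (vM_PA (by decide)) sig_vM.1
  have s21 : s * E.φ (vM 2) * s = E.t := E.phi_vM_one ▸ img (vM_PA (by decide)) (vM_PA (by decide)) sig_vM.2
  have toPA : ∀ p ∈ PA, Commute p uA → ∃ q ∈ PA, sigM * (p : CG) * sigM = (q : CG) ∧ s * E.φ p * s = E.φ q := by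
    intro p hp hu
    have hm : sigM * (p : CG) * sigM ∈ NM := mul_mem (mul_mem sigM_NM (PA_NM hp)) sigM_NM
    obtain ⟨q, hq, e⟩ := NM_fix hm (mul_inv_eq_iff_eq_mul.2 (by
      have hu' : (p : CG) * (vM 2 : CG) = (vM 2 : CG) * (p : CG) := by
        rw [vM_two]; exact congrArg Subtype.val hu.eq
      rw [← vM_one, ← sig_vM.2]
      calc sigM * (p : CG) * sigM * (sigM * (vM 2 : CG) * sigM) = sigM * (p : CG) * (sigM * sigM) * (vM 2 : CG) * sigM := by group
        _ = sigM * ((p : CG) * (vM 2 : CG)) * sigM := by rw [sigM_sq]; group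
        _ = sigM * (vM 2 : CG) * (p : CG) * sigM := by rw [hu']; group
        _ = sigM * (vM 2 : CG) * (sigM * sigM) * (p : CG) * sigM := by rw [sigM_sq]; group
        _ = _ := by group))
    exact ⟨q, hq, e, img hp hq e⟩
  -- the element of order three
  obtain ⟨hlen, hru, hr3, hr3', hrs, hall, hlow⟩ := r_ok
  set r := RA.wel rW with hr
  set r' := RA.wel rTW with hr'
  have hrc : sigM * (r : CG) = (r' : CG) * sigM := cdG_inj (by
    rw [cdG_mul, cdG_mul, cdG_sigM]
    show mu sigC (RA.cd (RA.wel rW)) = mu (RA.cd (RA.wel rTW)) sigC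
    rw [RA.cd_wel, RA.cd_wel]; exact hrs)
  have rc : sigM * (r : CG) * sigM = (r' : CG) := by rw [hrc, mul_assoc, sigM_sq, mul_one]
  have cube : r * r * r = 1 ∧ r' * r' * r' = 1 := ⟨eqA (by
    rw [hr, ← wel_append, ← wel_append, RA.cd_wel, hr3, cd_oneA]), eqA (by
    rw [hr', ← wel_append, ← wel_append, RA.cd_wel, hr3', cd_oneA])⟩
  have ru : Commute r (vM 2) := vM_two ▸ (cmB_iff (RA.cd_wel _) cd_uA).1 hru
  have rt : Commute r (vM 1) := vM_one ▸ tA_comm r
  have r'u : Commute r' (vM 2) := by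
    refine Subtype.ext ?_
    show (r' : CG) * (vM 2 : CG) = (vM 2 : CG) * (r' : CG)
    rw [← rc, ← sig_vM.1]
    calc sigM * (r : CG) * sigM * (sigM * (vM 1 : CG) * sigM) = sigM * (r : CG) * (sigM * sigM) * (vM 1 : CG) * sigM := by group
      _ = sigM * ((r : CG) * (vM 1 : CG)) * sigM := by rw [sigM_sq]; group
      _ = sigM * ((vM 1 : CG) * (r : CG)) * sigM := by
        rw [show (r : CG) * (vM 1 : CG) = (vM 1 : CG) * (r : CG) from congrArg Subtype.val rt.eq]
      _ = sigM * (vM 1 : CG) * (sigM * sigM) * (r : CG) * sigM := by rw [sigM_sq]; group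
      _ = _ := by group
  -- the image of the element
  have hxt : Commute (s * E.φ r * s) E.t := by
    show _ * _ = _ * _
    rw [← s21]
    calc s * E.φ r * s * (s * E.φ (vM 2) * s) = s * E.φ r * (s * s) * E.φ (vM 2) * s := by group
      _ = s * (E.φ r * E.φ (vM 2)) * s := by rw [ss]; group
      _ = s * (E.φ (vM 2) * E.φ r) * s := by rw [← map_mul, ru.eq, map_mul]
      _ = s * E.φ (vM 2) * (s * s) * E.φ r * s := by rw [ss]; group
      _ = _ := by group
  obtain ⟨e, he⟩ := E.mem_range hxt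
  have eu : Commute e (vM 2) := E.inj (by
    rw [map_mul, map_mul, he, ← s12]
    calc s * E.φ r * s * (s * E.t * s) = s * E.φ r * (s * s) * E.t * s := by group
      _ = s * (E.φ r * E.t) * s := by rw [ss]; group
      _ = s * (E.t * E.φ r) * s := by rw [(E.comm_t r).eq]
      _ = s * E.t * (s * s) * E.φ r * s := by rw [ss]; group
      _ = _ := by group)
  have e3 : e * e * e = 1 := E.inj (by
    rw [map_mul, map_mul, he, map_one]
    calc s * E.φ r * s * (s * E.φ r * s) * (s * E.φ r * s) = s * E.φ r * (s * s) * E.φ r * (s * s) * E.φ r * s := by group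
      _ = s * E.φ (r * r * r) * s := by rw [ss, map_mul, map_mul]; group
      _ = 1 := by rw [cube.1, map_one, mul_one, ss])
  have test : ∀ i < 4, ∀ T : MA, RA.cd T = rTarget i → Commute (e⁻¹ * r') T := by
    intro i hi T hTcd
    have h := List.all_eq_true.1 hall i (List.mem_range.2 hi)
    simp only [Bool.and_eq_true, Nat.beq_eq, List.all_eq_true, Nat.blt_eq] at h
    obtain ⟨⟨⟨⟨⟨hp, hq⟩, hpu⟩, hpt⟩, hrp⟩, hT⟩ := h
    set p := RA.wel (rTest.getD i ([], [])).1 with hpd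
    set q := RA.wel (rTest.getD i ([], [])).2 with hqd
    have pu : Commute p uA := (cmB_iff (RA.cd_wel _) cd_uA).1 hpu
    have hrp' : r * p = q * r := eqA (by rw [cd_mulA, cd_mulA, RA.cd_wel, RA.cd_wel, RA.cd_wel]; exact hrp)
    have hqr : q = r * p * r⁻¹ := by rw [hrp', mul_inv_cancel_right]
    have qu : Commute q uA := by
      rw [hqr, ← vM_two]
      exact (ru.mul_left (vM_two.symm ▸ pu)).mul_left ru.inv_left
    obtain ⟨T', hTP, eT, fT⟩ := toPA p (wel_PA _ hp) pu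
    obtain rfl : T' = T := by
      refine Subtype.ext (mul_right_cancel (b := sigM) (cdG_inj ?_))
      rw [← eT, mul_assoc _ sigM sigM, sigM_sq, mul_one, cdG_mul, cdG_mul, cdG_sigM]
      show mu sigC (RA.cd (RA.wel _)) = mu (RA.cd T) sigC
      rw [RA.cd_wel, hTcd]
      exact hT
    obtain ⟨q', hqP, eq', fq⟩ := toPA q (wel_PA _ hq) qu
    have hG : q' = e * T' * e⁻¹ := E.inj (by
      rw [← fq, hqr, map_mul, map_mul, map_mul, map_mul, map_inv, map_inv, he, ← fT, mul_inv_rev, mul_inv_rev, si]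
      calc s * (E.φ r * E.φ p * (E.φ r)⁻¹) * s = s * E.φ r * (s * s) * E.φ p * (s * s) * (E.φ r)⁻¹ * s := by
            rw [ss]; group
        _ = _ := by group)
    have hM : q' = r' * T' * r'⁻¹ := Subtype.ext (by
      rw [← eq', hqr, Subgroup.coe_mul, Subgroup.coe_mul, Subgroup.coe_mul, Subgroup.coe_mul, Subgroup.coe_inv,
        Subgroup.coe_inv, ← rc, ← eT, mul_inv_rev, mul_inv_rev, sigM_inv]
      calc sigM * ((r : CG) * (p : CG) * (r : CG)⁻¹) * sigM
          = sigM * (r : CG) * (sigM * sigM) * (p : CG) * (sigM * sigM) * (r : CG)⁻¹ * sigM := by rw [sigM_sq]; group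
        _ = _ := by group)
    show e⁻¹ * r' * T' = T' * (e⁻¹ * r')
    calc e⁻¹ * r' * T' = e⁻¹ * (r' * T' * r'⁻¹) * r' := by group
      _ = e⁻¹ * (e * T' * e⁻¹) * r' := by rw [← hM, hG]
      _ = _ := by group
  have r2 : RA.cd (r * r) = cert.ev mu (rW ++ rW) := by rw [hr, ← wel_append, RA.cd_wel]
  have rinv : r⁻¹ = r * r := inv_eq_of_mul_eq_one_left cube.1
  have c4 := test 0 (by decide) (vM 4) ((cd_vM (by decide)).trans rTarget_vals.1.symm)
  have c8 := test 1 (by decide) (vM 8) ((cd_vM (by decide)).trans rTarget_vals.2.1.symm)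
  have c4' := test 2 (by decide) (r * vM 4 * (r * r)) (by
    rw [cd_mulA, cd_mulA, r2, hr, RA.cd_wel, cd_vM (by decide), rTarget_vals.2.2.1])
  have c8' := test 3 (by decide) (r * vM 8 * (r * r)) (by
    rw [cd_mulA, cd_mulA, r2, hr, RA.cd_wel, cd_vM (by decide), rTarget_vals.2.2.2])
  have cu : Commute (e⁻¹ * r') (vM 2) := eu.inv_left.mul_left r'u
  set c := e⁻¹ * r' with hc
  obtain ⟨i, hi, ci⟩ := self_cent (vM_two ▸ cu) c4 c8
  have conjc : ∀ {x : MA}, Commute c (r * x * (r * r)) → Commute (r⁻¹ * c * r) x := fun {x} h => by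
    rw [← rinv] at h
    show r⁻¹ * c * r * x = x * (r⁻¹ * c * r)
    calc r⁻¹ * c * r * x = r⁻¹ * (c * (r * x * r⁻¹)) * r := by group
      _ = r⁻¹ * (r * x * r⁻¹ * c) * r := by rw [h.eq]
      _ = _ := by group
  obtain ⟨j, hj, cj⟩ := self_cent (vM_two ▸ (ru.inv_left.mul_left cu).mul_left ru) (conjc c4') (conjc c8')
  have hi4 : i < 4 := by
    have h := List.all_eq_true.1 (List.all_eq_true.1 hlow i (List.mem_range.2 hi)) j (List.mem_range.2 hj)
    have hm : Nat.beq (mu (vv i) (cert.ev mu rW)) (mu (cert.ev mu rW) (vv j)) = true := by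
      rw [Nat.beq_eq, ← RA.cd_wel, ← cd_vM hi, ← cd_vM hj, ← cd_mulA, ← cd_mulA, ← cj, ← ci, ← hr]
      congr 1
      group
    rw [hm, Bool.not_true, Bool.false_or, Nat.blt_eq] at h
    exact h
  have cr' : Commute c r' := by
    rw [ci]
    have r't : Commute r' (vM 1) := vM_one ▸ tA_comm r'
    interval_cases i
    · rw [vM_zero]; exact Commute.one_left _
    · exact r't.symm
    · exact r'u.symm
    · rw [show (3 : ℕ) = Nat.xor 1 2 from rfl, ← vM_mul (by decide) (by decide)]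
      exact (r't.mul_right r'u).symm
  have cc : c * c = 1 := ci ▸ vM_sq hi
  have ee : e = r' * c := by
    calc e = e * c * c := by rw [mul_assoc, cc, mul_one]
      _ = r' * c := by rw [hc]; group
  have c1 : c = 1 := by
    have h1 : (r' * c) ^ 3 = r' ^ 3 * c ^ 3 := cr'.symm.mul_pow 3
    rw [← ee, show e ^ 3 = 1 by rw [pow_succ, pow_two]; exact e3, show r' ^ 3 = 1 by rw [pow_succ, pow_two]; exact cube.2,
      one_mul, pow_succ, pow_two, cc, one_mul] at h1
    exact h1.symm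
  have her : e = r' := by rw [ee, c1, mul_one]
  rw [her] at he
  let S : Subgroup MA :=
    { carrier := {a | ∃ b : MA, sigM * (a : CG) * sigM = (b : CG) ∧ s * E.φ a * s = E.φ b}
      one_mem' := ⟨1, by simp [sigM_sq], by simp [ss]⟩
      mul_mem' := fun {a b} ⟨x, x1, x2⟩ ⟨y, y1, y2⟩ => ⟨x * y, by
          rw [Subgroup.coe_mul, Subgroup.coe_mul, ← x1, ← y1]
          calc sigM * ((a : CG) * (b : CG)) * sigM = sigM * (a : CG) * (sigM * sigM) * (b : CG) * sigM := by
                rw [sigM_sq]; group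
            _ = _ := by group, by
          rw [map_mul, map_mul, ← x2, ← y2]
          calc s * (E.φ a * E.φ b) * s = s * E.φ a * (s * s) * E.φ b * s := by rw [ss]; group
            _ = _ := by group⟩
      inv_mem' := fun {a} ⟨x, x1, x2⟩ => ⟨x⁻¹, by
          rw [Subgroup.coe_inv, Subgroup.coe_inv, ← x1, mul_inv_rev, mul_inv_rev, sigM_inv]; group, by
          rw [map_inv, map_inv, ← x2, mul_inv_rev, mul_inv_rev, si]; group⟩ }
  have hrS : r ∈ S := ⟨r', rc, he.symm⟩
  refine ⟨⟨s, ss, by rw [si, s12, vM_two], fun w hw => ?_, fun zs hzs => ?_⟩⟩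
  · obtain ⟨hM, k, -, p, hp, hpu, hwp⟩ := model_cg hw
    obtain ⟨q, -, q1, q2⟩ := toPA p hp hpu
    obtain ⟨b, b1, b2⟩ : RA.wel w.1 ∈ S := hwp ▸ mul_mem (pow_mem hrS k) ⟨q, q1, q2⟩
    have hb : RA.wel w.2 = b := Subtype.ext (by
      rw [← b1, mul_assoc, hM, ← mul_assoc, sigM_sq, one_mul])
    rw [hb, ← b2, ← mul_assoc, ← mul_assoc, ss, one_mul]
  · obtain ⟨h1, h2⟩ := model_rel hzs
    refine kU (n := 1) (h1 ▸ ?_) K.one_mem
    clear h1 hzs
    induction zs with
    | nil => exact K.one_mem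
    | cons z zs ih =>
      rw [List.map_cons, List.prod_cons, List.map_cons, List.prod_cons]
      exact K.mul_mem (K.mul_mem (kP _ (h2 z (by simp))) kS) (ih fun y hy => h2 y (by simp [hy]))

end Emb

end Cfsg.Agent.Spor.CoThreeCent
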