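import Cfsg.Agent.Lib.Lie.ConwayThreeOut.Main
import Cfsg.Agent.Lib.Lie.ConwayThreeMult.Defs
import Cfsg.Agent.Lib.Spor.CoThreeCent.ModelData
import Cfsg.Agent.Lib.Spor.CoThreeCent.Data
import Cfsg.Agent.Lib.Spor.CoThreeCent.Code
import Cfsg.Agent.Lib.Spor.MclCent.Bound

/-!
The centralizer of a 2A-involution inside the third Conway group, generated by six elements, with codes.
-/

set_option autoImplicit false
set_option maxRecDepth 100000
set_option maxHeartbeats 1000000

namespace Cfsg.Agent.Spor.CoThreeCent

open DCoset
open Lie.ConwayThreeOut (CG perm276 perm276_injective)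

/-- every factorisation is right, and the codes are packed -/
theorem elem_ok : (elemL.all fun e => Lie.ConwayThreeMult.elemOK e && Nat.beq (pack (fun i => dig e.1 i) 276) e.1) = true := by
  decide +kernel

/-- the codes of the six generators and of the twist -/
theorem elem_codes : (elemL.map Prod.fst) = cert.gens ++ [sigC] ∧ cert.gens.length = 6 ∧
    pack (fun i => i) 276 = idC := by decide +kernel

attribute [local irreducible] mu pack

theorem code_one_pack : code 1 = pack (fun i => i) 276 := by
  have key : ∀ n, n ≤ 276 → pack (fun i => if h : i < 276 then (((1 : Equiv.Perm (Fin 276)) ⟨i, h⟩ : Fin 276) : ℕ)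
      else 0) n = pack (fun i => i) n := by
    intro n
    induction n with
    | zero => intro _; rw [pack_zero, pack_zero]
    | succ n ih =>
      intro hn
      rw [pack_succ, pack_succ, ih (by omega), dif_pos (by omega : n < 276)]
      rfl
  rw [code]
  exact key 276 le_rfl

open Lie Lie.PermNine Lie.ConwayThreeOut Lie.ConwayThreeMult in
/-- an element with a factorisation along the chain -/
theorem exists_factor {e : Lie.ConwayThreeMult.Elem} (h : Lie.ConwayThreeMult.elemOK e = true) :
    ∃ g : CG, ∀ k : Fin 276, (perm276 g k : ℕ) = PermNine.pg e.1 k := by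
  simp only [elemOK, Bool.and_eq_true, Nat.ble_eq, List.all_eq_true, List.mem_range, Nat.blt_eq, Nat.beq_eq] at h
  obtain ⟨⟨hlen, hidx⟩, hk⟩ := h
  have hr := reps_of_roots rootsX_ok
  have hus : ∀ us : List ℕ, (∀ p ∈ us, ∃ u : CG, PermNine.Rep perm276 u p) →
      ∃ g : CG, ∀ k : Fin 276, (perm276 g k : ℕ) = imgOf us k := by
    intro us
    induction us with
    | nil => exact fun _ => ⟨1, fun k => by rw [map_one]; rfl⟩
    | cons p us ih =>
      intro hp
      obtain ⟨u, hu⟩ := hp p List.mem_cons_self
      obtain ⟨g, hg⟩ := ih fun q hq => hp q (List.mem_cons_of_mem _ hq)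
      exact ⟨u * g, fun k => by rw [map_mul, Equiv.Perm.mul_apply, hu, hg]; rfl⟩
  obtain ⟨g, hg⟩ := hus (repsOf e.2.2) (by
    intro p hp
    simp only [repsOf, List.mem_map, List.mem_range] at hp
    obtain ⟨j, hj, rfl⟩ := hp
    have hjl : j < chainX.length := lt_of_lt_of_le hj hlen
    obtain ⟨-, hrep⟩ := hr (chainX.getD j (0, []))
      (by rw [List.getD_eq_getElem _ _ hjl]; exact List.getElem_mem _)
    obtain ⟨u, -, hu⟩ := hrep ((chainX.getD j (0, [])).2.getD (e.2.2.getD j 0) 0)
      (by rw [List.getD_eq_getElem _ _ (hidx j hj)]; exact List.getElem_mem _)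
    exact ⟨u, hu⟩)
  exact ⟨g, fun k => (hg k).trans (hk k k.2).1.symm⟩

theorem code_one : code 1 = idC := by
  rw [← elem_codes.2.2]
  exact code_one_pack

/-- an element with the given factorisation -/
theorem exists_lit (k : ℕ) (hk : k < 7) :
    ∃ g : CG, code (perm276 g) = (elemL.getD k (0, 0, [])).1 := by
  have hl : k < elemL.length := by
    have h := congrArg List.length elem_codes.1
    rw [List.length_map, List.length_append, elem_codes.2.1] at h
    simpa [h] using hk
  have h := List.all_eq_true.1 elem_ok _ (List.getElem_mem hl)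
  rw [Bool.and_eq_true, Nat.beq_eq] at h
  rw [List.getD_eq_getElem _ _ hl]
  obtain ⟨g, hg⟩ := exists_factor h.1
  exact ⟨g, code_eq h.2 hg⟩

/-- the generators -/
noncomputable def mg (k : ℕ) : CG := if hk : k < 7 then (exists_lit k hk).choose else 1

/-- code in the Conway group -/
noncomputable def cdG (g : CG) : ℕ := code (perm276 g)

theorem cdG_mul (a b : CG) : cdG (a * b) = mu (cdG a) (cdG b) := by rw [cdG, cdG, cdG, map_mul, code_mul]

theorem cdG_one : cdG 1 = idC := by rw [cdG, map_one, code_one]

theorem cdG_inj : Function.Injective cdG := fun _ _ h => perm276_injective (code_injective h)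

theorem cdG_mg {k : ℕ} (hk : k < 7) : cdG (mg k) = (cert.gens ++ [sigC]).getD k idC := by
  rw [mg, dif_pos hk, cdG, (exists_lit k hk).choose_spec, ← elem_codes.1,
    List.getD_eq_getElem _ _ (by
      have h := congrArg List.length elem_codes.1
      rw [List.length_map, List.length_append, elem_codes.2.1] at h
      simpa [h] using hk), List.getD_eq_getElem _ _ (by
      have h := congrArg List.length elem_codes.1
      rw [List.length_map, List.length_append, elem_codes.2.1] at h
      simpa [h] using hk), List.getElem_map]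

/-- the twisting involution in the Conway group -/
noncomputable def sigM : CG := mg 6

theorem cdG_sigM : cdG sigM = sigC := by
  rw [sigM, cdG_mg (by decide), List.getD_append_right _ _ _ _ (by rw [elem_codes.2.1]), elem_codes.2.1]
  rfl

/-- the model of the centralizer -/
noncomputable def Hm : Subgroup CG := Subgroup.closure (Set.range fun k : Fin 6 => mg k)

/-- the model of the centralizer as a group -/
abbrev MA : Type := ↥Hm

/-- the generators in the model -/
noncomputable def ga (k : ℕ) : MA :=
  if hk : k < 6 then ⟨mg k, Subgroup.subset_closure ⟨⟨k, hk⟩, rfl⟩⟩ else 1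

theorem coe_ga {k : ℕ} (hk : k < 6) : ((ga k : MA) : CG) = mg k := by rw [ga, dif_pos hk]

/-- the representation behind the certificate -/
noncomputable def RA : DCoset.Rep MA mu cert where
  cd a := cdG a
  cd_mul a b := cdG_mul a b
  cd_one := cdG_one
  cd_inj _ _ h := Subtype.ext (cdG_inj h)
  gen := ga
  cd_gen k := by
    by_cases hk : k < 6
    · rw [coe_ga hk, cdG_mg (by omega), List.getD_append _ _ _ _ (elem_codes.2.1.symm ▸ hk)]
      rfl
    · rw [ga, dif_neg hk, List.getD_eq_default _ _ (by rw [elem_codes.2.1]; omega)]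
      exact cdG_one
  gen_top := by
    rw [eq_top_iff]
    rintro ⟨x, hx⟩ -
    suffices h : ∀ y ∈ Subgroup.closure (Set.range fun k : Fin 6 => mg k), ∀ hy : y ∈ Hm,
        (⟨y, hy⟩ : MA) ∈ Subgroup.closure (Set.range fun k : Fin cert.gens.length => ga k) from h x hx hx
    intro y hy
    induction hy using Subgroup.closure_induction with
    | mem y hy =>
      intro hy'
      obtain ⟨k, rfl⟩ := hy
      exact Subgroup.subset_closure ⟨⟨k, elem_codes.2.1.symm ▸ k.2⟩, Subtype.ext (coe_ga k.2)⟩
    | one => intro _; exact one_mem _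
    | mul y z hy hz ihy ihz =>
      intro h
      rw [show (⟨y * z, h⟩ : MA) = ⟨y, hy⟩ * ⟨z, hz⟩ from rfl]
      exact mul_mem (ihy hy) (ihz hz)
    | inv y hy ih =>
      intro h
      rw [show (⟨y⁻¹, h⟩ : MA) = (⟨y, hy⟩ : MA)⁻¹ from rfl]
      exact inv_mem (ih hy)

end Cfsg.Agent.Spor.CoThreeCent
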