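import Cfsg.Agent.Lib.Spor.CoThreeCent.Code
import Cfsg.Agent.Lib.Spor.CoThreeCent.Data
import Cfsg.Agent.Lib.Spor.CoThreeCent.ModelData
import Cfsg.Agent.Lib.Lie.SymplecticSix.Defs

/-!
Kernel checks for the action of the centralizer on the transvections and on the points.
-/

set_option autoImplicit false
set_option maxRecDepth 100000
set_option maxHeartbeats 0
set_option Elab.async false

namespace Cfsg.Agent.Spor.CoThreeCent

open DCoset

/-- value of a word in the lifts of transvections -/
def evX (w : List ℕ) : ℕ := w.foldl (fun r i => mu r (xL.getD i idC)) idC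

/-- value of a lift with a sign -/
def xS (i : ℕ) (s : Bool) : ℕ := bif s then mu (xL.getD i idC) tC else xL.getD i idC

/-- composite of the tables along a word -/
def ev63 (w : List ℕ) (i : ℕ) : ℕ := w.foldr (fun k j => (g63L.getD k []).getD j 0) i

theorem xgen_ok : ((List.range 63).all fun i => Nat.beq (cert.ev mu (xGenW.getD i [])) (xL.getD i idC)) = true := by
  decide +kernel

theorem conj_ok : ((List.range 6).all fun k => (List.range 63).all fun i =>
    Nat.blt ((g63L.getD k []).getD i 0) 63 &&
      Nat.beq (mu (cert.gens.getD k idC) (xL.getD i idC))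
        (mu (xS ((g63L.getD k []).getD i 0) ((sgnL.getD k []).getD i false)) (cert.gens.getD k idC))) = true := by
  decide +kernel

theorem genX_ok : ((List.range 6).all fun k => (genXW.getD k []).all (fun i => Nat.blt i 63) &&
    Nat.beq (evX (genXW.getD k [])) (cert.gens.getD k idC) &&
    (List.range 63).all fun i => Nat.beq (Lie.SymplecticSix.evalT (genXW.getD k []) i) ((g63L.getD k []).getD i 0))
      = true := by decide +kernel

theorem odd_word : Nat.beq ((genXW.getD 2 []).length % 2) 1 = true ∧
    Nat.beq (cert.ev mu (List.replicate 7 2)) idC = true := by decide +kernel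

theorem t_facts : mu (xL.getD 0 idC) (xL.getD 0 idC) = tC ∧ mu tC tC = idC ∧ tC ≠ idC ∧
    mu (xL.getD 0 idC) (xL.getD 1 idC) = mu (mu (xL.getD 1 idC) (xL.getD 0 idC)) tC ∧
    ((List.range 6).all fun k => Nat.beq (mu (cert.gens.getD k idC) tC) (mu tC (cert.gens.getD k idC))) = true := by
  decide +kernel

theorem labels_ok : xL.length = 63 ∧ ((xL ++ xL.map fun x => mu x tC).Nodup) := by decide +kernel

theorem tree_ok : ord63.getD 0 0 = 0 ∧ ((List.range 63).all fun n => Nat.blt (ord63.idxOf n) 63 &&
    (Nat.beq n 0 || (Nat.blt (ord63.idxOf (par63.getD n (0, 0)).1) (ord63.idxOf n) &&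
      Nat.blt (par63.getD n (0, 0)).2 6 &&
      Nat.beq ((g63L.getD (par63.getD n (0, 0)).2 []).getD (par63.getD n (0, 0)).1 63) n))) = true := by
  decide +kernel

theorem sp_ok : ((List.range 63).all fun i =>
    Nat.beq (ev63 (spW.getD 0 []) i) (Lie.SymplecticSix.evalT Lie.SymplecticSix.transX i) &&
    Nat.beq (ev63 (spW.getD 1 []) i) (Lie.SymplecticSix.evalT Lie.SymplecticSix.transY i)) = true ∧
    ((spW.getD 0 [] ++ spW.getD 1 []).all fun k => Nat.blt k 6) = true := by decide +kernel

/-- an orbit list grows from its first point -/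
def orbOK (p : ℕ) (l : List (ℕ × ℕ × ℕ)) : Bool :=
  Nat.beq (l.getD 0 (0, 0, 0)).1 p && (List.range l.length).all fun n =>
    Nat.beq n 0 || (Nat.blt (l.getD n (0, 0, 0)).2.2 6 &&
      (List.range n).any fun j => Nat.beq (l.getD j (0, 0, 0)).1 (l.getD n (0, 0, 0)).2.1 &&
        Nat.beq (dig (cert.gens.getD (l.getD n (0, 0, 0)).2.2 idC) (l.getD j (0, 0, 0)).1) (l.getD n (0, 0, 0)).1)

/-- common fixed points of the listed words -/
def stabFix (ws : List (List ℕ)) (q : ℕ) : Bool := ws.all fun w => Nat.beq (dig (cert.ev mu w) q) q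

theorem orb_ok : orbOK 0 orbBig = true ∧ orbOK 7 orbSmall = true ∧
    ((List.range 276).all fun q => (orbBig ++ orbSmall).any fun e => Nat.beq e.1 q) = true := by decide +kernel

theorem stab_ok : stabFix stabBig 0 = true ∧ stabFix stabSmall 7 = true ∧
    ((List.range 276).all fun q => (!stabFix stabBig q || Nat.beq q 0 || Nat.beq q (dig tC 0)) &&
      (!stabFix stabSmall q || Nat.beq q 7)) = true ∧ dig tC 0 ≠ 0 ∧ dig tC 7 = 7 := by decide +kernel

theorem g63_lens : g63L.length = 6 ∧ (g63L.all fun l => Nat.beq l.length 63) = true ∧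
    ((orbBig ++ orbSmall).all fun e => Nat.blt e.1 276) = true ∧ dig tC (dig tC 0) = 0 := by decide +kernel

theorem g63_len (k : ℕ) : (g63L.getD k []).length ≤ 63 := by
  obtain ⟨hl, h, -⟩ := g63_lens
  by_cases hk : k < g63L.length
  · rw [List.getD_eq_getElem _ _ hk]
    exact (Nat.eq_of_beq_eq_true (List.all_eq_true.1 h _ (List.getElem_mem hk))).le
  · rw [List.getD_eq_default _ _ (by omega)]; simp

theorem g63_len' {k : ℕ} (hk : k < 6) : 63 ≤ (g63L.getD k []).length := by
  obtain ⟨hl, h, -⟩ := g63_lens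
  rw [List.getD_eq_getElem _ _ (hl.symm ▸ hk)]
  exact (Nat.eq_of_beq_eq_true (List.all_eq_true.1 h _ (List.getElem_mem _))).ge

end Cfsg.Agent.Spor.CoThreeCent
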