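import Cfsg.Agent.Lib.Spor.CoThreeCent.Model
import Cfsg.Agent.Lib.Spor.CoThreeCent.SpChecks
import Cfsg.Agent.Lib.Lie.SymplecticSix.Main

/-!
The model of the centralizer is a perfect double cover of the symplectic group of dimension six over two elements.
-/

set_option autoImplicit false
set_option maxRecDepth 100000
set_option maxHeartbeats 1000000
set_option linter.style.haveILetI false

namespace Cfsg.Agent.Spor.CoThreeCent

open DCoset
open Lie.ConwayThreeOut (CG perm276 perm276_injective)
open Lie.SymplecticSix (permHom prodT prodT_apply gx gx_gen permHom_injective card_sp)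

/-- the symplectic group -/
abbrev Sp6 : Type := ↥(Matrix.symplecticGroup (Fin 3) (ZMod 2))

theorem hF2 : Fintype.card (ZMod 2) = 2 := ZMod.card 2

theorem gens_len : cert.gens.length = 6 := elem_codes.2.1

theorem cd_gen' (k : ℕ) : RA.cd (ga k) = cert.gens.getD k idC := RA.cd_gen k

theorem eqA {a b : MA} (h : RA.cd a = RA.cd b) : a = b := RA.cd_inj h

theorem cd_mulA (a b : MA) : RA.cd (a * b) = mu (RA.cd a) (RA.cd b) := RA.cd_mul a b

theorem cd_oneA : RA.cd 1 = idC := RA.cd_one

attribute [local irreducible] mu pack cert idC tC sigC xL evX xS ev63 stabFix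

theorem induct {P : MA → Prop} (h1 : P 1) (hm : ∀ a k, k < 6 → P a → P (a * ga k)) : ∀ a, P a :=
  gen_induction (R := RA) h1 fun a k ha => hm a k (gens_len ▸ k.2) ha

/-- the lifts of the transvections -/
noncomputable def xa (i : ℕ) : MA := RA.wel (xGenW.getD i [])

theorem cd_xa {i : ℕ} (hi : i < 63) : RA.cd (xa i) = xL.getD i idC := by
  have h := List.all_eq_true.1 xgen_ok i (List.mem_range.2 hi)
  rw [Nat.beq_eq] at h
  rw [xa, RA.cd_wel, h]

/-- the central involution -/
noncomputable def tA : MA := xa 0 * xa 0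

theorem cd_tA : RA.cd tA = tC := by rw [tA, cd_mulA, cd_xa (by decide), t_facts.1]

theorem tA_sq : tA * tA = 1 := eqA (by rw [cd_mulA, cd_tA, t_facts.2.1, cd_oneA])

theorem tA_ne : tA ≠ 1 := fun h => t_facts.2.2.1 (by rw [← cd_tA, h, cd_oneA])

theorem tA_comm (a : MA) : a * tA = tA * a := by
  induction a using induct with
  | h1 => rw [one_mul, mul_one]
  | hm a k hk ih =>
    have h := List.all_eq_true.1 t_facts.2.2.2.2 k (List.mem_range.2 hk)
    rw [Nat.beq_eq] at h
    have hg : ga k * tA = tA * ga k := eqA (by rw [cd_mulA, cd_mulA, cd_gen', cd_tA, h])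
    rw [mul_assoc, hg, ← mul_assoc, ih, mul_assoc]

/-- powers of the central involution -/
noncomputable def tp (s : Bool) : MA := bif s then tA else 1

theorem tp_mul (s s' : Bool) : tp s * tp s' = tp (xor s s') := by cases s <;> cases s' <;> simp [tp, tA_sq]

theorem tp_comm (a : MA) (s : Bool) : a * tp s = tp s * a := by cases s <;> simp [tp, tA_comm]

theorem cd_xS {i : ℕ} (hi : i < 63) (s : Bool) : RA.cd (xa i * tp s) = xS i s := by
  cases s
  · rw [show tp false = 1 from rfl, mul_one, cd_xa hi, xS]; rfl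
  · rw [show tp true = tA from rfl, cd_mulA, cd_xa hi, cd_tA, xS]; rfl

theorem label_inj {i j : ℕ} (hi : i < 63) (hj : j < 63) {s : Bool} (h : xa i = xa j * tp s) : i = j ∧ s = false := by
  obtain ⟨hlen, hnd⟩ := labels_ok
  obtain ⟨h1, h2, h3⟩ := List.nodup_append.1 hnd
  have hc := congrArg RA.cd h
  rw [cd_xa hi, cd_xS hj] at hc
  have hi' : i < xL.length := hlen.symm ▸ hi
  have hj' : j < xL.length := hlen.symm ▸ hj
  cases s
  · rw [xS, cond_false, List.getD_eq_getElem _ _ hi', List.getD_eq_getElem _ _ hj'] at hc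
    exact ⟨(List.Nodup.getElem_inj_iff h1).1 hc, rfl⟩
  · exfalso
    rw [xS, cond_true, List.getD_eq_getElem _ _ hi', List.getD_eq_getElem _ _ hj'] at hc
    exact h3 _ (List.getElem_mem hi') _ (List.mem_map.2 ⟨_, List.getElem_mem hj', rfl⟩) hc

theorem gen_conj {k i : ℕ} (hk : k < 6) (hi : i < 63) : (g63L.getD k []).getD i 0 < 63 ∧
    ga k * xa i = xa ((g63L.getD k []).getD i 0) * tp ((sgnL.getD k []).getD i false) * ga k := by
  have h := List.all_eq_true.1 (List.all_eq_true.1 conj_ok k (List.mem_range.2 hk)) i (List.mem_range.2 hi)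
  rw [Bool.and_eq_true, Nat.blt_eq, Nat.beq_eq] at h
  exact ⟨h.1, eqA (by rw [cd_mulA, cd_mulA _ (ga k), cd_xS h.1, cd_gen', cd_xa hi, h.2])⟩

/-- a conjugate of a lift is a lift up to the central involution -/
theorem conj_lift (a : MA) : ∀ i : Fin 63, ∃ j : Fin 63, ∃ s : Bool, a * xa i = xa j * tp s * a := by
  induction a using induct with
  | h1 => exact fun i => ⟨i, false, by simp [tp]⟩
  | hm a k hk ih =>
    intro i
    obtain ⟨hj, e⟩ := gen_conj hk i.2
    obtain ⟨l, s', e'⟩ := ih ⟨_, hj⟩
    set s := (sgnL.getD k []).getD i.1 false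
    set j := (g63L.getD k []).getD i.1 0
    refine ⟨l, xor s' s, ?_⟩
    calc a * ga k * xa i = a * (xa j * tp s * ga k) := by rw [mul_assoc, e]
      _ = a * xa j * tp s * ga k := by simp only [mul_assoc]
      _ = xa l * tp s' * (tp s * a) * ga k := by rw [e', ← tp_comm]; simp only [mul_assoc]
      _ = xa l * tp (xor s' s) * (a * ga k) := by rw [← tp_mul]; simp only [mul_assoc]

/-- the image of a lift -/
noncomputable def qf (a : MA) (i : Fin 63) : Fin 63 := (conj_lift a i).choose

theorem qf_spec (a : MA) (i : Fin 63) : ∃ s, a * xa i = xa (qf a i) * tp s * a := (conj_lift a i).choose_spec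

theorem qf_eq {a : MA} {i j : Fin 63} {s : Bool} (h : a * xa i = xa j * tp s * a) : qf a i = j := by
  obtain ⟨s', h'⟩ := qf_spec a i
  have e := mul_right_cancel (h'.symm.trans h)
  have e' : xa (qf a i) = xa j * tp (xor s s') := by
    rw [← tp_mul, ← mul_assoc, ← e, mul_assoc, tp_mul]
    cases s' <;> simp [tp]
  exact Fin.ext (label_inj (qf a i).2 j.2 e').1

theorem qf_mul (a b : MA) (i : Fin 63) : qf (a * b) i = qf a (qf b i) := by
  obtain ⟨s, e⟩ := qf_spec b i
  obtain ⟨s', e'⟩ := qf_spec a (qf b i)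
  refine qf_eq (s := xor s' s) ?_
  calc a * b * xa i = a * xa (qf b i) * tp s * b := by rw [mul_assoc, e]; simp only [mul_assoc]
    _ = xa (qf a (qf b i)) * tp s' * (tp s * a) * b := by rw [e', ← tp_comm]; simp only [mul_assoc]
    _ = xa (qf a (qf b i)) * tp (xor s' s) * (a * b) := by rw [← tp_mul]; simp only [mul_assoc]

theorem qf_one (i : Fin 63) : qf 1 i = i := qf_eq (s := false) (by simp [tp])

/-- the action on the transvections -/
noncomputable def qA : MA →* Equiv.Perm (Fin 63) where
  toFun a := ⟨qf a, qf a⁻¹, fun i => by rw [← qf_mul, inv_mul_cancel, qf_one],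
    fun i => by rw [← qf_mul, mul_inv_cancel, qf_one]⟩
  map_one' := Equiv.ext qf_one
  map_mul' a b := Equiv.ext (qf_mul a b)

theorem qA_gen {k : ℕ} (hk : k < 6) (i : Fin 63) : (qA (ga k) i : ℕ) = (g63L.getD k []).getD i 0 := by
  obtain ⟨hj, e⟩ := gen_conj hk i.2
  exact congrArg Fin.val (qf_eq (a := ga k) (i := i) (j := ⟨_, hj⟩) e)

theorem qA_word (w : List ℕ) (hw : ∀ k ∈ w, k < 6) (i : Fin 63) : (qA (RA.wel w) i : ℕ) = ev63 w i := by
  induction w using List.reverseRecOn generalizing i with
  | nil => rw [show RA.wel [] = 1 from rfl, map_one]; simp [ev63]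
  | append_singleton w k ih =>
    have hk : k < 6 := hw k (by simp)
    rw [show RA.wel (w ++ [k]) = RA.wel w * ga k by simp [Rep.wel, RA], map_mul, Equiv.Perm.mul_apply,
      ih (fun x hx => hw x (by simp [hx])), qA_gen hk]
    simp [ev63]

theorem qA_range (a : MA) : qA a ∈ (permHom hF2).range := by
  induction a using induct with
  | h1 => rw [map_one]; exact one_mem _
  | hm a k hk ih =>
    rw [map_mul]
    refine mul_mem ih ⟨prodT hF2 (genXW.getD k []), Equiv.ext fun i => Fin.ext ?_⟩
    have h := List.all_eq_true.1 genX_ok k (List.mem_range.2 hk)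
    simp only [Bool.and_eq_true, List.all_eq_true, List.mem_range, Nat.blt_eq, Nat.beq_eq] at h
    rw [prodT_apply hF2 _ h.1.1, qA_gen hk, h.2 i i.2]

/-- the projection to the symplectic group -/
noncomputable def piA : MA →* Sp6 where
  toFun a := (qA_range a).choose
  map_one' := permHom_injective hF2 (by rw [(qA_range 1).choose_spec, map_one, map_one])
  map_mul' a b := permHom_injective hF2 (by
    rw [(qA_range (a * b)).choose_spec, map_mul, map_mul, (qA_range a).choose_spec, (qA_range b).choose_spec])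

theorem piA_spec (a : MA) : permHom hF2 (piA a) = qA a := (qA_range a).choose_spec

theorem piA_surj : Function.Surjective piA := by
  rw [← MonoidHom.range_eq_top, eq_top_iff, ← gx_gen hF2, Subgroup.closure_le]
  rintro _ ⟨s, rfl⟩
  obtain ⟨hv, hlt⟩ := sp_ok
  simp only [List.all_eq_true, List.mem_range, Bool.and_eq_true, Nat.beq_eq, List.mem_append, Nat.blt_eq] at hv hlt
  cases s
  · refine ⟨RA.wel (spW.getD 0 []), permHom_injective hF2 (Equiv.ext fun i => Fin.ext ?_)⟩
    rw [piA_spec, qA_word _ (fun k hk => hlt k (Or.inl hk)), (hv i i.2).1, gx, cond_false,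
      prodT_apply hF2 _ Lie.SymplecticSix.idx_lt.1]
  · refine ⟨RA.wel (spW.getD 1 []), permHom_injective hF2 (Equiv.ext fun i => Fin.ext ?_)⟩
    rw [piA_spec, qA_word _ (fun k hk => hlt k (Or.inr hk)), (hv i i.2).2, gx, cond_true,
      prodT_apply hF2 _ Lie.SymplecticSix.idx_lt.2.1]

/-- product of lifts along a word -/
noncomputable def xprod (w : List ℕ) : MA := (w.map xa).prod

theorem ga_xprod {k : ℕ} (hk : k < 6) : ga k = xprod (genXW.getD k []) ∧ ∀ i ∈ genXW.getD k [], i < 63 := by
  have h := List.all_eq_true.1 genX_ok k (List.mem_range.2 hk)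
  simp only [Bool.and_eq_true, List.all_eq_true, List.mem_range, Nat.blt_eq, Nat.beq_eq] at h
  refine ⟨eqA ?_, h.1.1⟩
  have key : ∀ w : List ℕ, (∀ i ∈ w, i < 63) → RA.cd (xprod w) = evX w := by
    intro w hw
    induction w using List.reverseRecOn with
    | nil => rw [xprod, List.map_nil, List.prod_nil, cd_oneA, evX, List.foldl_nil]
    | append_singleton w i ih =>
      rw [xprod, List.map_append, List.prod_append, List.map_singleton, List.prod_singleton, cd_mulA,
        cd_xa (hw i (by simp)), ← xprod, ih (fun x hx => hw x (by simp [hx])), evX, evX, List.foldl_append]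
      rfl
  rw [cd_gen', key _ h.1.1, h.1.2]

theorem tree_induct {P : ℕ → Prop} (h0 : P 0)
    (hs : ∀ i k, i < 63 → k < 6 → P i → P ((g63L.getD k []).getD i 0)) : ∀ n < 63, P n := by
  obtain ⟨-, ht⟩ := tree_ok
  simp only [List.all_eq_true, List.mem_range, Bool.and_eq_true, Bool.or_eq_true, Nat.blt_eq, Nat.beq_eq] at ht
  suffices ∀ d n, n < 63 → ord63.idxOf n = d → P n from fun n hn => this _ n hn rfl
  intro d
  induction d using Nat.strong_induction_on with
  | _ d ih =>
    intro n hn hd
    obtain ⟨-, rfl | ⟨⟨hlt, hk⟩, he⟩⟩ := ht n hn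
    · exact h0
    · have hp : (par63.getD n (0, 0)).1 < 63 := by
        by_contra hge
        have hl : (g63L.getD (par63.getD n (0, 0)).2 []).length ≤ 63 := g63_len _
        rw [List.getD_eq_default _ _ (by omega)] at he
        omega
      rw [List.getD_eq_getElem _ _ (lt_of_lt_of_le hp (g63_len' hk))] at he
      have hh := hs _ _ hp hk (ih _ (hd ▸ hlt) _ hp rfl)
      rwa [List.getD_eq_getElem _ _ (lt_of_lt_of_le hp (g63_len' hk)), he] at hh

theorem ker_central {a : MA} (ha : piA a = 1) (b : MA) : a * b = b * a := by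
  have hx : ∀ i : Fin 63, ∃ s, a * xa i = xa i * tp s * a := fun i => by
    obtain ⟨s, e⟩ := qf_spec a i
    have : qA a = 1 := by rw [← piA_spec, ha, map_one]
    rw [show qf a i = i from DFunLike.congr_fun this i] at e
    exact ⟨s, e⟩
  obtain ⟨e0, he0⟩ := hx 0
  have comm : ∀ g : MA, ∃ s, a * g = g * tp s * a := by
    intro g
    induction g using induct with
    | h1 => exact ⟨false, by simp [tp]⟩
    | hm g k hk ih =>
      obtain ⟨s, hs⟩ := ih
      obtain ⟨hw, hwl⟩ := ga_xprod hk
      have hk' : ∃ r, a * ga k = ga k * tp r * a := by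
        rw [hw]
        generalize genXW.getD k [] = w at hwl
        induction w with
        | nil => exact ⟨false, by simp [xprod, tp]⟩
        | cons i w ihw =>
          obtain ⟨r, hr⟩ := ihw fun x hx' => hwl x (List.mem_cons_of_mem _ hx')
          obtain ⟨s', hs'⟩ := hx ⟨i, hwl i List.mem_cons_self⟩
          refine ⟨xor s' r, ?_⟩
          rw [xprod, List.map_cons, List.prod_cons, ← xprod, ← mul_assoc, hs', mul_assoc _ a, hr, ← tp_mul]
          simp only [mul_assoc]
          rw [← mul_assoc (tp s') (xprod w), ← tp_comm (xprod w) s']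
          simp only [mul_assoc]
      obtain ⟨r, hr⟩ := hk'
      refine ⟨xor s r, ?_⟩
      rw [← mul_assoc, hs, mul_assoc _ a, hr, ← tp_mul]
      simp only [mul_assoc]
      rw [← mul_assoc (tp s) (ga k), ← tp_comm (ga k) s]
      simp only [mul_assoc]
  -- the sign is the same on all lifts
  have hall : ∀ n < 63, a * xa n = xa n * tp e0 * a := by
    refine tree_induct he0 fun i k hi hk ih => ?_
    obtain ⟨hj, e⟩ := gen_conj hk hi
    obtain ⟨r, hr⟩ := comm (ga k)
    set s := (sgnL.getD k []).getD i false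
    set j := (g63L.getD k []).getD i 0
    have ej : xa j = ga k * xa i * tp s * (ga k)⁻¹ := by
      rw [e, mul_assoc _ (ga k), tp_comm (ga k) s, mul_assoc _ (tp s * ga k), mul_assoc (tp s), mul_inv_cancel,
        mul_one, mul_assoc, tp_mul, Bool.xor_self]
      exact (mul_one _).symm
    have hc : ∀ x y : MA, ∀ u v : Bool, a * x = x * tp u * a → a * y = y * tp v * a →
        a * (x * y) = x * y * tp (xor u v) * a := by
      intro x y u v hu hv
      rw [← mul_assoc, hu, mul_assoc _ a, hv, ← tp_mul]
      simp only [mul_assoc]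
      rw [← mul_assoc (tp u) y, ← tp_comm y u]
      simp only [mul_assoc]
    have hinv : a * (ga k)⁻¹ = (ga k)⁻¹ * tp r * a := by
      rw [mul_inv_eq_iff_eq_mul, mul_assoc, hr, mul_assoc, ← mul_assoc (tp r) _ a, ← mul_assoc, ← mul_assoc,
        ← mul_assoc, mul_assoc _ (tp r) (ga k), ← tp_comm, ← mul_assoc, inv_mul_cancel, one_mul, tp_mul,
        Bool.xor_self]
      exact (one_mul _).symm
    have hs : a * tp s = tp s * tp false * a := by rw [tp_comm a, show tp false = 1 from rfl, mul_one]
    rw [ej, hc _ _ _ _ (hc _ _ _ _ (hc _ _ _ _ hr ih) hs) hinv]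
    cases r <;> cases e0 <;> rfl
  -- an odd word of odd order
  have hword : ∀ w : List ℕ, (∀ i ∈ w, i < 63) →
      a * xprod w = xprod w * tp (bif Nat.beq (w.length % 2) 1 then e0 else false) * a := by
    intro w hw
    induction w with
    | nil => simp [xprod, tp, show Nat.beq 0 1 = false from rfl]
    | cons i w ih =>
      have h := ih fun x hx' => hw x (List.mem_cons_of_mem _ hx')
      rw [xprod, List.map_cons, List.prod_cons, ← xprod, ← mul_assoc, hall i (hw i List.mem_cons_self),
        mul_assoc _ a, h]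
      simp only [mul_assoc]
      rw [← mul_assoc (tp e0) (xprod w), ← tp_comm (xprod w) e0]
      simp only [mul_assoc]
      rw [← mul_assoc (tp e0), tp_mul]
      congr 3
      rcases Nat.mod_two_eq_zero_or_one w.length with hm | hm <;>
        rw [List.length_cons, hm, Nat.add_mod, hm] <;> cases e0 <;> rfl
  obtain ⟨ho, h7⟩ := odd_word
  obtain ⟨hw2, hwl2⟩ := ga_xprod (k := 2) (by decide)
  have h2 := hword _ hwl2
  rw [← hw2, ho, cond_true] at h2
  have e7 : ga 2 ^ 7 = 1 := eqA (by
    rw [cd_oneA, ← Nat.eq_of_beq_eq_true h7, ← RA.cd_wel]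
    congr 1)
  have e0f : e0 = false := by
    have hp : ∀ n, a * ga 2 ^ n = ga 2 ^ n * tp (bif Nat.beq (n % 2) 1 then e0 else false) * a := by
      intro n
      induction n with
      | zero => simp [tp, show Nat.beq 0 1 = false from rfl]
      | succ n ih =>
        rw [pow_succ, ← mul_assoc, ih, mul_assoc _ a, h2]
        simp only [mul_assoc]
        rw [← mul_assoc (tp _) (ga 2), ← tp_comm (ga 2)]
        simp only [mul_assoc]
        rw [← mul_assoc (tp _) (tp e0), tp_mul]
        congr 3
        rcases Nat.mod_two_eq_zero_or_one n with hm | hm <;>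
          rw [hm, Nat.add_mod, hm] <;> cases e0 <;> rfl
    have h := hp 7
    rw [e7, mul_one, one_mul] at h
    have h' : tp e0 = 1 := mul_eq_right.1 h.symm
    cases e0
    · rfl
    · exact absurd h' tA_ne
  subst e0f
  induction b using induct with
  | h1 => rw [one_mul, mul_one]
  | hm b k hk ih =>
    obtain ⟨hw, hwl⟩ := ga_xprod hk
    have h := hword _ hwl
    rw [← hw] at h
    have hk0 : a * ga k = ga k * a := by
      rw [h]
      cases Nat.beq ((genXW.getD k []).length % 2) 1 <;> simp [tp]
    rw [← mul_assoc, ih, mul_assoc, hk0, ← mul_assoc]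

theorem act_eq (a : MA) (i : Fin 276) : (perm276 (a : CG) i : ℕ) = dig (RA.cd a) i := by
  rw [dig_eq]; exact (code_digit _ i).symm

/-- a central element is trivial or the central involution -/
theorem central_cases {a : MA} (ha : ∀ b : MA, a * b = b * a) : a = 1 ∨ a = tA := by
  let act : MA → Equiv.Perm (Fin 276) := fun x => perm276 (x : CG)
  obtain ⟨oB, oS, ocov⟩ := orb_ok
  obtain ⟨sB, sS, sfix, tne, t7⟩ := stab_ok
  simp only [List.all_eq_true, List.mem_range, Bool.and_eq_true, Bool.or_eq_true, Bool.not_eq_true',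
    Nat.beq_eq] at sfix
  have hfix : ∀ (x : MA), (∀ b, x * b = b * x) → ∀ (ws : List (List ℕ)) (p : Fin 276), stabFix ws p = true →
      stabFix ws (act x p) = true := by
    intro x hx ws p hp
    rw [stabFix, List.all_eq_true] at hp ⊢
    intro w hw
    have h := hp w hw
    rw [Nat.beq_eq, ← RA.cd_wel, ← act_eq] at h
    rw [Nat.beq_eq, ← RA.cd_wel, ← act_eq]
    have e : act (RA.wel w) (act x p) = act x p := by
      show perm276 (RA.wel w : CG) (perm276 (x : CG) p) = perm276 (x : CG) p
      rw [← Equiv.Perm.mul_apply, ← map_mul, ← Subgroup.coe_mul, ← hx, Subgroup.coe_mul, map_mul,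
        Equiv.Perm.mul_apply, Fin.ext h]
    exact congrArg Fin.val e
  have hgrow : ∀ (x : MA), (∀ b, x * b = b * x) → ∀ (p : ℕ) (l : List (ℕ × ℕ × ℕ)), orbOK p l = true →
      (∀ e ∈ l, e.1 < 276) → (∀ hp : p < 276, act x ⟨p, hp⟩ = ⟨p, hp⟩) → ∀ e ∈ l, ∀ he : e.1 < 276, act x ⟨e.1, he⟩ = ⟨e.1, he⟩ := by
    intro x hx p l hl hlt hp
    simp only [orbOK, Bool.and_eq_true, List.all_eq_true, List.mem_range, Bool.or_eq_true, Nat.blt_eq,
      List.any_eq_true, Nat.beq_eq] at hl
    suffices ∀ n, n < l.length → ∀ he : (l.getD n (0, 0, 0)).1 < 276, act x ⟨_, he⟩ = ⟨_, he⟩ by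
      intro e he he'
      obtain ⟨n, hn, rfl⟩ := List.mem_iff_getElem.1 he
      have := this n hn
      simp only [List.getD_eq_getElem _ _ hn] at this
      exact this he'
    intro n
    induction n using Nat.strong_induction_on with
    | _ n ih =>
      intro hn he
      rcases hl.2 n hn with rfl | ⟨hk, j, hj, ej, ed⟩
      · have := hp (hl.1 ▸ he); simp only [hl.1]; exact this
      · have hj' : (l.getD j (0, 0, 0)).1 < 276 := hlt _ (by rw [List.getD_eq_getElem _ _ (hj.trans hn)]; exact List.getElem_mem _)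
        have e1 := ih j hj (hj.trans hn) hj'
        have hg : act (ga (l.getD n (0, 0, 0)).2.2) ⟨_, hj'⟩ = ⟨_, he⟩ := Fin.ext (by
          show (perm276 (ga (l.getD n (0, 0, 0)).2.2 : CG) ⟨_, hj'⟩ : ℕ) = _
          rw [act_eq, cd_gen', ed])
        rw [← hg]
        show perm276 (x : CG) (perm276 (ga _ : CG) _) = perm276 (ga _ : CG) _
        rw [← Equiv.Perm.mul_apply, ← map_mul, ← Subgroup.coe_mul, hx, Subgroup.coe_mul, map_mul,
          Equiv.Perm.mul_apply]
        exact congrArg _ e1
  have horb : ∀ d ∈ orbBig ++ orbSmall, d.1 < 276 := fun d hd =>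
    Nat.blt_eq ▸ (List.all_eq_true.1 g63_lens.2.2.1 d hd)
  have trivial_of : ∀ x : MA, (∀ b, x * b = b * x) → act x 0 = 0 → x = 1 := by
    intro x hx h0
    have h7 : act x ⟨7, by norm_num⟩ = ⟨7, by norm_num⟩ := by
      have h := hfix x hx stabSmall ⟨7, by norm_num⟩ sS
      rcases (sfix (act x ⟨7, by norm_num⟩) (act x _).2).2 with h' | h'
      · rw [h] at h'; exact absurd h' Bool.noConfusion
      · exact Fin.ext h'
    refine Subtype.ext (perm276_injective (Equiv.ext fun i => ?_))
    rw [OneMemClass.coe_one, map_one]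
    simp only [List.all_eq_true, List.mem_range, List.any_eq_true, Nat.beq_eq] at ocov
    obtain ⟨e, he, hei⟩ := ocov i i.2
    rcases List.mem_append.1 he with he | he
    · have h := hgrow x hx 0 orbBig oB (fun d hd => horb d (List.mem_append_left _ hd)) (fun _ => h0) e he (hei ▸ i.2)
      simp only [hei] at h; exact h
    · have h := hgrow x hx 7 orbSmall oS (fun d hd => horb d (List.mem_append_right _ hd)) (fun _ => h7) e he (hei ▸ i.2)
      simp only [hei] at h; exact h
  have h := hfix a ha stabBig 0 sB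
  rcases (sfix (act a 0) (act a 0).2).1 with (h' | h') | h'
  · rw [h] at h'; exact absurd h' Bool.noConfusion
  · exact Or.inl (trivial_of a ha (Fin.ext h'))
  · refine Or.inr ?_
    have hc : ∀ b, a * tA * b = b * (a * tA) := fun b => by
      rw [mul_assoc, ← tA_comm, ← mul_assoc, ha, mul_assoc]
    have e : act (a * tA) 0 = 0 := by
      show perm276 ((a * tA : MA) : CG) 0 = 0
      rw [tA_comm, Subgroup.coe_mul, map_mul, Equiv.Perm.mul_apply]
      apply Fin.ext
      rw [act_eq, cd_tA, h']
      exact g63_lens.2.2.2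
    have := trivial_of _ hc e
    rwa [mul_eq_one_iff_eq_inv, inv_eq_of_mul_eq_one_right tA_sq] at this

theorem piA_tA : piA tA = 1 := permHom_injective hF2 (by
  rw [piA_spec, map_one]
  exact Equiv.ext fun i => show qf tA i = i from qf_eq (s := false) (by rw [show tp false = 1 from rfl, mul_one, tA_comm]))

theorem piA_ker (a : MA) : piA a = 1 ↔ a = 1 ∨ a = tA := by
  refine ⟨fun h => central_cases (ker_central h), ?_⟩
  rintro (rfl | rfl)
  exacts [map_one _, piA_tA]

theorem card_MA : Nat.card MA = 2903040 := by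
  have hk : Nat.card piA.ker = 2 := by
    rw [Nat.card_eq_two_iff]
    refine ⟨1, ⟨tA, piA_tA⟩, fun h => tA_ne (congrArg Subtype.val h).symm, ?_⟩
    refine Set.eq_univ_of_forall fun x => ?_
    rcases (piA_ker x.1).1 x.2 with h | h
    · exact Or.inl (Subtype.ext h)
    · exact Or.inr (Subtype.ext h)
  rw [← Subgroup.card_mul_index piA.ker, hk, Subgroup.index_ker, MonoidHom.range_eq_top.2 piA_surj,
    Subgroup.card_top, card_sp hF2]

end Cfsg.Agent.Spor.CoThreeCent
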