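import Cfsg.Agent.Lib.Spor.CoThreeCent.SecondModel

/-!
Involutions of the group inside and outside the copy of the Conway group.
-/

set_option autoImplicit false
set_option maxRecDepth 100000
set_option maxHeartbeats 1000000
set_option linter.style.haveILetI false

namespace Cfsg.Agent.Spor.CoThreeCent

open DCoset
open Lie.ConwayThreeOut (CG)

attribute [local irreducible] mu pack cert idC tC sigC xL uC vC vv dhL dh aC aIdx tauIdx wIdx

/-- two involutions that are not conjugate have a third one in the dihedral group they generate -/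
theorem dihedral_middle {G : Type*} [Group G] [Finite G] {x t : G} (xx : x * x = 1) (tt : t * t = 1)
    (hne : ¬ IsConj t x) :
    ∃ z : G, z * z = 1 ∧ z ≠ 1 ∧ Commute z t ∧ Commute z x ∧ (IsConj t (t * z) ∨ IsConj t (x * z)) ∧
      ∀ w, Commute x w → Commute t w → Commute z w := by
  set d := x * t with hd
  have tdt : t * d = d⁻¹ * t := by
    rw [hd, mul_inv_rev, inv_eq_of_mul_eq_one_right tt, inv_eq_of_mul_eq_one_right xx, ← mul_assoc]
  have tpow : ∀ k : ℕ, t * d ^ k = (d ^ k)⁻¹ * t := by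
    intro k
    induction k with
    | zero => simp
    | succ k ih =>
      rw [pow_succ, ← mul_assoc, ih, mul_assoc, tdt, ← mul_assoc, ← mul_inv_rev, ← pow_succ', pow_succ]
  have conjpow : ∀ k : ℕ, d ^ k * t * (d ^ k)⁻¹ = d ^ (2 * k) * t := by
    intro k
    rw [show d ^ (2 * k) = d ^ k * d ^ k by rw [two_mul, pow_add]]
    calc d ^ k * t * (d ^ k)⁻¹ = d ^ k * ((d ^ k) * ((d ^ k)⁻¹ * t)) * (d ^ k)⁻¹ := by group
      _ = d ^ k * ((d ^ k) * (t * d ^ k)) * (d ^ k)⁻¹ := by rw [tpow]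
      _ = d ^ k * d ^ k * t := by group
  have xd : x = d * t := by rw [hd, mul_assoc, tt, mul_one]
  rcases Nat.even_or_odd' (orderOf d) with ⟨m, hm | hm⟩
  swap
  · refine absurd (isConj_iff.2 ⟨d ^ (m + 1), ?_⟩) hne
    rw [conjpow, xd, show 2 * (m + 1) = orderOf d + 1 by omega, pow_succ, pow_orderOf_eq_one, one_mul]
  have hpos : 0 < orderOf d := orderOf_pos d
  set z := d ^ m with hzdef
  have zz : z * z = 1 := by rw [hzdef, ← pow_add, show m + m = orderOf d by omega, pow_orderOf_eq_one]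
  have zt : Commute z t := by
    show z * t = t * z
    rw [hzdef, tpow, ← hzdef, inv_eq_of_mul_eq_one_right zz]
  have zx : Commute z x := by
    rw [xd]
    exact (((Commute.refl d).pow_right m).mul_left zt.symm).symm
  refine ⟨z, zz, pow_ne_one_of_lt_orderOf (by omega) (by omega), zt, zx, ?_,
    fun w hx ht => (hx.mul_left ht).pow_left m⟩
  rcases Nat.even_or_odd' m with ⟨j, hj | hj⟩
  · refine Or.inl (isConj_iff.2 ⟨d ^ j, ?_⟩)
    rw [conjpow, ← hj, ← hzdef, zt.eq]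
  · refine Or.inr (isConj_iff.2 ⟨d ^ (j + 1), ?_⟩)
    rw [conjpow, show 2 * (j + 1) = m + 1 by omega, pow_succ, ← hzdef, ← zx.eq, mul_assoc, ← xd]

/-- an embedding of the Conway group extending the identification of the centralizer -/
structure Emb.Copy {G : Type*} [Group G] (E : Emb G) where
  ι : CG →* G
  inj : Function.Injective ι
  on_MA : ∀ a : MA, ι (a : CG) = E.φ a

namespace Emb

variable {G : Type*} [Group G] {E : Emb G} (K : E.Copy)

/-- the copy -/
def Copy.X : Subgroup G := K.ι.range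

theorem Copy.phi_mem (a : MA) : E.φ a ∈ K.X := ⟨_, K.on_MA a⟩

theorem Copy.cent_t {g : G} (h : Commute g E.t) : g ∈ K.X := by
  obtain ⟨a, rfl⟩ := E.mem_range h
  exact K.phi_mem a

include K in
theorem Copy.fuse : IsConj E.t (E.φ uA) := by
  refine isConj_iff.2 ⟨K.ι sigM, ?_⟩
  show K.ι sigM * E.φ tA * (K.ι sigM)⁻¹ = E.φ uA
  rw [← vM_one, ← vM_two, ← K.on_MA, ← K.on_MA, ← map_inv, ← map_mul, ← map_mul, sigM_inv, sig_vM.1]

include K in
theorem Copy.isA_G {z : MA} (h : isA (RA.cd z) = true) : IsConj E.t (E.φ z) := by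
  rcases isA_conj h with rfl | h'
  · exact IsConj.refl _
  · exact K.fuse.trans (E.φ.map_isConj h')

theorem isB_G {z : MA} (h : isB (RA.cd z) = true) : IsConj (E.φ vA) (E.φ z) := E.φ.map_isConj (isB_conj h)

/-- the two classes stay apart -/
theorem not_AB {x : G} (ha : IsConj E.t x) (hb : IsConj (E.φ vA) x) : False := by
  obtain ⟨g, hg⟩ := isConj_iff.1 (ha.trans hb.symm)
  exact E.not_v g (IsConj.refl vA) hg

/-- involutions of the copy -/
theorem Copy.classes {x : G} (hx : x ∈ K.X) (xx : x * x = 1) (x1 : x ≠ 1) :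
    (∃ k ∈ K.X, k * E.t * k⁻¹ = x) ∨ (∃ k ∈ K.X, k * E.φ vA * k⁻¹ = x) := by
  obtain ⟨y, rfl⟩ := hx
  rcases invol_CG (y := y) (K.inj (by rw [map_mul, map_one, xx])) (fun h => x1 (by rw [h, map_one])) with h | h <;>
    obtain ⟨k, hk⟩ := isConj_iff.1 h
  · refine Or.inl ⟨K.ι k, ⟨k, rfl⟩, ?_⟩
    show K.ι k * E.φ tA * (K.ι k)⁻¹ = K.ι y
    rw [← K.on_MA, ← map_inv, ← map_mul, ← map_mul, hk]
  · refine Or.inr ⟨K.ι k, ⟨k, rfl⟩, ?_⟩
    rw [← K.on_MA, ← map_inv, ← map_mul, ← map_mul, hk]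

/-- the centralizer of an involution of the first class in the copy lies in it -/
theorem Copy.cent_A {z : G} (hz : z ∈ K.X) (h : IsConj E.t z) {g : G} (hg : Commute g z) : g ∈ K.X := by
  obtain ⟨c, hc⟩ := isConj_iff.1 h
  have zz : z * z = 1 := by rw [← hc, show c * E.t * c⁻¹ * (c * E.t * c⁻¹) = c * (E.t * E.t) * c⁻¹ by group, E.t_sq]; group
  have z1 : z ≠ 1 := fun e => E.t_ne (conj_eq_one_iff.1 (hc.trans e))
  rcases K.classes hz zz z1 with ⟨k, hk, e⟩ | ⟨k, hk, e⟩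
  · rw [← e] at hg
    have hc' : Commute (k⁻¹ * g * k) E.t := by
      show k⁻¹ * g * k * E.t = E.t * (k⁻¹ * g * k)
      calc k⁻¹ * g * k * E.t = k⁻¹ * (g * (k * E.t * k⁻¹)) * k := by group
        _ = k⁻¹ * (k * E.t * k⁻¹ * g) * k := by rw [hg.eq]
        _ = E.t * (k⁻¹ * g * k) := by group
    rw [show g = k * (k⁻¹ * g * k) * k⁻¹ by group]
    exact mul_mem (mul_mem hk (K.cent_t hc')) (inv_mem hk)
  · exact (not_AB h (isConj_iff.2 ⟨k, e⟩)).elim

theorem Copy.conj_t_mem {g : G} (hg : g * E.t * g⁻¹ ∈ K.X) : g ∈ K.X := by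
  have zz : g * E.t * g⁻¹ * (g * E.t * g⁻¹) = 1 := by
    rw [show g * E.t * g⁻¹ * (g * E.t * g⁻¹) = g * (E.t * E.t) * g⁻¹ by group, E.t_sq]; group
  have z1 : g * E.t * g⁻¹ ≠ 1 := fun e => E.t_ne (conj_eq_one_iff.1 e)
  rcases K.classes hg zz z1 with ⟨k, hk, e⟩ | ⟨k, hk, e⟩
  · rw [show g = k * (k⁻¹ * g) by group]
    refine mul_mem hk (K.cent_t ?_)
    show k⁻¹ * g * E.t = E.t * (k⁻¹ * g)
    calc k⁻¹ * g * E.t = k⁻¹ * (g * E.t * g⁻¹) * g := by group
      _ = k⁻¹ * (k * E.t * k⁻¹) * g := by rw [e]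
      _ = E.t * (k⁻¹ * g) := by group
  · exact (not_AB (isConj_iff.2 ⟨g, rfl⟩) (isConj_iff.2 ⟨k, e⟩)).elim

end Emb

end Cfsg.Agent.Spor.CoThreeCent
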