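import Cfsg.Agent.Lib.Spor.CoThreeCent.FusionChecks
import Cfsg.Agent.Lib.Spor.CoThreeCent.SecondData

/-!
Kernel checks for the centralizer of the second involution class.
-/

set_option autoImplicit false
set_option maxRecDepth 100000
set_option maxHeartbeats 0
set_option Elab.async false

namespace Cfsg.Agent.Spor.CoThreeCent

open DCoset

/-- value of a node of the first program -/
def hdVal (j : ℕ) : ℕ := bif Nat.blt j 6 then cert.gens.getD j 0 else hdVals.getD (Nat.sub j 6) 0

/-- value of a node of the second program -/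
def coVal (j : ℕ) : ℕ := bif Nat.blt j 7 then (cert.gens ++ [sigC]).getD j 0 else coVals.getD (Nat.sub j 7) 0

/-- pairwise distinct -/
def nodupB : List ℕ → Bool
  | [] => true
  | x :: xs => xs.all (fun y => !Nat.beq x y) && nodupB xs

/-- an element of the list -/
def dh (i : ℕ) : ℕ := dhL.getD i 0

/-- code of the partner -/
def aC : ℕ := dh aIdx

/-- the four-group -/
def v4C (v : ℕ) : ℕ := [idC, aC, vC, mu aC vC].getD v idC

/-- an element of the second class -/
def isB (x : ℕ) : Bool := Nat.beq (mu x x) idC && !Nat.beq x idC && !Nat.beq x tC && !cert.pts.elem x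

/-- an element of the first class -/
def isA (x : ℕ) : Bool := Nat.beq x tC || cert.pts.elem x

theorem hd_ok : hdOps.length = hdVals.length ∧ ((List.range hdOps.length).all fun i =>
    Nat.blt (hdOps.getD i (0, 0)).1 (i + 6) && Nat.blt (hdOps.getD i (0, 0)).2 (i + 6) &&
      Nat.beq (mu (hdVal (hdOps.getD i (0, 0)).1) (hdVal (hdOps.getD i (0, 0)).2)) (hdVals.getD i 0)) = true ∧
    (hdRoots.all fun r => Nat.blt r (hdOps.length + 6) &&
      Nat.beq (mu (hdVal r) vC) (mu vC (hdVal r))) = true := by decide +kernel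

theorem co_ok : coOps.length = coVals.length ∧ ((List.range coOps.length).all fun i =>
    Nat.blt (coOps.getD i (0, 0)).1 (i + 7) && Nat.blt (coOps.getD i (0, 0)).2 (i + 7) &&
      Nat.beq (mu (coVal (coOps.getD i (0, 0)).1) (coVal (coOps.getD i (0, 0)).2)) (coVals.getD i 0)) = true ∧
    coRoots.length = 2 ∧ (coRoots.all fun r => Nat.blt r (coOps.length + 7) &&
      Nat.beq (mu (coVal r) vC) (mu vC (coVal r)) && Nat.beq (mu (coVal r) aC) (mu aC (coVal r))) = true := by
  decide +kernel

theorem dh_tree : dhL.length = 384 ∧ dhTree.length = 383 ∧ dh 0 = idC ∧ ((List.range 383).all fun i =>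
    Nat.blt (dhTree.getD i (0, 0)).1 (i + 1) && Nat.blt (dhTree.getD i (0, 0)).2 hdRoots.length &&
      Nat.beq (mu (dh (dhTree.getD i (0, 0)).1) (hdVal (hdRoots.getD (dhTree.getD i (0, 0)).2 0))) (dh (i + 1))) = true := by
  decide +kernel

theorem dh_nodup : nodupB dhL = true := by decide +kernel

theorem a_ok : aIdx < 384 ∧ tauIdx < 384 ∧ wIdx < 384 ∧ mu aC vC = mu vC aC ∧ mu aC tC = mu tC aC ∧
    mu vC tC = mu tC vC ∧ isB aC = true ∧ isB (mu aC vC) = true ∧
    ((List.range 4).all fun v => bif Nat.beq v 0 then true else isB (mu tC (v4C v))) = true ∧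
    mu (dh tauIdx) aC = mu aC (dh tauIdx) ∧
    ((List.range 4).all fun v => isB (mu (dh tauIdx) (v4C v))) = true ∧
    mu (dh wIdx) aC = mu aC (dh wIdx) ∧ ((List.range 4).any fun v => Nat.beq (mu (dh wIdx) (dh wIdx)) (mu tC (v4C v))) = true ∧
    isB (mu tC vC) = true := by decide +kernel

theorem conjw_ok : conjI.length = 3 ∧ (conjI.all fun i => Nat.blt i 384) = true ∧
    mu (dh (conjI.getD 2 0)) (dh (conjI.getD 0 0)) = mu (dh (conjI.getD 0 0)) aC ∧
    mu (mu (dh (conjI.getD 2 0)) tC) (dh (conjI.getD 1 0)) = mu (dh (conjI.getD 1 0)) aC := by decide +kernel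

/-- an involution of the list is of the first class up to the second involution, or a listed conjugate -/
def allBRow (k : ℕ) : Bool :=
  bif Nat.beq (mu (dh k) (dh k)) idC then
    Nat.beq (dh k) idC || Nat.beq (dh k) vC || isA (dh k) || isA (mu (dh k) vC) ||
      allBW.any fun r => Nat.beq r.1 k && Nat.blt r.2.1 384 &&
        Nat.beq (mu (dh r.2.1) (bif Nat.beq r.2.2 0 then aC else mu aC vC)) (mu (dh k) (dh r.2.1))
  else true

theorem allB_all : ((List.range 384).all allBRow) = true := by decide +kernel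

end Cfsg.Agent.Spor.CoThreeCent
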