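import Cfsg.Agent.Lib.Spor.CoThreeCent.Glue
import Cfsg.Agent.Lib.Spor.CoThreeCent.FiveChecks

/-!
The centralizer of the second class inside the centralizer, and the classes of involutions of the Conway group.
-/

set_option autoImplicit false
set_option maxRecDepth 100000
set_option maxHeartbeats 1000000
set_option linter.style.haveILetI false

namespace Cfsg.Agent.Spor.CoThreeCent

open DCoset
open Lie.ConwayThreeOut (CG perm276 card_CG)

attribute [local irreducible] mu pack cert idC tC sigC xL uC vC vv dhL dh keyW imgL hdVals coVals hdVal coVal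

theorem nodup_of_nodupB : ∀ {l : List ℕ}, nodupB l = true → l.Nodup
  | [], _ => List.nodup_nil
  | x :: xs, h => by
    simp only [nodupB, Bool.and_eq_true, List.all_eq_true, Bool.not_eq_true'] at h
    refine List.nodup_cons.2 ⟨fun hx => ?_, nodup_of_nodupB h.2⟩
    have := h.1 x hx
    rw [Nat.beq_refl] at this
    exact Bool.noConfusion this

theorem prog_realize (K : Subgroup CG) {ops : List (ℕ × ℕ)} {val : ℕ → ℕ} {n0 : ℕ}
    (base : ∀ j < n0, ∃ g ∈ K, cdG g = val j)
    (step : ∀ i < ops.length, (ops.getD i (0, 0)).1 < i + n0 ∧ (ops.getD i (0, 0)).2 < i + n0 ∧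
      mu (val (ops.getD i (0, 0)).1) (val (ops.getD i (0, 0)).2) = val (n0 + i)) :
    ∀ j < n0 + ops.length, ∃ g ∈ K, cdG g = val j := by
  intro j
  induction j using Nat.strong_induction_on with
  | _ j ih =>
    intro hj
    by_cases h0 : j < n0
    · exact base j h0
    · obtain ⟨h1, h2, h3⟩ := step (j - n0) (by omega)
      obtain ⟨g, hg, eg⟩ := ih _ (by omega : (ops.getD (j - n0) (0, 0)).1 < j) (by omega)
      obtain ⟨g', hg', eg'⟩ := ih _ (by omega : (ops.getD (j - n0) (0, 0)).2 < j) (by omega)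
      exact ⟨g * g', mul_mem hg hg', by rw [cdG_mul, eg, eg', h3, show n0 + (j - n0) = j by omega]⟩

theorem hdVal_low {j : ℕ} (hj : j < 6) : hdVal j = cert.gens.getD j 0 := by
  rw [hdVal, (Nat.blt_eq ▸ hj : Nat.blt j 6 = true), cond_true]

theorem hdVal_high (i : ℕ) : hdVal (6 + i) = hdVals.getD i 0 := by
  rw [hdVal, show Nat.blt (6 + i) 6 = false from Bool.eq_false_iff.2 fun e => by rw [Nat.blt_eq] at e; omega, cond_false]
  show hdVals.getD (6 + i - 6) 0 = _
  rw [show 6 + i - 6 = i by omega]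

theorem coVal_low {j : ℕ} (hj : j < 7) : coVal j = (cert.gens ++ [sigC]).getD j 0 := by
  rw [coVal, (Nat.blt_eq ▸ hj : Nat.blt j 7 = true), cond_true]

theorem coVal_high (i : ℕ) : coVal (7 + i) = coVals.getD i 0 := by
  rw [coVal, show Nat.blt (7 + i) 7 = false from Bool.eq_false_iff.2 fun e => by rw [Nat.blt_eq] at e; omega, cond_false]
  show coVals.getD (7 + i - 7) 0 = _
  rw [show 7 + i - 7 = i by omega]

theorem hd_root {r : ℕ} (hr : r ∈ hdRoots) : ∃ z : MA, RA.cd z = hdVal r ∧ Commute z vA := by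
  obtain ⟨-, hall, hroot⟩ := hd_ok
  have h := List.all_eq_true.1 hroot r hr
  rw [Bool.and_eq_true, Nat.blt_eq, Nat.beq_eq] at h
  obtain ⟨g, hg, eg⟩ := prog_realize Hm (ops := hdOps) (val := hdVal) (n0 := 6)
    (fun j hj => ⟨mg j, Subgroup.subset_closure ⟨⟨j, hj⟩, rfl⟩, by
      rw [cdG_mg (by omega), hdVal_low hj, List.getD_append _ _ _ _ (by rw [gens_len]; exact hj),
        List.getD_eq_getElem _ _ (by rw [gens_len]; exact hj), List.getD_eq_getElem _ _ (by rw [gens_len]; exact hj)]⟩)
    (fun i hi => by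
      have h := List.all_eq_true.1 hall i (List.mem_range.2 hi)
      simp only [Bool.and_eq_true, Nat.blt_eq, Nat.beq_eq] at h
      exact ⟨h.1.1, h.1.2, by rw [hdVal_high, h.2]⟩) r (by omega)
  refine ⟨⟨g, hg⟩, eg, eqA ?_⟩
  rw [cd_mulA, cd_mulA, cd_vA, show RA.cd ⟨g, hg⟩ = hdVal r from eg, h.2]

theorem co_root {j : ℕ} (hj : j < 2) :
    ∃ g : CG, cdG g = coVal (coRoots.getD j 0) ∧ mu (cdG g) vC = mu vC (cdG g) ∧ mu (cdG g) aC = mu aC (cdG g) := by
  obtain ⟨-, hall, hlen, hroot⟩ := co_ok
  have h := List.all_eq_true.1 hroot (coRoots.getD j 0) (by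
    rw [List.getD_eq_getElem _ _ (hlen.symm ▸ hj)]; exact List.getElem_mem _)
  simp only [Bool.and_eq_true, Nat.blt_eq, Nat.beq_eq] at h
  obtain ⟨g, -, eg⟩ := prog_realize ⊤ (ops := coOps) (val := coVal) (n0 := 7)
    (fun j hj => ⟨mg j, Subgroup.mem_top _, by
      rw [cdG_mg hj, coVal_low hj, List.getD_eq_getElem _ _ (by rw [List.length_append, gens_len]; simpa using hj),
        List.getD_eq_getElem _ _ (by rw [List.length_append, gens_len]; simpa using hj)]⟩)
    (fun i hi => by
      have h := List.all_eq_true.1 hall i (List.mem_range.2 hi)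
      simp only [Bool.and_eq_true, Nat.blt_eq, Nat.beq_eq] at h
      exact ⟨h.1.1, h.1.2, by rw [coVal_high, h.2]⟩) (coRoots.getD j 0) (by omega)
  exact ⟨g, eg, eg ▸ h.1.2, eg ▸ h.2⟩

theorem dh_exists : ∀ i < 384, ∃ z : MA, RA.cd z = dh i ∧ Commute z vA := by
  obtain ⟨-, -, h0, hall⟩ := dh_tree
  intro i
  induction i using Nat.strong_induction_on with
  | _ i ih =>
    intro hi
    cases i with
    | zero => exact ⟨1, by rw [cd_oneA, h0], Commute.one_left _⟩
    | succ i =>
      have h := List.all_eq_true.1 hall i (List.mem_range.2 (by omega))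
      simp only [Bool.and_eq_true, Nat.blt_eq, Nat.beq_eq] at h
      obtain ⟨z, ez, cz⟩ := ih _ h.1.1 (by omega)
      obtain ⟨g, eg, cg⟩ := hd_root (r := hdRoots.getD (dhTree.getD i (0, 0)).2 0) (by
        rw [List.getD_eq_getElem _ _ h.1.2]; exact List.getElem_mem _)
      exact ⟨z * g, by rw [cd_mulA, ez, eg, h.2], cz.mul_left cg⟩

/-- an element of the list -/
noncomputable def dA (i : ℕ) : MA := if hi : i < 384 then (dh_exists i hi).choose else 1

theorem cd_dA {i : ℕ} (hi : i < 384) : RA.cd (dA i) = dh i := by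
  rw [dA, dif_pos hi]; exact (dh_exists i hi).choose_spec.1

theorem dA_comm {i : ℕ} (hi : i < 384) : Commute (dA i) vA := by
  rw [dA, dif_pos hi]; exact (dh_exists i hi).choose_spec.2

/-- a key of a code -/
def keyC (x : ℕ) : ℕ := (keyPts.map fun p => dig x p).foldr (fun d r => d + 512 * r) 0

theorem key_pts : (keyPts.all fun p => Nat.blt p 276) = true := by decide +kernel

theorem imgL_act (w : List ℕ) (p : Fin 276) : imgL w p = (perm276 (RA.wel w : CG) p : ℕ) := by
  suffices h : ∀ (w : List ℕ) (p : Fin 276), imgL w p = (perm276 (RA.wel w : CG) p : ℕ) from h w p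
  intro w
  induction w using List.reverseRecOn with
  | nil => intro p; simp [imgL, Rep.wel]
  | append_singleton w k ih =>
    intro p
    have e : imgL (w ++ [k]) p = imgL w (dig (cert.gens.getD k idC) p) := by
      rw [imgL, List.foldr_append, List.foldr_cons, List.foldr_nil, imgL]
    rw [e, ← cd_gen', ← act_eq, ih, wel_append, wel_single, Subgroup.coe_mul, map_mul]
    rfl

theorem keyW_eq (w : List ℕ) (hw : ∀ k ∈ w, k < 6) : keyW w = keyC (RA.cd (RA.wel w * vA * (RA.wel w)⁻¹)) := by
  rw [keyW, keyC]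
  congr 1
  refine List.map_congr_left fun p hp => ?_
  have hp' : p < 276 := by
    have := List.all_eq_true.1 key_pts p hp
    rwa [Nat.blt_eq] at this
  rw [show w.reverse.map (fun k => ivL.getD k 0) = wInv w from (wInv.eq_def w).symm, imgL_act (wInv w) ⟨p, hp'⟩,
    ← cd_vA, ← act_eq, imgL_act w, wel_inv w hw, ← act_eq _ ⟨p, hp'⟩, Subgroup.coe_mul, Subgroup.coe_mul, map_mul,
    map_mul]
  rfl

theorem key_step {n : ℕ} (hn : n + 1 < 7560) :
    keyW ((vOrbCs.getD (n / 252) []).getD (n % 252) []) <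
      keyW ((vOrbCs.getD ((n + 1) / 252) []).getD ((n + 1) % 252) []) := by
  have hs := orb_shape
  simp only [Bool.and_eq_true, Nat.beq_eq, List.all_eq_true] at hs
  have hblk : ∀ j < 30, keyBlock j = true := fun j hj => by
    by_cases h1 : j < 8
    · exact List.all_eq_true.1 keys0 j (List.mem_range'_1.2 ⟨by omega, by omega⟩)
    by_cases h2 : j < 16
    · exact List.all_eq_true.1 keys1 j (List.mem_range'_1.2 ⟨by omega, by omega⟩)
    by_cases h3 : j < 23
    · exact List.all_eq_true.1 keys2 j (List.mem_range'_1.2 ⟨by omega, by omega⟩)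
    exact List.all_eq_true.1 keys3 j (List.mem_range'_1.2 ⟨by omega, by omega⟩)
  have hlen : ∀ j < 30, (vOrbCs.getD j []).length = 252 := fun j hj => by
    rw [List.getD_eq_getElem _ _ (hs.1.symm ▸ hj)]; exact hs.2 _ (List.getElem_mem _)
  by_cases hlast : n % 252 = 251
  · have h := hblk (n / 252 + 1) (by omega)
    have hl := hlen (n / 252 + 1) (by omega)
    simp only [keyBlock, Bool.and_eq_true, Bool.or_eq_true, Nat.beq_eq, Nat.blt_eq] at h
    have h2 := h.2.resolve_left (by omega)
    rw [show n / 252 + 1 - 1 = n / 252 from rfl] at h2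
    rw [hlast, show (n + 1) / 252 = n / 252 + 1 by omega, show (n + 1) % 252 = 0 by omega]
    refine h2.trans_le (le_of_eq ?_)
    cases hc : vOrbCs.getD (n / 252 + 1) [] with
    | nil => rw [hc] at hl; simp at hl
    | cons a l => rfl
  · have h := hblk (n / 252) (by omega)
    have hl := hlen (n / 252) (by omega)
    simp only [keyBlock, Bool.and_eq_true, List.all_eq_true, Nat.blt_eq] at h
    rw [show (n + 1) / 252 = n / 252 by omega, show (n + 1) % 252 = n % 252 + 1 by omega,
      List.getD_eq_getElem _ _ (show n % 252 < (vOrbCs.getD (n / 252) []).length by omega),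
      List.getD_eq_getElem _ _ (show n % 252 + 1 < (vOrbCs.getD (n / 252) []).length by omega)]
    have := h.1.2 (keyW (vOrbCs.getD (n / 252) [])[n % 252], keyW (vOrbCs.getD (n / 252) [])[n % 252 + 1])
      (List.mem_iff_getElem.2 ⟨n % 252, by rw [List.length_zip, List.length_tail, List.length_map]; omega, by simp⟩)
    exact this

theorem orb_word {n : ℕ} (hn : n < 7560) : ∀ k ∈ (vOrbCs.getD (n / 252) []).getD (n % 252) [], k < 6 := by
  have hs := orb_shape
  simp only [Bool.and_eq_true, Nat.beq_eq, List.all_eq_true] at hs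
  have hj : n / 252 < 30 := by omega
  have hblk : keyBlock (n / 252) = true := by
    by_cases h1 : n / 252 < 8
    · exact List.all_eq_true.1 keys0 _ (List.mem_range'_1.2 ⟨by omega, by omega⟩)
    by_cases h2 : n / 252 < 16
    · exact List.all_eq_true.1 keys1 _ (List.mem_range'_1.2 ⟨by omega, by omega⟩)
    by_cases h3 : n / 252 < 23
    · exact List.all_eq_true.1 keys2 _ (List.mem_range'_1.2 ⟨by omega, by omega⟩)
    exact List.all_eq_true.1 keys3 _ (List.mem_range'_1.2 ⟨by omega, by omega⟩)
  simp only [keyBlock, Bool.and_eq_true, List.all_eq_true, Nat.blt_eq] at hblk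
  intro k hk
  have hl : n % 252 < (vOrbCs.getD (n / 252) []).length := by
    rw [List.getD_eq_getElem _ _ (hs.1.symm ▸ hj), hs.2 _ (List.getElem_mem _)]; omega
  rw [List.getD_eq_getElem _ _ hl] at hk
  exact hblk.1.1 _ (List.getElem_mem _) k hk

/-- the centralizer of the second involution in the centralizer is the list -/
theorem cent_list {z : MA} (hz : Commute z vA) : ∃ i < 384, z = dA i := by
  classical
  haveI := Fintype.ofFinite MA
  let C : Subgroup MA := Subgroup.centralizer {vA}
  let f : Fin 7560 × C → MA := fun x => RA.wel ((vOrbCs.getD (x.1 / 252) []).getD (x.1 % 252) []) * x.2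
  have hf : Function.Injective f := by
    rintro ⟨i, a⟩ ⟨j, b⟩ e
    simp only [f] at e
    have hc : ∀ a : C, (a : MA) * vA * (a : MA)⁻¹ = vA := fun a => by
      rw [Subgroup.mem_centralizer_singleton_iff.1 a.2, mul_inv_cancel_right]
    have h : ∀ (n : Fin 7560) (a : C), keyC (RA.cd (RA.wel ((vOrbCs.getD (n / 252) []).getD (n % 252) []) * a * vA *
        (RA.wel ((vOrbCs.getD (n / 252) []).getD (n % 252) []) * a)⁻¹)) =
        keyW ((vOrbCs.getD (n / 252) []).getD (n % 252) []) := fun n a => by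
      rw [keyW_eq _ (orb_word n.2)]
      congr 2
      rw [mul_inv_rev, show ∀ x : MA, x * a * vA * ((a : MA)⁻¹ * x⁻¹) = x * ((a : MA) * vA * (a : MA)⁻¹) * x⁻¹ from
        fun x => by group, hc]
    have hk := (h i a).symm.trans ((congrArg (fun y => keyC (RA.cd (y * vA * y⁻¹))) e).trans (h j b))
    have mono : StrictMono fun n : Fin 7560 => keyW ((vOrbCs.getD (n / 252) []).getD (n % 252) []) :=
      Fin.strictMono_iff_lt_succ.2 fun n => key_step (n := (n : ℕ)) (by have := n.2; omega)
    obtain rfl : i = j := mono.injective hk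
    exact Prod.ext rfl (Subtype.ext (mul_left_cancel e))
  have hle := Nat.card_le_card_of_injective f hf
  rw [Nat.card_prod, Nat.card_fin, card_MA] at hle
  let g : Fin 384 → C := fun i => ⟨dA i, Subgroup.mem_centralizer_singleton_iff.2 (dA_comm i.2).eq⟩
  have hg : Function.Injective g := fun i j h => by
    have e := congrArg (fun x : C => RA.cd (x : MA)) h
    simp only [g, cd_dA i.2, cd_dA j.2] at e
    rw [dh, dh, List.getD_eq_getElem _ _ (dh_tree.1.symm ▸ i.2), List.getD_eq_getElem _ _ (dh_tree.1.symm ▸ j.2)] at e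
    exact Fin.ext ((nodup_of_nodupB dh_nodup).getElem_inj_iff.1 e)
  obtain ⟨i, hi⟩ := ((Nat.bijective_iff_injective_and_card g).2 ⟨hg, le_antisymm (Nat.card_le_card_of_injective g hg)
    (by rw [Nat.card_fin]; omega)⟩).2 ⟨z, Subgroup.mem_centralizer_singleton_iff.2 hz.eq⟩
  exact ⟨i, i.2, (congrArg Subtype.val hi).symm⟩

theorem isB_conj {z : MA} (h : isB (RA.cd z) = true) : IsConj vA z := by
  simp only [isB, Bool.and_eq_true, Nat.beq_eq, Bool.not_eq_true'] at h
  obtain ⟨⟨⟨h2, h1⟩, ht⟩, hu⟩ := h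
  rcases invol_cases (y := z) (eqA (by rw [cd_mulA, h2, cd_oneA])) with rfl | rfl | h' | h'
  · rw [cd_oneA, Nat.beq_refl] at h1; exact Bool.noConfusion h1
  · rw [cd_tA, Nat.beq_refl] at ht; exact Bool.noConfusion ht
  · rw [List.elem_iff.2 (conj_in_pts h')] at hu; exact Bool.noConfusion hu
  · exact h'

theorem isA_conj {z : MA} (h : isA (RA.cd z) = true) : z = tA ∨ IsConj uA z := by
  simp only [isA, Bool.or_eq_true, Nat.beq_eq] at h
  rcases h with h | h
  · exact Or.inl (eqA (by rw [h, cd_tA]))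
  · exact Or.inr (conj_of_mem (List.mem_of_elem_eq_true h))

theorem card_CG_two : (Nat.card CG).factorization 2 = 10 := by
  rw [card_CG, show (495766656000 : ℕ) = 2 ^ 10 * 484147125 by norm_num, Nat.factorization_mul (by norm_num) (by norm_num),
    Nat.Prime.factorization_pow Nat.prime_two]
  simp [Nat.factorization_eq_zero_of_not_dvd (show ¬(2 ∣ 484147125) by norm_num)]

/-- the involutions of the Conway group -/
theorem invol_CG {y : CG} (hy : y * y = 1) (h1 : y ≠ 1) : IsConj (tA : CG) y ∨ IsConj (vA : CG) y := by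
  haveI := Lie.ConwayThreeOut.finite_CG
  obtain ⟨g, hg⟩ := conj_two (sylA.map Hm.subtype) card_CG_two
    (by rw [Subgroup.card_map_of_injective Hm.subtype_injective, card_sylA]) (j := 1) (z := y) (by rw [pow_one, pow_two, hy])
  obtain ⟨x, -, hx⟩ := hg
  have hxy : IsConj (x : CG) y := isConj_iff.2 ⟨g⁻¹, by rw [show (x : CG) = g * y * g⁻¹ from hx]; group⟩
  have hut : IsConj (tA : CG) (uA : CG) := by
    refine isConj_iff.2 ⟨sigM, ?_⟩
    rw [← vM_one, ← vM_two, sigM_inv, sig_vM.1]
  rcases invol_cases (y := x) (Subtype.ext (by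
      rw [Subgroup.coe_mul, show (x : CG) = g * y * g⁻¹ from hx,
        show g * y * g⁻¹ * (g * y * g⁻¹) = g * (y * y) * g⁻¹ by group, hy, mul_one, mul_inv_cancel]
      rfl)) with rfl | rfl | h | h
  · exact absurd (isConj_one_right.1 hxy) h1
  · exact Or.inl hxy
  · exact Or.inl (hut.trans ((Hm.subtype.map_isConj h).trans hxy))
  · exact Or.inr ((Hm.subtype.map_isConj h).trans hxy)

end Cfsg.Agent.Spor.CoThreeCent
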